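import Cfsg.Agent.Lib.AltGroups.ZassenhausBasic
import Cfsg.Agent.Lib.RealChar.ZassenhausBasic
import Cfsg.Agent.Lib.RealChar.ZassenhausOdd
import Cfsg.Agent.Lib.Frobenius.Kernel
import Mathlib.GroupTheory.PGroup
import Mathlib.Tactic

/-!
Normal subgroups of Zassenhaus groups; Zassenhaus groups of odd degree are simple.
-/

set_option autoImplicit false

open MulAction

namespace CfsgLib.SharplyEven

open CfsgLib.RealChar.Zassenhaus

variable {G Ω : Type*} [Group G] [MulAction G Ω] [Fintype Ω]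

theorem finite_of_zassenhaus (hZ : Cfsg.IsZassenhausGroup G Ω) : Finite G := by
  classical
  haveI := hZ.1
  exact Finite.of_injective (MulAction.toPermHom G Ω) MulAction.toPerm_injective

variable [Finite G] (hZ : Cfsg.IsZassenhausGroup G Ω) (N : Subgroup G) [hN : N.Normal] (hne : N ≠ ⊥)
include hZ

omit [Finite G] in
include hN hne in
theorem normal_transitive : IsPretransitive N Ω := by
  classical
  obtain ⟨n, hn, hn1⟩ := N.bot_or_exists_ne_one.resolve_left hne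
  obtain ⟨a, ha⟩ : ∃ a : Ω, n • a ≠ a := by
    by_contra h
    push Not at h
    exact hn1 (eq_one_of_fix_all hZ h)
  have key : ∀ b : Ω, ∃ m ∈ N, m • a = b := by
    intro b
    rcases eq_or_ne b a with rfl | hb
    · exact ⟨1, N.one_mem, one_smul G b⟩
    obtain ⟨g, g1, g2⟩ := two_trans hZ (Ne.symm ha) (Ne.symm hb)
    exact ⟨g * n * g⁻¹, hN.conj_mem n hn g, by rw [mul_smul, mul_smul, inv_smul_eq_iff.2 g1.symm, g2]⟩
  refine ⟨fun x y => ?_⟩
  obtain ⟨m, hm, hmx⟩ := key x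
  obtain ⟨m', hm', hmy⟩ := key y
  refine ⟨⟨m' * m⁻¹, mul_mem hm' (inv_mem hm)⟩, ?_⟩
  show (m' * m⁻¹) • x = y
  rw [mul_smul, ← hmx, inv_smul_smul, hmy]

include hN hne in
/-- A nontrivial normal subgroup meets a two-point stabiliser. -/
theorem exists_fix_two {a b : Ω} (hab : a ≠ b) :
    ∃ n ∈ N, n ≠ 1 ∧ n • a = a ∧ n • b = b := by
  classical
  by_contra hcon
  have hsemi : ∀ n ∈ N, ∀ c d : Ω, c ≠ d → n • c = c → n • d = d → n = 1 := by
    intro n hn c d hcd hc hd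
    obtain ⟨g, g1, g2⟩ := two_trans hZ hcd hab
    by_contra hn1
    refine hcon ⟨g * n * g⁻¹, hN.conj_mem n hn g, fun e => hn1 (conj_eq_one_iff.1 e), ?_, ?_⟩
    · rw [mul_smul, mul_smul, inv_smul_eq_iff.2 g1.symm, hc, g1]
    · rw [mul_smul, mul_smul, inv_smul_eq_iff.2 g2.symm, hd, g2]
  haveI hNt := normal_transitive hZ N hne
  obtain ⟨x, hx⟩ := hZ.2.2.2.2 N hN hNt
  have hfc : Cfsg.IsFrobeniusComplement (stabilizer N x) := by
    refine ⟨hx, fun htop => ?_, fun g hg => ?_⟩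
    · obtain ⟨y, hy, -⟩ := exists_third hZ x x
      obtain ⟨m, hm⟩ := MulAction.exists_smul_eq N x y
      exact hy (hm ▸ (show m ∈ stabilizer N x from htop ▸ Subgroup.mem_top m))
    · refine (Subgroup.eq_bot_iff_forall _).2 ?_
      rintro u ⟨hu, v, hv, hvu⟩
      have hvu' : g * v * g⁻¹ = u := hvu
      have h1 : (u : G) • ((g : G) • x) = (g : G) • x := by
        rw [← hvu', Subgroup.coe_mul, Subgroup.coe_mul, InvMemClass.coe_inv, mul_smul, mul_smul, inv_smul_smul]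
        exact congrArg _ hv
      have hgx : (g : G) • x ≠ x := hg
      exact Subtype.ext (hsemi u u.2 _ x hgx h1 hu)
  obtain ⟨K, hKset, hKn, hKc⟩ := CfsgLib.Frobenius.exists_kernel hfc
  set M := K.map N.subtype with hM
  have hKm : ∀ u : N, u ∈ K ↔ (u = 1 ∨ ∀ p : Ω, (u : G) • p ≠ p) := by
    intro u
    rw [← SetLike.mem_coe, hKset]
    refine or_congr Iff.rfl ⟨fun h p hp => ?_, fun h t ht => ?_⟩
    · obtain ⟨t, rfl⟩ := MulAction.exists_smul_eq N x p
      refine h t ⟨t⁻¹ * u * t, ?_, ?_⟩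
      · show ((t : G)⁻¹ * u * t) • x = x
        rw [mul_smul, mul_smul, inv_smul_eq_iff]
        exact hp
      · show t * (t⁻¹ * u * t) * t⁻¹ = u
        group
    · obtain ⟨v, hv, hvu⟩ := ht
      have hvu' : t * v * t⁻¹ = u := hvu
      refine h ((t : G) • x) ?_
      rw [← hvu', Subgroup.coe_mul, Subgroup.coe_mul, InvMemClass.coe_inv, mul_smul, mul_smul, inv_smul_smul]
      exact congrArg _ hv
  have hMm : ∀ u : G, u ∈ M ↔ u ∈ N ∧ (u = 1 ∨ ∀ p : Ω, u • p ≠ p) := by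
    intro u
    constructor
    · rintro ⟨v, hv, rfl⟩
      refine ⟨v.2, ((hKm v).1 hv).imp (fun e => ?_) id⟩
      rw [e]; rfl
    · rintro ⟨hu, h⟩
      exact ⟨⟨u, hu⟩, (hKm _).2 (h.imp (fun e => Subtype.ext e) id), rfl⟩
  have hMn : M.Normal := ⟨fun u hu g => by
    rw [hMm] at hu ⊢
    refine ⟨hN.conj_mem u hu.1 g, hu.2.imp (fun e => by rw [e]; group) fun h p hp => h (g⁻¹ • p) ?_⟩
    rw [mul_smul, mul_smul] at hp
    rw [eq_inv_smul_iff]
    exact hp⟩
  have hMt : IsPretransitive M Ω := by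
    have key : ∀ p, ∃ m ∈ M, m • x = p := by
      intro p
      obtain ⟨n, rfl⟩ := MulAction.exists_smul_eq N x p
      obtain ⟨⟨⟨k, hk⟩, ⟨h, hh⟩⟩, hkh⟩ := hKc.2 n
      refine ⟨k, ⟨k, hk, rfl⟩, ?_⟩
      rw [← hkh]
      show (k : G) • x = ((k : G) * h) • x
      rw [mul_smul, show (h : G) • x = x from hh]
    refine ⟨fun p q => ?_⟩
    obtain ⟨m, hm, hmp⟩ := key p
    obtain ⟨m', hm', hmq⟩ := key q
    refine ⟨⟨m' * m⁻¹, mul_mem hm' (inv_mem hm)⟩, ?_⟩
    show (m' * m⁻¹) • p = q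
    rw [mul_smul, ← hmp, inv_smul_smul, hmq]
  obtain ⟨p, hp⟩ := hZ.2.2.2.2 M hMn hMt
  refine hp ((Subgroup.eq_bot_iff_forall _).2 fun u hu => Subtype.ext ?_)
  rcases ((hMm u).1 u.2).2 with h | h
  · exact h
  · exact absurd hu (h p)

include hN hne in
/-- A nontrivial normal subgroup contains the kernel of a point stabiliser. -/
theorem kernel_le_normal (a : Ω) (F : Subgroup G) (hFa : F ≤ stabilizer G a)
    (hFcard : Nat.card F + 1 = Fintype.card Ω) (hFfix : ∀ u ∈ F, u ≠ 1 → ∀ c : Ω, u • c = c → c = a) :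
    F ≤ N := by
  classical
  obtain ⟨b, hba, -⟩ := exists_third hZ a a
  obtain ⟨h, hhN, hh1, hha, hhb⟩ := exists_fix_two hZ N hne (Ne.symm hba)
  have hnorm : ∀ u ∈ F, h * u * h⁻¹ ∈ F := fun u hu => kernel_conj_mem hZ a F hFa hFcard hFfix hha hu
  let f : F → F := fun u => ⟨(u : G) * (h * (u : G)⁻¹ * h⁻¹), mul_mem u.2 (hnorm _ (inv_mem u.2))⟩
  have hinj : Function.Injective f := by
    rintro ⟨u, hu⟩ ⟨v, hv⟩ e
    simp only [f, Subtype.mk.injEq] at e
    have hw : h * (v⁻¹ * u) = v⁻¹ * u * h := by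
      calc h * (v⁻¹ * u) = (h * v⁻¹ * h⁻¹) * h * u := by group
        _ = v⁻¹ * (v * (h * v⁻¹ * h⁻¹)) * h * u := by group
        _ = v⁻¹ * u * h := by rw [← e]; group
    refine Subtype.ext (inv_mul_eq_one.1 ?_).symm
    by_contra hw1
    have hwF : v⁻¹ * u ∈ F := mul_mem (inv_mem hv) hu
    have h1 : h • ((v⁻¹ * u) • b) = (v⁻¹ * u) • b := by rw [← mul_smul, hw, mul_smul, hhb]
    rcases fix_two hZ hh1 (Ne.symm hba) hha hhb h1 with e1 | e1
    · exact hba (MulAction.injective (v⁻¹ * u) (e1.trans (hFa hwF).symm))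
    · exact hba (hFfix _ hwF hw1 b e1)
  intro u hu
  obtain ⟨⟨v, hv⟩, e⟩ := (Finite.injective_iff_surjective.1 hinj) ⟨u, hu⟩
  simp only [f, Subtype.mk.injEq] at e
  rw [← e, show v * (h * v⁻¹ * h⁻¹) = (v * h * v⁻¹) * h⁻¹ by group]
  exact mul_mem (hN.conj_mem h hhN v) (inv_mem hhN)

omit hN in
theorem kernel_regular (a : Ω) (F : Subgroup G) (hFa : F ≤ stabilizer G a)
    (hFcard : Nat.card F + 1 = Fintype.card Ω) (hFfix : ∀ u ∈ F, u ≠ 1 → ∀ c : Ω, u • c = c → c = a)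
    {p q : Ω} (hp : p ≠ a) (hq : q ≠ a) : ∃ u ∈ F, u • p = q := by
  classical
  haveI := Fintype.ofFinite F
  have himg : Finset.univ.image (fun u : F => (u : G) • p) = Finset.univ.erase a := by
    refine Finset.eq_of_subset_of_card_le (fun r hr => ?_) ?_
    · obtain ⟨u, -, rfl⟩ := Finset.mem_image.1 hr
      exact Finset.mem_erase.2 ⟨fun e => hp (MulAction.injective (u : G) (e.trans (hFa u.2).symm)), Finset.mem_univ _⟩
    · rw [Finset.card_image_of_injective, Finset.card_univ, Finset.card_erase_of_mem (Finset.mem_univ a),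
        Finset.card_univ]
      · rw [Nat.card_eq_fintype_card] at hFcard
        omega
      · intro u v e
        by_contra huv
        have hne1 : (v : G)⁻¹ * u ≠ 1 := fun e' => huv (Subtype.ext (inv_mul_eq_one.1 e').symm)
        refine hp (hFfix _ (mul_mem (inv_mem v.2) u.2) hne1 p ?_)
        rw [mul_smul, inv_smul_eq_iff]
        exact e
  have : q ∈ Finset.univ.image (fun u : F => (u : G) • p) := by
    rw [himg]; simp [hq]
  obtain ⟨u, -, e⟩ := Finset.mem_image.1 this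
  exact ⟨u, u.2, e⟩

include hN hne in
theorem isZassenhaus_normal : Cfsg.IsZassenhausGroup N Ω := by
  classical
  haveI := hZ.1
  haveI hNt := normal_transitive hZ N hne
  have h2 : IsMultiplyPretransitive N Ω 2 := by
    rw [MulAction.is_two_pretransitive_iff]
    intro a b c d hab hcd
    obtain ⟨m, hm⟩ := MulAction.exists_smul_eq N a c
    obtain ⟨F, hFa, hFc, hFf⟩ := exists_kernel_subgroup hZ c
    obtain ⟨u, hu, hub⟩ := kernel_regular hZ c F hFa hFc hFf (p := m • b) (q := d)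
      (fun e => hab (MulAction.injective m (hm.trans e.symm))) (Ne.symm hcd)
    refine ⟨⟨u * m, mul_mem (kernel_le_normal hZ N hne c F hFa hFc hFf hu) m.2⟩, ?_, ?_⟩
    · show (u * (m : G)) • a = c
      rw [mul_smul, show (m : G) • a = c from hm, show u • c = c from hFa hu]
    · show (u * (m : G)) • b = d
      rw [mul_smul]; exact hub
  obtain ⟨b₀, a₀, hab₀⟩ : ∃ a b : Ω, a ≠ b := by
    obtain ⟨g, -, a, b, h, -⟩ := hZ.2.2.2.1
    exact ⟨a, b, h⟩
  refine ⟨⟨fun {u v} huv => Subtype.ext (FaithfulSMul.eq_of_smul_eq_smul fun p : Ω => huv p)⟩, h2,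
    fun u a b c h1 h2 h3 ha hb hc => Subtype.ext (hZ.2.2.1 u a b c h1 h2 h3 ha hb hc), ?_, fun M hMn hMt => ?_⟩
  · obtain ⟨n, hn, hn1, hna, hnb⟩ := exists_fix_two hZ N hne hab₀
    exact ⟨⟨n, hn⟩, fun e => hn1 (congrArg Subtype.val e), b₀, a₀, hab₀, hna, hnb⟩
  by_contra hcon
  push Not at hcon
  set M' := M.map N.subtype with hM'
  have hreg : ∀ u ∈ M', ∀ p : Ω, u • p = p → u = 1 := by
    rintro _ ⟨u, hu, rfl⟩ p hp
    have h1 : (⟨u, hu⟩ : M) ∈ stabilizer M p := hp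
    rw [hcon p, Subgroup.mem_bot] at h1
    exact congrArg (fun z : M => ((z : N) : G)) h1
  have htr : ∀ p q : Ω, ∃ u ∈ M', u • p = q := fun p q => by
    obtain ⟨u, hu⟩ := MulAction.exists_smul_eq M p q
    exact ⟨_, ⟨(u : N), u.2, rfl⟩, hu⟩
  have hM'N : M' ≤ N := Subgroup.map_subtype_le M
  have hinv : ∀ g ∈ N, ∀ u ∈ M', g * u * g⁻¹ ∈ M' := by
    rintro g hg _ ⟨u, hu, rfl⟩
    exact ⟨⟨g, hg⟩ * u * ⟨g, hg⟩⁻¹, hMn.conj_mem u hu _, rfl⟩
  have hsame : ∀ u ∈ M', ∀ v ∈ M', ∀ p : Ω, u • p = v • p → u = v := by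
    intro u hu v hv p e
    exact (inv_mul_eq_one.1 (hreg _ (mul_mem (inv_mem hv) hu) p
      (by rw [mul_smul, e, inv_smul_smul]))).symm
  obtain ⟨a, b, hab⟩ : ∃ a b : Ω, a ≠ b := ⟨b₀, a₀, hab₀⟩
  obtain ⟨F, hFa, hFc, hFf⟩ := exists_kernel_subgroup hZ a
  have hconjall : ∀ u ∈ M', u ≠ 1 → ∀ v ∈ M', v ≠ 1 → ∃ f ∈ N, f * u * f⁻¹ = v := by
    intro u hu hu1 v hv hv1
    obtain ⟨f, hf, hfu⟩ := kernel_regular hZ a F hFa hFc hFf (p := u • a) (q := v • a)
      (fun e => hu1 (hreg u hu a e)) (fun e => hv1 (hreg v hv a e))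
    have hfN := kernel_le_normal hZ N hne a F hFa hFc hFf hf
    refine ⟨f, hfN, hsame _ (hinv f hfN u hu) v hv a ?_⟩
    rw [mul_smul, mul_smul, inv_smul_eq_iff.2 (hFa hf).symm, hfu]
  obtain ⟨u₀, hu₀, hu₀a⟩ := htr a b
  have hu₀1 : u₀ ≠ 1 := fun e => hab (by rw [← hu₀a, e, one_smul])
  have hM'ne : Nat.card M' ≠ 1 := fun e => hu₀1 (by
    have := Subgroup.card_eq_one.1 e
    exact (Subgroup.eq_bot_iff_forall M').1 this u₀ hu₀)
  set p := (Nat.card M').minFac with hp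
  haveI : Fact p.Prime := ⟨Nat.minFac_prime hM'ne⟩
  obtain ⟨⟨w, hw⟩, hwo⟩ := exists_prime_orderOf_dvd_card' (G := M') p (Nat.minFac_dvd _)
  rw [← Subgroup.orderOf_coe] at hwo
  simp only at hwo
  have hw1 : w ≠ 1 := fun e => by
    rw [e, orderOf_one] at hwo
    exact (Fact.out : p.Prime).ne_one hwo.symm
  have hpg : IsPGroup p M' := by
    rintro ⟨u, hu⟩
    refine ⟨1, Subtype.ext ?_⟩
    show u ^ p ^ 1 = 1
    rw [pow_one]
    rcases eq_or_ne u 1 with rfl | hu1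
    · exact one_pow p
    obtain ⟨f, -, hf⟩ := hconjall w hw hw1 u hu hu1
    rw [← hwo, ← hf, conj_pow, pow_orderOf_eq_one, mul_one, mul_inv_cancel]
  haveI : Nontrivial M' := ⟨⟨u₀, hu₀⟩, 1, fun e => hu₀1 (congrArg Subtype.val e)⟩
  haveI := hpg.center_nontrivial
  obtain ⟨z, hz⟩ := exists_ne (1 : Subgroup.center M')
  have hab' : ∀ u ∈ M', ∀ v ∈ M', u * v = v * u := by
    intro u hu v hv
    rcases eq_or_ne u 1 with rfl | hu1
    · simp
    obtain ⟨f, hfN, hf⟩ := hconjall ((z : M') : G) (z : M').2 (fun e => hz (Subtype.ext (Subtype.ext e))) u hu hu1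
    have hv' : f⁻¹ * v * f ∈ M' := by
      have := hinv f⁻¹ (inv_mem hfN) v hv
      rwa [inv_inv] at this
    have h1 : (f⁻¹ * v * f) * ((z : M') : G) = ((z : M') : G) * (f⁻¹ * v * f) :=
      congrArg Subtype.val (Subgroup.mem_center_iff.1 z.2 ⟨_, hv'⟩)
    rw [← hf]
    calc f * ((z : M') : G) * f⁻¹ * v = f * (((z : M') : G) * (f⁻¹ * v * f)) * f⁻¹ := by group
      _ = v * (f * ((z : M') : G) * f⁻¹) := by rw [← h1]; group
  have hcent : ∀ x : G, (∀ u ∈ M', x * u = u * x) → x ∈ M' := by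
    intro x hx
    obtain ⟨m, hm, hma⟩ := htr a (x • a)
    have h1 : m⁻¹ * x = 1 := by
      refine eq_one_of_fix_all hZ fun q => ?_
      obtain ⟨u, hu, rfl⟩ := htr a q
      have hc : m⁻¹ * x * u = u * (m⁻¹ * x) := by
        calc m⁻¹ * x * u = m⁻¹ * (x * u) := by group
          _ = m⁻¹ * (u * x) := by rw [hx u hu]
          _ = m⁻¹ * u * m * (m⁻¹ * x) := by group
          _ = u * (m⁻¹ * x) := by rw [mul_assoc m⁻¹ u m, hab' u hu m hm, inv_mul_cancel_left]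
      rw [← mul_smul, hc, mul_smul, show (m⁻¹ * x) • a = a by rw [mul_smul, ← hma, inv_smul_smul]]
    rwa [← inv_mul_eq_one.1 h1]
  have hM'n : M'.Normal := by
    refine ⟨fun u hu g => ?_⟩
    have hN' : ∀ v ∈ N, g⁻¹ * v * g ∈ N := fun v hv => by
      have := hN.conj_mem v hv g⁻¹
      rwa [inv_inv] at this
    have hKinv : ∀ f ∈ N, ∀ v, g⁻¹ * v * g ∈ M' → g⁻¹ * (f * v * f⁻¹) * g ∈ M' := by
      intro f hf v hv
      have h1 := hinv _ (hN' f hf) _ hv
      convert h1 using 1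
      group
    rcases eq_or_ne u 1 with rfl | hu1
    · simp [one_mem]
    -- the conjugate subgroup meets `M'`
    obtain ⟨y, hy, hy1, hyK⟩ : ∃ y ∈ M', y ≠ 1 ∧ g⁻¹ * y * g ∈ M' := by
      by_contra hno
      simp only [not_exists, not_and] at hno
      have hcomm : ∀ v ∈ M', g * u * g⁻¹ * v = v * (g * u * g⁻¹) := by
        intro v hv
        have hk : g * u * g⁻¹ ∈ N := hN.conj_mem u (hM'N hu) g
        have h1 : (g * u * g⁻¹) * v * (g * u * g⁻¹)⁻¹ * v⁻¹ ∈ M' := mul_mem (hinv _ hk v hv) (inv_mem hv)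
        have h2 : g⁻¹ * ((g * u * g⁻¹) * v * (g * u * g⁻¹)⁻¹ * v⁻¹) * g ∈ M' := by
          have h3 : g⁻¹ * v * g * u⁻¹ * (g⁻¹ * v * g)⁻¹ ∈ M' := hinv _ (hN' v (hM'N hv)) _ (inv_mem hu)
          have h4 := mul_mem hu h3
          convert h4 using 1
          group
        by_contra hne'
        refine hno _ h1 (fun e => hne' ?_) h2
        calc g * u * g⁻¹ * v = ((g * u * g⁻¹) * v * (g * u * g⁻¹)⁻¹ * v⁻¹) * v * (g * u * g⁻¹) := by group
          _ = v * (g * u * g⁻¹) := by rw [e, one_mul]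
      refine hno _ (hcent _ hcomm) (fun e => hu1 (conj_eq_one_iff.1 e)) ?_
      rw [show g⁻¹ * (g * u * g⁻¹) * g = u by group]
      exact hu
    have hall : ∀ v ∈ M', g⁻¹ * v * g ∈ M' := by
      intro v hv
      rcases eq_or_ne v 1 with rfl | hv1
      · simp [one_mem]
      obtain ⟨f, hf, hfe⟩ := hconjall y hy hy1 v hv hv1
      rw [← hfe]
      exact hKinv f hf y hyK
    let φ : M' → M' := fun v => ⟨g⁻¹ * v * g, hall v v.2⟩
    have hφ : Function.Injective φ := fun v w e => Subtype.ext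
      (mul_left_cancel (mul_right_cancel (congrArg Subtype.val e)))
    obtain ⟨⟨v, hv⟩, e⟩ := (Finite.injective_iff_surjective.1 hφ) ⟨u, hu⟩
    simp only [φ, Subtype.mk.injEq] at e
    rw [← e, show g * (g⁻¹ * v * g) * g⁻¹ = v by group]
    exact hv
  have hM't : IsPretransitive M' Ω := ⟨fun x y => by
    obtain ⟨u, hu, e⟩ := htr x y
    exact ⟨⟨u, hu⟩, e⟩⟩
  obtain ⟨q, hq⟩ := hZ.2.2.2.2 M' hM'n hM't
  exact hq ((Subgroup.eq_bot_iff_forall _).2 fun u hu => Subtype.ext (hreg u u.2 q hu))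

omit hN in
theorem isSimpleGroup_of_odd_degree (hodd : Odd (Fintype.card Ω)) : IsSimpleGroup G := by
  classical
  obtain ⟨g₀, hg₀, a, b, hab, -⟩ := hZ.2.2.2.1
  haveI : Nontrivial G := ⟨⟨g₀, 1, hg₀⟩⟩
  refine ⟨fun N hN => or_iff_not_imp_left.2 fun hne => ?_⟩
  have := hN
  have hNZ := isZassenhaus_normal hZ N hne
  haveI hNt := normal_transitive hZ N hne
  obtain ⟨⟨s, hsN⟩, hs2, hsa, hsb⟩ := CfsgLib.AltGroups.IsZassenhaus.exists_involution_swap hNZ hab
  rw [← Subgroup.orderOf_coe] at hs2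
  change s • a = b at hsa
  change s • b = a at hsb
  simp only at hs2
  have hs1 : s ≠ 1 := fun e => by simp [e] at hs2
  have hpar := CfsgLib.AltGroups.IsZassenhaus.fixed_parity hZ hs2
  have hle := CfsgLib.AltGroups.IsZassenhaus.fixed_le_two hZ hs1
  rw [Nat.odd_iff.1 hodd] at hpar
  have hone : Nat.card (fixedBy Ω s) = 1 := by omega
  obtain ⟨hsub, ⟨c, hc⟩⟩ := Nat.card_eq_one_iff_unique.1 hone
  have hc' : s • c = c := hc
  have hca : c ≠ a := fun e => hab (by rw [e] at hc'; exact hc'.symm.trans hsa)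
  have hcb : c ≠ b := fun e => hab (by rw [e] at hc'; exact hsb.symm.trans hc')
  set H : Subgroup G := stabilizer G a ⊓ stabilizer G b with hH
  have hsi : s⁻¹ = s := inv_eq_of_mul_eq_one_right (by rw [← pow_two, ← hs2, pow_orderOf_eq_one])
  have hsH : ∀ h ∈ H, s * h * s⁻¹ ∈ H := by
    intro h hh
    refine ⟨?_, ?_⟩
    · show (s * h * s⁻¹) • a = a
      rw [hsi, mul_smul, mul_smul, hsa, show h • b = b from hh.2, hsb]
    · show (s * h * s⁻¹) • b = b
      rw [hsi, mul_smul, mul_smul, hsb, show h • a = a from hh.1, hsa]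
  have hfix : ∀ h ∈ H, s * h * s⁻¹ = h → h = 1 := by
    intro h hh e
    have h1 : s • (h • c) = h • c := by
      conv_rhs => rw [← e, hsi, mul_smul, mul_smul, hc']
    have h2 := congrArg Subtype.val (hsub.allEq (⟨c, hc⟩ : fixedBy Ω s) ⟨h • c, h1⟩)
    exact hZ.2.2.1 h a b c hab (Ne.symm hcb) (Ne.symm hca) hh.1 hh.2 h2.symm
  let f : H → H := fun h => ⟨(h : G)⁻¹ * (s * h * s⁻¹), mul_mem (inv_mem h.2) (hsH h h.2)⟩
  have hinj : Function.Injective f := by
    rintro ⟨x, hx⟩ ⟨y, hy⟩ e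
    simp only [f, Subtype.mk.injEq] at e
    refine Subtype.ext (mul_inv_eq_one.1 (hfix (y * x⁻¹) (mul_mem hy (inv_mem hx)) ?_)).symm
    calc s * (y * x⁻¹) * s⁻¹ = y * (y⁻¹ * (s * y * s⁻¹)) * (s * x * s⁻¹)⁻¹ := by group
      _ = y * x⁻¹ := by rw [← e]; group
  have hHodd : Odd (Nat.card H) := by
    rw [← Nat.not_even_iff_odd]
    intro hev
    haveI : Fact (Nat.Prime 2) := ⟨Nat.prime_two⟩
    obtain ⟨⟨z, hz⟩, hzo⟩ := exists_prime_orderOf_dvd_card' (G := H) 2 (even_iff_two_dvd.1 hev)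
    rw [← Subgroup.orderOf_coe] at hzo
    simp only at hzo
    have hpar' := CfsgLib.AltGroups.IsZassenhaus.fixed_parity hZ hzo
    have hle' := CfsgLib.AltGroups.IsZassenhaus.fixed_le_two hZ (fun e => by simp [e] at hzo : z ≠ 1)
    rw [Nat.odd_iff.1 hodd] at hpar'
    have h2 : 2 ≤ Nat.card (fixedBy Ω z) := by
      haveI : Nontrivial (fixedBy Ω z) := ⟨⟨⟨a, hz.1⟩, ⟨b, hz.2⟩, fun e => hab (congrArg Subtype.val e)⟩⟩
      exact Finite.one_lt_card
    omega
  have hHN : H ≤ N := by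
    intro h hh
    obtain ⟨⟨y, hy⟩, e⟩ := (Finite.injective_iff_surjective.1 hinj) ⟨h, hh⟩
    simp only [f, Subtype.mk.injEq] at e
    have hinvh : s * h * s⁻¹ = h⁻¹ := by
      rw [← e]
      calc s * (y⁻¹ * (s * y * s⁻¹)) * s⁻¹ = (s * y * s⁻¹)⁻¹ * (s * s * y * (s * s)⁻¹) := by group
        _ = (y⁻¹ * (s * y * s⁻¹))⁻¹ := by
          rw [show s * s = 1 by rw [← pow_two, ← hs2, pow_orderOf_eq_one]]; group
    have hsq : h ^ 2 ∈ N := by
      have h1 : h * s * h⁻¹ * s⁻¹ = h ^ 2 := by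
        calc h * s * h⁻¹ * s⁻¹ = h * (s * h * s⁻¹)⁻¹ := by group
          _ = h ^ 2 := by rw [hinvh, inv_inv, pow_two]
      rw [← h1]
      exact mul_mem (hN.conj_mem s hsN h) (inv_mem hsN)
    obtain ⟨k, hk⟩ := exists_pow_eq_self_of_coprime
      (Nat.coprime_two_left.2 (hHodd.of_dvd_nat (Subgroup.orderOf_dvd_natCard H hh)))
    exact hk ▸ pow_mem hsq k
  obtain ⟨F, hFa, hFc, hFf⟩ := exists_kernel_subgroup hZ a
  refine (Subgroup.eq_top_iff' N).2 fun g => ?_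
  obtain ⟨m, hm⟩ := MulAction.exists_smul_eq N a (g • a)
  set g' := (m : G)⁻¹ * g with hg'
  have hga : g' • a = a := by rw [hg', mul_smul, inv_smul_eq_iff]; exact hm.symm
  obtain ⟨u, hu, hub⟩ := kernel_regular hZ a F hFa hFc hFf (p := b) (q := g' • b) (Ne.symm hab)
    (fun e => hab (MulAction.injective g' (e.trans hga.symm)).symm)
  have huH : u⁻¹ * g' ∈ H := by
    refine ⟨?_, ?_⟩
    · show (u⁻¹ * g') • a = a
      rw [mul_smul, hga, inv_smul_eq_iff]; exact (hFa hu).symm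
    · show (u⁻¹ * g') • b = b
      rw [mul_smul, ← hub, inv_smul_smul]
  have h5 : (m : G) * (u * (u⁻¹ * g')) ∈ N :=
    mul_mem m.2 (mul_mem (kernel_le_normal hZ N hne a F hFa hFc hFf hu) (hHN huH))
  rwa [mul_inv_cancel_left, hg', mul_inv_cancel_left] at h5

end CfsgLib.SharplyEven
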