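import Cfsg.Agent.Lib.SharplyEven.FeitCoherent
import Cfsg.Agent.Lib.SharplyEven.NormalSubgroups
import Cfsg.Agent.S1534

/-!
Feit's theorem on Zassenhaus groups with two-point stabilisers of odd order.
-/

set_option autoImplicit false
set_option linter.unusedSectionVars false

open MulAction Cfsg CfsgLib.CyclicTI
open scoped commutatorElement

namespace CfsgLib.SharplyEven.Feit

open CfsgLib.RealChar.Zassenhaus

variable {G Ω : Type*} [Group G] [MulAction G Ω] [Fintype Ω]

theorem index_commutator_eq (K : Subgroup G) : (⁅K, K⁆.subgroupOf K).index = (commutator K).index := by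
  rw [← Subgroup.map_subtype_commutator, Subgroup.subgroupOf,
    Subgroup.comap_map_eq_self_of_injective (Subgroup.subtype_injective K)]

/-- The simple case. -/
theorem simple_case [Fintype G] [IsSimpleGroup G] (hZ : Cfsg.IsZassenhausGroup G Ω) {a b : Ω} (hab : a ≠ b)
    (h e : ℕ) (hh : Fintype.card Ω = h + 1)
    (he : Nat.card (stabilizer G a ⊓ stabilizer G b : Subgroup G) = e) (hodd : Odd e)
    (H : Subgroup G) (hHa : H ≤ stabilizer G a) (hHcard : Nat.card H + 1 = Fintype.card Ω)
    (hHfix : ∀ u ∈ H, u ≠ 1 → ∀ c : Ω, u • c = c → c = a) (hlt : 2 * e < h - 1) :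
    IsPGroup 2 H ∧ (∃ u v : H, u * v ≠ v * u) ∧ (commutator H).index ≤ 4 * e ^ 2 + 1 := by
  classical
  have hTI := isTISubset hZ H hHa hHcard hHfix
  have hC : ∀ k ∈ H, k ≠ 1 → Subgroup.centralizer ({k} : Set G) ≤ H :=
    fun k hk hk1 => centralizer_le hZ H hHa hHcard hHfix hk hk1
  have hnorm := (Cfsg.Agent.S0878.result hZ a H hHa hHcard hHfix).2
  have hidx := index_eq hZ hab H hHa hHcard
  rw [he] at hidx
  -- everything about the normaliser, as a subgroup equal to the stabiliser
  suffices key : ∀ L : Subgroup G, L = stabilizer G a → Subgroup.normalizer (H : Set G) = L → ∀ [Fintype L],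
      IsPGroup 2 H ∧ (∃ u v : H, u * v ≠ v * u) ∧ (commutator H).index ≤ 4 * e ^ 2 + 1 from
    @key (Subgroup.normalizer (H : Set G)) hnorm rfl (Fintype.ofFinite _)
  intro L hL hLn hfin
  have h3e : 2 ≤ e := by
    obtain ⟨x, hx1, hx⟩ := exists_ne_one_fix hZ hab
    have hne : e ≠ 1 := fun h1 => hx1 (by
      have hx' : x ∈ (stabilizer G a ⊓ stabilizer G b : Subgroup G) := hx
      rw [Subgroup.eq_bot_of_card_eq (stabilizer G a ⊓ stabilizer G b) (by rw [he]; exact h1)] at hx'
      exact hx')
    have : e ≠ 0 := he ▸ Nat.card_pos.ne'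
    omega
  have hH1 : H ≠ ⊥ := fun e' => by rw [e', Subgroup.card_bot] at hHcard; omega
  subst hL
  have hn := subgroupOf_normal hZ H hHa hHcard hHfix
  have hKC : Frob.KernelCond (H.subgroupOf (stabilizer G a)) := kernelCond hZ H hHa hHcard hHfix
  have hKtop : H.subgroupOf (stabilizer G a) ≠ ⊤ := fun e' => by
    rw [e', Subgroup.index_top] at hidx; omega
  have hnil : Group.IsNilpotent (H.subgroupOf (stabilizer G a)) := Frob.isNilpotent_kernel hKC hKtop
  have hne : H ≠ stabilizer G a := fun e' => hKtop (by rw [Subgroup.subgroupOf_eq_top]; exact e'.ge)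
  have hK1 : H.subgroupOf (stabilizer G a) ≠ ⊥ := fun e' => hH1 (by
    rw [Subgroup.subgroupOf_eq_bot] at e'
    exact disjoint_self.1 (e'.mono_right hHa))
  have hnc : ¬ Cfsg.IsCoherent (Frob.charSet (H.subgroupOf (stabilizer G a)))
      ({1}ᶜ : Set (stabilizer G a)) (fun α => Cfsg.indFun (stabilizer G a) α) :=
    no_coherent hZ hab h e hh he hodd H hHa hHcard hHfix hlt
  have hKcard : Nat.card (H.subgroupOf (stabilizer G a)) = Nat.card H :=
    Nat.card_congr (Subgroup.subgroupOfEquivOfLe hHa).toEquiv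
  rcases TIKernel.alternatives H _ hHa hH1 hne hnil hKC hTI hLn with ⟨-, hbig, -⟩ | ⟨h2, -, -, hsmall⟩ | hcoh
  · omega
  · refine ⟨h2, ?_, ?_⟩
    · by_contra hab'
      push Not at hab'
      have he' : Nat.card (H.subgroupOf (stabilizer G a)) ≠ (H.subgroupOf (stabilizer G a)).index + 1 := by
        omega
      obtain ⟨hτ, hτ1⟩ := TIInd.isometry H (stabilizer G a) hTI hLn.le
        (S := Frob.charSet (H.subgroupOf (stabilizer G a))) (Frob.charSet_eq hKC).le
      rcases Frob.coherent_or_critical hKC hK1 hnil he' hτ hτ1 with hc | ⟨p, -, -, hnab, -⟩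
      · exact hnc hc
      · refine hnab ⟨⟨fun x y => Subtype.ext (Subtype.ext ?_)⟩⟩
        exact (congrArg Subtype.val (hab' ⟨x.1.1, x.2⟩ ⟨y.1.1, y.2⟩) :)
    · have hrel : (⁅H.subgroupOf (stabilizer G a), H.subgroupOf (stabilizer G a)⁆).relIndex
          (H.subgroupOf (stabilizer G a)) = (⁅H, H⁆.subgroupOf H).index := by
        rw [← Subgroup.relIndex_map_map_of_injective _ _ (Subgroup.subtype_injective _),
          Subgroup.map_commutator, Subgroup.subgroupOf_map_subtype, inf_eq_left.2 hHa]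
        rfl
      rw [hrel, index_commutator_eq, hidx] at hsmall
      omega
  · exact absurd hcoh hnc

/-- Feit's theorem. -/
theorem main [Finite G] (hZ : Cfsg.IsZassenhausGroup G Ω) {a b : Ω} (hab : a ≠ b)
    (h e : ℕ) (hh : Fintype.card Ω = h + 1)
    (he : Nat.card (stabilizer G a ⊓ stabilizer G b : Subgroup G) = e) (hodd : Odd e)
    (H : Subgroup G) (hHa : H ≤ stabilizer G a) (hHcard : Nat.card H + 1 = Fintype.card Ω)
    (hHfix : ∀ u ∈ H, u ≠ 1 → ∀ c : Ω, u • c = c → c = a) :
    h - 1 ≤ 2 * e ∨ (IsPGroup 2 H ∧ (∃ u v : H, u * v ≠ v * u) ∧ (commutator H).index ≤ 4 * e ^ 2 + 1) := by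
  classical
  refine or_iff_not_imp_left.2 fun hlt => ?_
  push Not at hlt
  set M : Subgroup G := Subgroup.normalClosure (H : Set G) with hM
  haveI hMn : M.Normal := Subgroup.normalClosure_normal
  have hHM : H ≤ M := Subgroup.le_normalClosure
  have hH1 : H ≠ ⊥ := fun e' => by
    rw [e', Subgroup.card_bot] at hHcard
    have := three_le_card hZ
    omega
  have hMne : M ≠ ⊥ := fun e' => hH1 (le_bot_iff.1 (e' ▸ hHM))
  have hZM := isZassenhaus_normal hZ M hMne
  haveI := Fintype.ofFinite M
  haveI : Nontrivial M := (Subgroup.nontrivial_iff_ne_bot M).2 hMne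
  haveI hMs : IsSimpleGroup M := by
    refine ⟨fun L hL => or_iff_not_imp_left.2 fun hLne => ?_⟩
    have hall : ∀ g : G, ∀ u ∈ H, g * u * g⁻¹ ∈ L.map M.subtype := by
      intro g u hu
      haveI := hL
      have hFle : H.map (MulAut.conj g).toMonoidHom ≤ M := by
        rintro _ ⟨v, hv, rfl⟩
        exact hMn.conj_mem v (hHM hv) g
      set F := (H.map (MulAut.conj g).toMonoidHom).subgroupOf M with hF
      have hFa : F ≤ stabilizer M (g • a) := by
        rintro x ⟨v, hv, hvx⟩
        show (x : G) • g • a = g • a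
        have hvx' : g * v * g⁻¹ = (x : G) := hvx
        rw [← hvx', mul_smul, mul_smul, inv_smul_smul, show v • a = a from hHa hv]
      have hFcard : Nat.card F + 1 = Fintype.card Ω := by
        rw [Nat.card_congr (Subgroup.subgroupOfEquivOfLe hFle).toEquiv,
          Subgroup.card_map_of_injective (f := (MulAut.conj g).toMonoidHom) (MulAut.conj g).injective]
        exact hHcard
      have hFfix : ∀ x ∈ F, x ≠ 1 → ∀ c : Ω, x • c = c → c = g • a := by
        rintro x ⟨v, hv, hvx⟩ hx1 c hc
        have hvx' : g * v * g⁻¹ = (x : G) := hvx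
        have hc' : (x : G) • c = c := hc
        rw [← hvx', mul_smul, mul_smul, smul_eq_iff_eq_inv_smul] at hc'
        rw [← inv_smul_eq_iff]
        exact hHfix v hv (fun e' => hx1 (Subtype.ext (by rw [← hvx', e']; group; rfl))) _ hc'
      have hle := kernel_le_normal hZM L hLne (g • a) F hFa hFcard hFfix
      have hmem : g * u * g⁻¹ ∈ M := hMn.conj_mem u (hHM hu) g
      exact ⟨⟨_, hmem⟩, hle ⟨u, hu, rfl⟩, rfl⟩
    have hle : M ≤ L.map M.subtype := by
      refine (Subgroup.closure_le _).2 fun x hx => ?_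
      obtain ⟨u, hu, hc⟩ := Group.mem_conjugatesOfSet_iff.1 hx
      obtain ⟨g, rfl⟩ := isConj_iff.1 hc
      exact hall g u hu
    refine eq_top_iff.2 fun x _ => ?_
    obtain ⟨y, hy, hyx⟩ := hle x.2
    rwa [← Subtype.ext (p := fun z => z ∈ M) hyx]
  set H' := H.subgroupOf M with hH'
  have hdvd : Nat.card (stabilizer M a ⊓ stabilizer M b : Subgroup M) ∣ e := by
    rw [← he]
    refine Subgroup.card_dvd_of_injective
      (MonoidHom.mk' (fun x : (stabilizer M a ⊓ stabilizer M b : Subgroup M) =>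
        (⟨((x : M) : G), x.2.1, x.2.2⟩ : (stabilizer G a ⊓ stabilizer G b : Subgroup G)))
        fun _ _ => rfl) fun x y hxy => Subtype.ext (Subtype.ext (congrArg Subtype.val hxy :))
  set e' := Nat.card (stabilizer M a ⊓ stabilizer M b : Subgroup M) with he'
  have hle : e' ≤ e := Nat.le_of_dvd (he ▸ Nat.card_pos) hdvd
  have eqv : H' ≃* H := Subgroup.subgroupOfEquivOfLe hHM
  obtain ⟨h1, ⟨u, v, huv⟩, h3⟩ := simple_case hZM hab h e' hh he'.symm (hodd.of_dvd_nat hdvd) H'
    (fun x hx => show ((x : G)) • a = a from hHa hx)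
    (by rw [Nat.card_congr eqv.toEquiv]; exact hHcard)
    (fun x hx hx1 c hc => hHfix _ hx (fun e'' => hx1 (Subtype.ext e'')) c hc) (by omega)
  refine ⟨IsPGroup.of_equiv h1 eqv, ⟨eqv u, eqv v, fun e'' => huv (eqv.injective (by
    rw [map_mul, map_mul, e'']))⟩, ?_⟩
  have hidx : (commutator H).index = (commutator H').index := by
    have hmap : (commutator H').map eqv.toMonoidHom = commutator H := by
      rw [commutator_def, commutator_def, Subgroup.map_commutator,
        Subgroup.map_top_of_surjective _ eqv.surjective]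
    rw [← hmap]
    exact Subgroup.index_map_of_bijective eqv.bijective _
  rw [hidx]
  exact h3.trans (by gcongr)

end CfsgLib.SharplyEven.Feit
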