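import Cfsg.Agent.Lib.SharplyEven.IndexTwo
import Cfsg.Agent.Lib.AltGroups.ZassenhausKernel
import Cfsg.Agent.Lib.AltGroups.ZassenhausField
import Cfsg.Agent.Lib.Cores.FPF
import Mathlib.GroupTheory.Transfer
import Mathlib.Tactic

/-!
Sharply triply transitive groups of even degree: the two-point stabiliser, and non-simplicity.
-/

set_option autoImplicit false

open MulAction

namespace CfsgLib.SharplyEven

/-- Sharply triply transitive of even degree at least four. -/
structure Sharp (G Ω : Type*) [Group G] [MulAction G Ω] [Fintype Ω] : Prop where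
  move : ∀ a b c a' b' c' : Ω, a ≠ b → b ≠ c → a ≠ c → a' ≠ b' → b' ≠ c' → a' ≠ c' →
      ∃! g : G, g • a = a' ∧ g • b = b' ∧ g • c = c'
  even : Even (Fintype.card Ω)
  four : 4 ≤ Fintype.card Ω

namespace Sharp

variable {G Ω : Type*} [Group G] [MulAction G Ω] [Fintype Ω] (S : Sharp G Ω)
include S

theorem ext3 {g g' : G} {a b c : Ω} (hab : a ≠ b) (hbc : b ≠ c) (hac : a ≠ c) (ha : g • a = g' • a)
    (hb : g • b = g' • b) (hc : g • c = g' • c) : g = g' :=
  (S.move a b c (g' • a) (g' • b) (g' • c) hab hbc hac (fun e => hab (MulAction.injective g' e))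
    (fun e => hbc (MulAction.injective g' e)) (fun e => hac (MulAction.injective g' e))).unique
    ⟨ha, hb, hc⟩ ⟨rfl, rfl, rfl⟩

theorem eq_one {g : G} {a b c : Ω} (hab : a ≠ b) (hbc : b ≠ c) (hac : a ≠ c) (ha : g • a = a)
    (hb : g • b = b) (hc : g • c = c) : g = 1 :=
  S.ext3 hab hbc hac (by rw [ha, one_smul]) (by rw [hb, one_smul]) (by rw [hc, one_smul])

theorem exists_third (a b : Ω) : ∃ c, c ≠ a ∧ c ≠ b := by
  classical
  obtain ⟨c, hc⟩ : ∃ c, c ∉ ({a, b} : Finset Ω) := by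
    by_contra h
    push Not at h
    have h1 := Finset.card_le_card (fun c (_ : c ∈ (Finset.univ : Finset Ω)) => h c)
    have h2 := S.four
    rw [Finset.card_univ] at h1
    have h3 := Finset.card_le_two (a := a) (b := b)
    omega
  simp only [Finset.mem_insert, Finset.mem_singleton, not_or] at hc
  exact ⟨c, hc⟩

theorem finite_group : Finite G := by
  classical
  obtain ⟨a, b, hab⟩ := Fintype.exists_pair_of_one_lt_card (show 1 < Fintype.card Ω by have := S.four; omega)
  obtain ⟨c, hca, hcb⟩ := S.exists_third a b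
  refine Finite.of_injective (fun g : G => (g • a, g • b, g • c)) fun g g' e => ?_
  simp only [Prod.mk.injEq] at e
  exact S.ext3 hab (Ne.symm hcb) (Ne.symm hca) e.1 e.2.1 e.2.2

theorem swap_sq {s : G} {a b c : Ω} (hab : a ≠ b) (hbc : b ≠ c) (hac : a ≠ c) (hsa : s • a = b)
    (hsb : s • b = a) (hsc : s • c = c) : s * s = 1 :=
  S.eq_one hab hbc hac (by rw [mul_smul, hsa, hsb]) (by rw [mul_smul, hsb, hsa]) (by rw [mul_smul, hsc, hsc])

theorem card_H [Finite G] {a b : Ω} (hab : a ≠ b) :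
    Nat.card (stabilizer G a ⊓ stabilizer G b : Subgroup G) + 2 = Fintype.card Ω := by
  classical
  haveI := Fintype.ofFinite (stabilizer G a ⊓ stabilizer G b : Subgroup G)
  obtain ⟨c, hca, hcb⟩ := S.exists_third a b
  have hcard : ((Finset.univ.erase a).erase b).card + 2 = Fintype.card Ω := by
    rw [Finset.card_erase_of_mem (by simp [Ne.symm hab]), Finset.card_erase_of_mem (Finset.mem_univ a),
      Finset.card_univ]
    have := S.four
    omega
  rw [← hcard, Nat.card_eq_fintype_card, ← Finset.card_univ]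
  congr 1
  refine Finset.card_bij (fun h _ => (h : G) • c) (fun h _ => ?_) (fun h _ k _ e => ?_) fun q hq => ?_
  · simp only [Finset.mem_erase, Finset.mem_univ, and_true]
    exact ⟨fun e => hcb (MulAction.injective (h : G) (e.trans h.2.2.symm)),
      fun e => hca (MulAction.injective (h : G) (e.trans h.2.1.symm))⟩
  · exact Subtype.ext (S.ext3 hab (Ne.symm hcb) (Ne.symm hca) (h.2.1.trans k.2.1.symm) (h.2.2.trans k.2.2.symm) e)
  · simp only [Finset.mem_erase, Finset.mem_univ, and_true] at hq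
    obtain ⟨g, ⟨g1, g2, g3⟩, -⟩ := S.move a b c a b q hab (Ne.symm hcb) (Ne.symm hca) hab (Ne.symm hq.1) (Ne.symm hq.2)
    exact ⟨⟨g, g1, g2⟩, Finset.mem_univ _, g3⟩

theorem other_fix {s : G} {a b c : Ω} (hab : a ≠ b) (hbc : b ≠ c) (hac : a ≠ c) (hsa : s • a = b)
    (hsb : s • b = a) (hsc : s • c = c) :
    ∃ e, e ≠ a ∧ e ≠ b ∧ e ≠ c ∧ s • e = e ∧ ∀ p, s • p = p → p = c ∨ p = e := by
  classical
  haveI : Fact (Nat.Prime 2) := ⟨Nat.prime_two⟩
  have hss := S.swap_sq hab hbc hac hsa hsb hsc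
  let f : Function.End Ω := fun y => s • y
  have hf : f ^ 2 ^ 1 = 1 := by
    rw [pow_one, pow_two]; funext y
    show s • s • y = y
    rw [smul_smul, hss, one_smul]
  have hmod := Equiv.Perm.card_fixedPoints_modEq (α := Ω) (f := f) (p := 2) (n := 1) hf
  have hev := Nat.even_iff.1 S.even
  have hlt : 1 < Fintype.card f.fixedPoints := by
    have h1 : 0 < Fintype.card f.fixedPoints := Fintype.card_pos_iff.2 ⟨⟨c, hsc⟩⟩
    rw [Nat.ModEq, hev] at hmod
    omega
  haveI : Nontrivial f.fixedPoints := Fintype.one_lt_card_iff_nontrivial.1 hlt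
  obtain ⟨⟨e, he⟩, hne⟩ := exists_ne (⟨c, hsc⟩ : f.fixedPoints)
  have hec : e ≠ c := fun h => hne (Subtype.ext h)
  refine ⟨e, ?_, ?_, hec, he, fun p hp => ?_⟩
  · rintro rfl; exact hab (he.symm.trans hsa)
  · rintro rfl; exact hab (hsb.symm.trans he)
  · by_contra hpp
    simp only [not_or] at hpp
    have := S.eq_one (Ne.symm hec) (Ne.symm hpp.2) (Ne.symm hpp.1) hsc he hp
    rw [this, one_smul] at hsa
    exact hab hsa

/-- The involution of a two-point stabiliser. -/
theorem exists_central {s : G} {a b c : Ω} (hab : a ≠ b) (hbc : b ≠ c) (hac : a ≠ c) (hsa : s • a = b)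
    (hsb : s • b = a) (hsc : s • c = c) :
    ∃ z ∈ (stabilizer G a ⊓ stabilizer G b : Subgroup G), z * z = 1 ∧ z ≠ 1 ∧ s * z * s⁻¹ = z ∧
      (∀ h ∈ (stabilizer G a ⊓ stabilizer G b : Subgroup G), s * h * s⁻¹ = h → h = 1 ∨ h = z) ∧
      (∀ u ∈ (stabilizer G a ⊓ stabilizer G b : Subgroup G), u * u = 1 → u ≠ 1 → u = z) := by
  have hss := S.swap_sq hab hbc hac hsa hsb hsc
  have hsi : s⁻¹ = s := inv_eq_of_mul_eq_one_right hss
  obtain ⟨e, hea, heb, hec, hse, hfix⟩ := S.other_fix hab hbc hac hsa hsb hsc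
  obtain ⟨z, ⟨hza, hzb, hzc⟩, -⟩ := S.move a b c a b e hab hbc hac hab (Ne.symm heb) (Ne.symm hea)
  have hz1 : z ≠ 1 := by rintro rfl; rw [one_smul] at hzc; exact hec hzc.symm
  have hcomm : s * z * s⁻¹ = z := by
    refine S.ext3 hab hbc hac ?_ ?_ ?_
    · rw [hsi, mul_smul, mul_smul, hsa, hzb, hsb, hza]
    · rw [hsi, mul_smul, mul_smul, hsb, hza, hsa, hzb]
    · rw [hsi, mul_smul, mul_smul, hsc, hzc, hse]
  have hfixH : ∀ h ∈ (stabilizer G a ⊓ stabilizer G b : Subgroup G), s * h * s⁻¹ = h → h = 1 ∨ h = z := by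
    rintro h ⟨hha, hhb⟩ he
    have h1 : s • (h • c) = h • c := by
      conv_rhs => rw [← he, hsi, mul_smul, mul_smul, hsc]
    rcases hfix _ h1 with e1 | e1
    · exact Or.inl (S.eq_one hab hbc hac hha hhb e1)
    · exact Or.inr (S.ext3 hab hbc hac (hha.trans hza.symm) (hhb.trans hzb.symm) (e1.trans hzc.symm))
  have hzuni : ∀ u ∈ (stabilizer G a ⊓ stabilizer G b : Subgroup G), u * u = 1 → u ≠ 1 → u = z := by
    rintro u ⟨hua, hub⟩ huu hu1
    have hui : u⁻¹ = u := inv_eq_of_mul_eq_one_right huu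
    have hucc : u • (u • c) = c := by rw [smul_smul, huu, one_smul]
    have hcd : u • c ≠ c := fun e1 => hu1 (S.eq_one hab hbc hac hua hub e1)
    have hda : u • c ≠ a := fun e1 => hac (MulAction.injective u (e1.trans hua.symm)).symm
    have hdb : u • c ≠ b := fun e1 => hbc (MulAction.injective u (e1.trans hub.symm)).symm
    obtain ⟨g, ⟨g1, g2, g3⟩, -⟩ := S.move c (u • c) a c (u • c) b (Ne.symm hcd) hda (Ne.symm hac) (Ne.symm hcd) hdb
      (Ne.symm hbc)
    have gi1 : g⁻¹ • c = c := inv_smul_eq_iff.2 g1.symm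
    have gi2 : g⁻¹ • (u • c) = u • c := inv_smul_eq_iff.2 g2.symm
    have gi3 : g⁻¹ • b = a := inv_smul_eq_iff.2 g3.symm
    have hgu : g * u * g⁻¹ = u := by
      refine S.ext3 (Ne.symm hcd) hdb (Ne.symm hbc) ?_ ?_ ?_
      · rw [mul_smul, mul_smul, gi1, g2]
      · rw [mul_smul, mul_smul, gi2, hucc, g1]
      · rw [mul_smul, mul_smul, gi3, hua, g3, hub]
    have hgb : g • b = a := by
      have h1 : u • (g • b) = g • b := by
        conv_lhs => rw [← hgu, mul_smul, mul_smul, inv_smul_smul, hub]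
      by_contra h2
      have h3 : g • b ≠ b := fun e1 => hab (MulAction.injective g (g3.trans e1.symm))
      exact hu1 (S.eq_one hab (Ne.symm h3) (Ne.symm h2) hua hub h1)
    have hgs : g = s := S.ext3 hab hbc hac (g3.trans hsa.symm) (hgb.trans hsb.symm) (g1.trans hsc.symm)
    subst hgs
    exact (hfixH u ⟨hua, hub⟩ hgu).resolve_left hu1
  refine ⟨z, ⟨hza, hzb⟩, ?_, hz1, hcomm, hfixH, hzuni⟩
  refine S.eq_one hab hbc hac (by rw [mul_smul, hza, hza]) (by rw [mul_smul, hzb, hzb]) ?_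
  have h2 : z • e = c := by
    have h1 : s • (z • e) = z • e := by
      conv_rhs => rw [← hcomm, hsi, mul_smul, mul_smul, hse]
    rcases hfix _ h1 with e1 | e1
    · exact e1
    · exact absurd (MulAction.injective z (e1.trans hzc.symm)) hec
  rw [mul_smul, hzc, h2]

/-- Swappers of the two fixed points of an element of order three invert it. -/
theorem inverts_three {t : G} {a b : Ω} (hab : a ≠ b) (hta : t • a = a) (htb : t • b = b) (ht : t ^ 3 = 1)
    (ht1 : t ≠ 1) {s : G} {c : Ω} (hbc : b ≠ c) (hac : a ≠ c) (hsa : s • a = b)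
    (hsb : s • b = a) (hsc : s • c = c) : s * t * s⁻¹ = t⁻¹ := by
  have htti : t * t = t⁻¹ := eq_inv_of_mul_eq_one_left (by rw [mul_assoc, ← pow_three, ht])
  have h3c : t • t • t • c = c := by rw [smul_smul, smul_smul, mul_assoc, ← pow_three, ht, one_smul]
  set d := t • c with hd
  set d' := t • d with hd'
  have hcd : c ≠ d := fun e => ht1 (S.eq_one hab hbc hac hta htb e.symm)
  have hdd : d ≠ d' := fun e => hcd (MulAction.injective t e)
  have hcd' : c ≠ d' := fun e => hdd (MulAction.injective t (hd'.symm.trans (e.symm.trans h3c.symm)))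
  obtain ⟨g, ⟨g1, g2, g3⟩, -⟩ := S.move c d d' c d' d hcd hdd hcd' hcd' (Ne.symm hdd) hcd
  have gi1 : g⁻¹ • c = c := inv_smul_eq_iff.2 g1.symm
  have gi2 : g⁻¹ • d' = d := inv_smul_eq_iff.2 g2.symm
  have gi3 : g⁻¹ • d = d' := inv_smul_eq_iff.2 g3.symm
  have hinv : g * t * g⁻¹ = t⁻¹ := by
    rw [← htti]
    refine S.ext3 hcd hdd hcd' ?_ ?_ ?_
    all_goals simp only [mul_smul, gi1, gi2, gi3, ← hd, ← hd', g1, g2, g3, h3c]
  have hperm : ∀ p, t • p = p → g • p = a ∨ g • p = b := by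
    intro p hp
    have h1 : t • (g • p) = g • p := by
      have h2 : t⁻¹ • (g • p) = g • p := by
        rw [← hinv, mul_smul, mul_smul, inv_smul_smul, hp]
      exact (inv_smul_eq_iff.1 h2).symm
    by_contra h2
    simp only [not_or] at h2
    exact ht1 (S.eq_one hab (Ne.symm h2.2) (Ne.symm h2.1) hta htb h1)
  have hgne : ¬ (g • a = a ∧ g • b = b) := by
    rintro ⟨e1, e2⟩
    have := S.eq_one hab hbc hac e1 e2 g1
    rw [this, one_smul] at g2
    exact hdd g2
  have hgab : g • a = b ∧ g • b = a := by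
    rcases hperm a hta with e1 | e1 <;> rcases hperm b htb with e2 | e2
    · exact absurd (MulAction.injective g (e1.trans e2.symm)) hab
    · exact absurd ⟨e1, e2⟩ hgne
    · exact ⟨e1, e2⟩
    · exact absurd (MulAction.injective g (e1.trans e2.symm)) hab
  have hgs : g = s := S.ext3 hab hbc hac (hgab.1.trans hsa.symm) (hgab.2.trans hsb.symm) (g1.trans hsc.symm)
  rw [← hgs]; exact hinv

theorem kernel_fpf {x o : Ω} (F : Subgroup G) (hFle : F ≤ stabilizer G x)
    (hreg : ∀ y z : Ω, y ≠ x → z ≠ x → ∃! u : F, (u : G) • y = z) (hxo : o ≠ x) :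
    ∀ h ∈ (stabilizer G x ⊓ stabilizer G o : Subgroup G), h ≠ 1 → F ⊓ Subgroup.centralizer ({h} : Set G) = ⊥ := by
  rintro h ⟨hhx, hho⟩ h1
  refine (Subgroup.eq_bot_iff_forall _).2 fun u hu => ?_
  obtain ⟨hu1, hu2⟩ := Subgroup.mem_inf.1 hu
  by_contra hu0
  have hux : u • o ≠ x := fun e => hxo (MulAction.injective u (e.trans (hFle hu1).symm))
  have huo : u • o ≠ o := fun e => by
    have := (hreg o o hxo hxo).unique (y₁ := ⟨u, hu1⟩) (y₂ := 1) e (one_smul G o)
    exact hu0 (congrArg Subtype.val this)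
  refine h1 (S.eq_one (Ne.symm hxo) (Ne.symm huo) (Ne.symm hux) hhx hho ?_)
  rw [← mul_smul, ← Subgroup.mem_centralizer_singleton_iff.1 hu2, mul_smul, hho]

omit S in
theorem kernel_normalized {x o : Ω} (F : Subgroup G) (hFle : F ≤ stabilizer G x)
    (hFn : (F.subgroupOf (stabilizer G x)).Normal) :
    (stabilizer G x ⊓ stabilizer G o : Subgroup G) ≤ Subgroup.normalizer (F : Set G) := by
  intro h hh
  rw [Subgroup.mem_normalizer_iff]
  have key : ∀ g ∈ stabilizer G x, ∀ u ∈ F, g * u * g⁻¹ ∈ F := fun g hg u hu => by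
    simpa [Subgroup.mem_subgroupOf] using hFn.conj_mem ⟨u, hFle hu⟩ (by simpa [Subgroup.mem_subgroupOf] using hu) ⟨g, hg⟩
  refine fun u => ⟨key h hh.1 u, fun hu => ?_⟩
  have := key h⁻¹ (inv_mem hh.1) _ hu
  simpa [mul_assoc] using this

theorem uniq_three (hZ : Cfsg.IsZassenhausGroup G Ω) {a b : Ω} (hab : a ≠ b) (A B : Subgroup G)
    (hA : A ≤ stabilizer G a ⊓ stabilizer G b) (hB : B ≤ stabilizer G a ⊓ stabilizer G b)
    (hA3 : Nat.card A = 3) (hB3 : Nat.card B = 3) : A = B := by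
  haveI := S.finite_group
  haveI : Fact (Nat.Prime 3) := ⟨Nat.prime_three⟩
  obtain ⟨c, hca, hcb⟩ := S.exists_third a b
  have key : ∀ T : Subgroup G, T ≤ stabilizer G a ⊓ stabilizer G b → Nat.card T = 3 →
      ∃ t ∈ T, orderOf t = 3 ∧ T = Subgroup.zpowers t := by
    intro T _ hT3
    obtain ⟨t, ht⟩ := exists_prime_orderOf_dvd_card' (G := T) 3 (by rw [hT3])
    rw [← Subgroup.orderOf_coe] at ht
    refine ⟨t, t.2, ht, (Subgroup.eq_of_le_of_card_ge (Subgroup.zpowers_le.2 t.2) ?_).symm⟩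
    rw [Nat.card_zpowers, ht, hT3]
  obtain ⟨t, htA, ht, hAz⟩ := key A hA hA3
  obtain ⟨u, huB, hu, hBz⟩ := key B hB hB3
  obtain ⟨hta, htb⟩ := hA htA
  obtain ⟨hua, hub⟩ := hB huB
  have ht3 : t ^ 3 = 1 := ht ▸ pow_orderOf_eq_one t
  have hu3 : u ^ 3 = 1 := hu ▸ pow_orderOf_eq_one u
  have ht1 : t ≠ 1 := fun e => by simp [e] at ht
  have hu1 : u ≠ 1 := fun e => by simp [e] at hu
  obtain ⟨s, ⟨hsa, hsb, hsc⟩, -⟩ := S.move a b c b a c hab (Ne.symm hcb) (Ne.symm hca) (Ne.symm hab) (Ne.symm hca) (Ne.symm hcb)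
  have hss := S.swap_sq hab (Ne.symm hcb) (Ne.symm hca) hsa hsb hsc
  have hst := S.inverts_three hab hta htb ht3 ht1 (Ne.symm hcb) (Ne.symm hca) hsa hsb hsc
  have hsu := S.inverts_three hab hua hub hu3 hu1 (Ne.symm hcb) (Ne.symm hca) hsa hsb hsc
  have htia : t⁻¹ • a = a := inv_smul_eq_iff.2 hta.symm
  have htib : t⁻¹ • b = b := inv_smul_eq_iff.2 htb.symm
  have hs'u : (t * s * t⁻¹) * u * (t * s * t⁻¹)⁻¹ = u⁻¹ := by
    refine S.inverts_three hab hua hub hu3 hu1 (c := t • c) ?_ ?_ ?_ ?_ ?_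
    · exact fun e => hcb (MulAction.injective t (htb.trans e)).symm
    · exact fun e => hca (MulAction.injective t (hta.trans e)).symm
    · rw [mul_smul, mul_smul, htia, hsa, htb]
    · rw [mul_smul, mul_smul, htib, hsb, hta]
    · rw [mul_smul, mul_smul, inv_smul_smul, hsc]
  have hw : t * s * t⁻¹ * s = t ^ 2 := by
    calc t * s * t⁻¹ * s = t * (s * t⁻¹ * s) := by group
      _ = t * t := by
          rw [show s * t⁻¹ * s = (s * t * s⁻¹)⁻¹ by
            rw [mul_inv_rev, mul_inv_rev, inv_inv, inv_eq_of_mul_eq_one_right hss, mul_assoc], hst, inv_inv]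
      _ = t ^ 2 := (pow_two t).symm
  have hcomm2 : Commute (t ^ 2) u := by
    show t ^ 2 * u = u * t ^ 2
    rw [← hw]
    have e1 : s * u = u⁻¹ * s := by rw [← hsu]; group
    have e2 : (t * s * t⁻¹) * u⁻¹ = u * (t * s * t⁻¹) := by
      have h5 := congrArg (·⁻¹) hs'u
      simp only [inv_inv] at h5
      nth_rw 2 [← h5]
      group
    rw [mul_assoc _ s u, e1, ← mul_assoc, e2, mul_assoc u]
  have hcomm : Commute t u := by
    have h4 : (t ^ 2) ^ 2 = t := by
      rw [← pow_mul, show 2 * 2 = 3 + 1 from rfl, pow_add, ht3, one_mul, pow_one]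
    exact h4 ▸ hcomm2.pow_left 2
  -- the group generated acts without fixed points on the kernel
  have hev : Even (Nat.card ↥(stabilizer G a ⊓ stabilizer G b)) := by
    have h1 := S.card_H hab
    have h2 := S.even
    rw [← h1] at h2
    simpa [parity_simps] using h2
  obtain ⟨F, hFle, hFn, -, hreg⟩ := CfsgLib.AltGroups.exists_kernel_of_even hZ (x := a) (o := b) (Ne.symm hab) hev
  set R := Subgroup.closure ({t, u} : Set G) with hR
  have hRle : R ≤ stabilizer G a ⊓ stabilizer G b := by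
    rw [hR, Subgroup.closure_le]
    rintro x (rfl | rfl)
    · exact ⟨hta, htb⟩
    · exact ⟨hua, hub⟩
  have hRp : IsPGroup 3 R := by
    intro x
    have hmem : ∀ y ∈ R, y ^ 3 = 1 ∧ Commute y t ∧ Commute y u := by
      intro y hy
      induction hy using Subgroup.closure_induction with
      | mem z hz =>
        rcases hz with rfl | rfl
        · exact ⟨ht3, Commute.refl _, hcomm⟩
        · exact ⟨hu3, hcomm.symm, Commute.refl _⟩
      | one => exact ⟨one_pow 3, Commute.one_left _, Commute.one_left _⟩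
      | mul z w hz' hw' ih1 ih2 =>
        have hzw : Commute z w := by
          clear ih2
          induction hw' using Subgroup.closure_induction with
          | mem v hv =>
            rcases hv with rfl | rfl
            · exact ih1.2.1
            · exact ih1.2.2
          | one => exact Commute.one_right _
          | mul v v' _ _ i1 i2 => exact i1.mul_right i2
          | inv v _ i1 => exact i1.inv_right
        exact ⟨by rw [hzw.mul_pow, ih1.1, ih2.1, one_mul], ih1.2.1.mul_left ih2.2.1, ih1.2.2.mul_left ih2.2.2⟩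
      | inv z _ ih => exact ⟨by rw [inv_pow, ih.1, inv_one], ih.2.1.inv_left, ih.2.2.inv_left⟩
    exact ⟨1, Subtype.ext (by rw [pow_one]; exact (hmem x x.2).1)⟩
  have hFne : F ≠ ⊥ := by
    intro e
    obtain ⟨v, hv, -⟩ := hreg b c (Ne.symm hab) hca
    have hv1 : (v : G) = 1 := (Subgroup.eq_bot_iff_forall F).1 e v v.2
    rw [hv1, one_smul] at hv
    exact hcb hv.symm
  have huniq := CfsgLib.Cores.uniqueOrderP_of_fpf hRp hFne
    (hRle.trans (kernel_normalized F hFle hFn))
    (fun x hx => S.kernel_fpf F hFle hreg (Ne.symm hab) x (hRle hx))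
  have hmemu := huniq ⟨t, Subgroup.subset_closure (Or.inl rfl)⟩ ⟨u, Subgroup.subset_closure (Or.inr rfl)⟩
    (by rw [← Subgroup.orderOf_coe]; exact ht) (by rw [← Subgroup.orderOf_coe]; exact hu)
  obtain ⟨i, hi⟩ := Subgroup.mem_zpowers_iff.1 hmemu
  refine (Subgroup.eq_of_le_of_card_ge ?_ (by rw [hA3, hB3])).symm
  rw [hBz, Subgroup.zpowers_le, hAz, Subgroup.mem_zpowers_iff]
  exact ⟨i, by simpa using congrArg Subtype.val hi⟩

/-- The index two subgroup of a two-point stabiliser. -/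
theorem exists_N (hZ : Cfsg.IsZassenhausGroup G Ω) {s : G} {a b c : Ω} (hab : a ≠ b) (hbc : b ≠ c) (hac : a ≠ c)
    (hsa : s • a = b) (hsb : s • b = a) (hsc : s • c = c) :
    ∃ N : Subgroup G, N ≤ stabilizer G a ⊓ stabilizer G b ∧
      (N.subgroupOf (stabilizer G a ⊓ stabilizer G b)).Normal ∧
      N.relIndex (stabilizer G a ⊓ stabilizer G b) = 2 ∧ ∀ n ∈ N, s * n * s⁻¹ ∈ N := by
  haveI := S.finite_group
  have hev : Even (Nat.card ↥(stabilizer G a ⊓ stabilizer G b)) := by
    have h1 := S.card_H hab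
    have h2 := S.even
    rw [← h1] at h2
    simpa [parity_simps] using h2
  obtain ⟨F, hFle, hFn, hFab, hreg⟩ := CfsgLib.AltGroups.exists_kernel_of_even hZ (x := a) (o := b) (Ne.symm hab) hev
  obtain ⟨A, instA, C, hCinf, hCo, -⟩ := CfsgLib.AltGroups.exists_zcoord (Ne.symm hab) F hFle hFn hFab hreg
  subst hCinf hCo
  haveI : Finite A := Finite.of_injective C.pt C.pt_injective
  have hH : stabilizer G C.inf ⊓ stabilizer G C.o = C.H := rfl
  rw [hH]
  obtain ⟨z, hzH, hzz, hz1, hzs, hfix, hzu⟩ := S.exists_central hab hbc hac hsa hsb hsc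
  have hss := S.swap_sq hab hbc hac hsa hsb hsc
  have hsi : s⁻¹ = s := inv_eq_of_mul_eq_one_right hss
  have hsN : s ∈ Subgroup.normalizer (C.H : Set G) := by
    have key : ∀ h ∈ C.H, s * h * s⁻¹ ∈ C.H := by
      intro h hh
      refine C.mem_H.2 ⟨?_, ?_⟩ <;> rw [hsi, mul_smul, mul_smul]
      · rw [hsa, C.smul_o hh, hsb]
      · rw [hsb, C.smul_inf hh, hsa]
    rw [Subgroup.mem_normalizer_iff]
    refine fun h => ⟨key h, fun hh => ?_⟩
    have h2 := key _ hh
    have h3 : s * (s * h * s⁻¹) * s⁻¹ = s * s * h * (s * s)⁻¹ := by group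
    rwa [h3, hss, one_mul, inv_one, mul_one] at h2
  set σ : MulAut C.H := Subgroup.normalizerMonoidHom C.H ⟨s, hsN⟩ with hσdef
  have hσ : ∀ x : C.H, (σ x : G) = s * x * s⁻¹ := fun x => rfl
  have h3' : ∀ g : G, ∀ x y w : Ω, x ≠ y → y ≠ w → x ≠ w → g • x = x → g • y = y → g • w = w → g = 1 :=
    fun g x y w h1 h2 h3 => S.eq_one h1 h2 h3
  have hcard : Nat.card A = Nat.card C.H + 1 := by
    have h1 : Nat.card ↥C.H + 2 = Fintype.card Ω := S.card_H hab
    have h2 := C.card_eq_finite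
    rw [Nat.card_eq_fintype_card (α := Ω)] at h2
    omega
  obtain ⟨N, hN, hNσ⟩ := exists_invariant_index_two_of_regular (σ := σ) (z := ⟨z, hzH⟩)
    (fun x => Subtype.ext (by
      rw [hσ, hσ]
      calc s * (s * (x : G) * s⁻¹) * s⁻¹ = s * s * x * (s * s)⁻¹ := by group
        _ = x := by rw [hss]; group))
    (fun x hx => by
      rcases hfix x x.2 ((hσ x).symm.trans (congrArg Subtype.val hx)) with e | e
      · exact Or.inl (Subtype.ext e)
      · exact Or.inr (Subtype.ext e))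
    (orderOf_eq_prime (Subtype.ext (by rw [pow_two]; exact hzz)) fun e => hz1 (congrArg Subtype.val e))
    (fun x hx => Subtype.ext (hzu x x.2
      (by rw [← pow_two]; exact congrArg Subtype.val (hx ▸ pow_orderOf_eq_one x))
      (fun e => by
        have : x = 1 := Subtype.ext e
        rw [this, orderOf_one] at hx; omega)))
    (fun T T' hT hT' => Subgroup.map_injective C.H.subtype_injective (S.uniq_three hZ hab _ _
      (Subgroup.map_subtype_le T) (Subgroup.map_subtype_le T')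
      (by rw [Subgroup.card_map_of_injective (f := C.H.subtype) C.H.subtype_injective, hT])
      (by rw [Subgroup.card_map_of_injective (f := C.H.subtype) C.H.subtype_injective, hT'])))
    C.actEnd (fun h k x hx e => C.act_inj h3' hx e)
    (fun x y hx hy => by
      obtain ⟨g, ⟨g1, g2, g3⟩, -⟩ := S.move C.inf C.o (C.pt x) C.inf C.o (C.pt y) hab
        (fun e => hx (C.pt_eq_o.1 e.symm)) (C.pt_ne_inf x).symm hab
        (fun e => hy (C.pt_eq_o.1 e.symm)) (C.pt_ne_inf y).symm
      exact ⟨⟨g, C.mem_H.2 ⟨g1, g2⟩⟩, C.pt_injective ((C.act_pt _ _).symm.trans g3)⟩)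
    hcard
  have hback : (N.map C.H.subtype).subgroupOf C.H = N := Subgroup.comap_map_eq_self_of_injective C.H.subtype_injective N
  refine ⟨N.map C.H.subtype, Subgroup.map_subtype_le N, ?_, ?_, ?_⟩
  · rw [hback]
    exact Subgroup.normal_of_index_eq_two hN
  · rw [Subgroup.relIndex, hback, hN]
  · rintro n ⟨x, hx, rfl⟩
    exact ⟨σ x, hNσ x hx, rfl⟩

theorem two_pretransitive : MulAction.IsMultiplyPretransitive G Ω 2 := by
  rw [MulAction.is_two_pretransitive_iff]
  intro a b c d hab hcd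
  obtain ⟨x, hxa, hxb⟩ := S.exists_third a b
  obtain ⟨y, hyc, hyd⟩ := S.exists_third c d
  obtain ⟨g, ⟨g1, g2, -⟩, -⟩ := S.move a b x c d y hab (Ne.symm hxb) (Ne.symm hxa) hcd (Ne.symm hyd) (Ne.symm hyc)
  exact ⟨g, g1, g2⟩

theorem isZassenhaus [FaithfulSMul G Ω] (h6 : 6 ≤ Fintype.card Ω) : Cfsg.IsZassenhausGroup G Ω := by
  classical
  haveI := S.finite_group
  obtain ⟨a, b, hab⟩ := Fintype.exists_pair_of_one_lt_card (show 1 < Fintype.card Ω by omega)
  obtain ⟨c, hca, hcb⟩ := S.exists_third a b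
  obtain ⟨s, ⟨hsa, hsb, hsc⟩, -⟩ := S.move a b c b a c hab (Ne.symm hcb) (Ne.symm hca) (Ne.symm hab) (Ne.symm hca) (Ne.symm hcb)
  have hss := S.swap_sq hab (Ne.symm hcb) (Ne.symm hca) hsa hsb hsc
  obtain ⟨z, hzH, -, hz1, -⟩ := S.exists_central hab (Ne.symm hcb) (Ne.symm hca) hsa hsb hsc
  refine ⟨inferInstance, S.two_pretransitive, fun g x y w h1 h2 h3 => S.eq_one h1 h2 h3,
    ⟨z, hz1, a, b, hab, hzH.1, hzH.2⟩, fun N hN hNt => ?_⟩
  by_contra hcon
  push Not at hcon
  obtain ⟨e, hea, heb, hec, hse, hfix⟩ := S.other_fix hab (Ne.symm hcb) (Ne.symm hca) hsa hsb hsc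
  have hreg : ∀ u ∈ N, ∀ x : Ω, u • x = x → u = 1 := fun u hu x hx => by
    have h1 : (⟨u, hu⟩ : N) ∈ stabilizer N x := hx
    rw [hcon x, Subgroup.mem_bot] at h1
    exact congrArg Subtype.val h1
  have hsame : ∀ u ∈ N, ∀ x y : Ω, ∀ v ∈ N, u • x = y → v • x = y → u = v := by
    intro u hu x y v hv h1 h2
    have := hreg (v⁻¹ * u) (mul_mem (inv_mem hv) hu) x (by rw [mul_smul, h1, inv_smul_eq_iff, h2])
    exact (inv_mul_eq_one.1 this).symm
  have hbij : Function.Bijective (fun u : N => (u : G) • c) := by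
    refine ⟨fun u v e' => Subtype.ext (hsame u u.2 c _ v v.2 e' rfl), fun x => ?_⟩
    obtain ⟨u, hu⟩ := MulAction.exists_smul_eq N c x
    exact ⟨u, hu⟩
  have hNcard : Nat.card N = Fintype.card Ω := by rw [Nat.card_eq_of_bijective _ hbij, Nat.card_eq_fintype_card]
  obtain ⟨⟨v, hv⟩, hvc⟩ := hbij.2 e
  change v • c = e at hvc
  have hv1 : v ≠ 1 := by rintro rfl; rw [one_smul] at hvc; exact hec hvc.symm
  have hall : ∀ u ∈ N, u ≠ 1 → orderOf u = orderOf v := by
    intro u hu hu1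
    have h1 : u • c ≠ c := fun h => hu1 (hreg u hu c h)
    obtain ⟨d, hd1, hd2⟩ := S.exists_third c e
    obtain ⟨d', hd1', hd2'⟩ := S.exists_third c (u • c)
    obtain ⟨g, ⟨g1, g2, -⟩, -⟩ := S.move c e d c (u • c) d' (Ne.symm hec) (Ne.symm hd2) (Ne.symm hd1) (Ne.symm h1)
      (Ne.symm hd2') (Ne.symm hd1')
    have h2 : g * v * g⁻¹ = u := hsame _ (hN.conj_mem v hv g) c (u • c) u hu
      (by rw [mul_smul, mul_smul, inv_smul_eq_iff.2 g1.symm, hvc, g2]) rfl
    rw [← h2, show g * v * g⁻¹ = MulAut.conj g v from rfl, MulEquiv.orderOf_eq]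
  haveI : Fact (Nat.Prime 2) := ⟨Nat.prime_two⟩
  obtain ⟨w, hw⟩ := exists_prime_orderOf_dvd_card' (G := N) 2 (by rw [hNcard]; exact even_iff_two_dvd.1 S.even)
  rw [← Subgroup.orderOf_coe] at hw
  have hw1 : (w : G) ≠ 1 := fun e' => by simp [e'] at hw
  have hsq : ∀ u ∈ N, u * u = 1 := by
    intro u hu
    rcases eq_or_ne u 1 with rfl | hu1
    · exact one_mul 1
    · rw [← pow_two, show 2 = orderOf u by rw [hall u hu hu1, ← hall w w.2 hw1, hw], pow_orderOf_eq_one]
  have hcommN : ∀ u ∈ N, ∀ u' ∈ N, u * u' = u' * u := by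
    intro u hu u' hu'
    have h1 := hsq _ (mul_mem hu hu')
    rw [← inv_eq_of_mul_eq_one_right h1, mul_inv_rev, inv_eq_of_mul_eq_one_right (hsq u hu),
      inv_eq_of_mul_eq_one_right (hsq u' hu')]
  have hsN : ∀ u ∈ N, s * u * s⁻¹ ∈ N := fun u hu => hN.conj_mem u hu s
  have hfixN : ∀ u ∈ N, s * u * s⁻¹ = u → u = 1 ∨ u = v := by
    intro u hu he
    have h1 : s • (u • c) = u • c := by
      conv_rhs => rw [← he, mul_smul, mul_smul, inv_smul_eq_iff.2 hsc.symm]
    rcases hfix _ h1 with e1 | e1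
    · exact Or.inl (hreg u hu c e1)
    · exact Or.inr (hsame u hu c e v hv e1 hvc)
  have hcount : Nat.card N ≤ 4 := by
    haveI := Fintype.ofFinite N
    rw [Nat.card_eq_fintype_card, ← Finset.card_univ]
    let φ : N → G := fun u => (u : G) * (s * u * s⁻¹)
    refine le_trans (Finset.card_le_mul_card_image (f := φ) Finset.univ 2 fun y hy => ?_) ?_
    · obtain ⟨u₀, -, rfl⟩ := Finset.mem_image.1 hy
      refine le_trans (Finset.card_le_card (t := {u₀, ⟨v * u₀, mul_mem hv u₀.2⟩}) fun u hu => ?_) Finset.card_le_two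
      simp only [Finset.mem_filter, Finset.mem_univ, true_and, φ] at hu
      set w' : G := (u : G) * u₀ with hw'
      have hw'N : w' ∈ N := mul_mem u.2 u₀.2
      have h1 : w' * (s * w' * s⁻¹) = 1 := by
        calc w' * (s * w' * s⁻¹) = (u : G) * u₀ * ((s * u * s⁻¹) * (s * u₀ * s⁻¹)) := by rw [hw']; group
          _ = (u : G) * ((u₀ : G) * (s * u * s⁻¹)) * (s * u₀ * s⁻¹) := by group
          _ = (u : G) * ((s * u * s⁻¹) * u₀) * (s * u₀ * s⁻¹) := by rw [hcommN _ u₀.2 _ (hsN _ u.2)]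
          _ = ((u : G) * (s * u * s⁻¹)) * ((u₀ : G) * (s * u₀ * s⁻¹)) := by group
          _ = 1 := by rw [hu]; exact hsq _ (mul_mem u₀.2 (hsN _ u₀.2))
      have h2 : s * w' * s⁻¹ = w' := mul_left_cancel (h1.trans (hsq _ hw'N).symm)
      rcases hfixN _ hw'N h2 with e1 | e1
      · refine Finset.mem_insert.2 (Or.inl (Subtype.ext ?_))
        exact mul_right_cancel (e1.trans (hsq _ u₀.2).symm)
      · refine Finset.mem_insert.2 (Or.inr (Finset.mem_singleton.2 (Subtype.ext ?_)))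
        show (u : G) = v * u₀
        rw [← e1, hw', mul_assoc, hsq _ u₀.2, mul_one]
    · refine Nat.mul_le_mul_left 2 (le_trans (Finset.card_le_card (t := {1, v}) fun y hy => ?_) Finset.card_le_two)
      obtain ⟨u, -, rfl⟩ := Finset.mem_image.1 hy
      have hsi : s⁻¹ = s := inv_eq_of_mul_eq_one_right hss
      have hmem : φ u ∈ N := mul_mem u.2 (hsN _ u.2)
      have h1 : s * φ u * s⁻¹ = φ u := by
        show s * ((u : G) * (s * u * s⁻¹)) * s⁻¹ = (u : G) * (s * u * s⁻¹)
        calc s * ((u : G) * (s * u * s⁻¹)) * s⁻¹ = (s * u * s⁻¹) * (s * s * u * (s * s)⁻¹) := by group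
          _ = (s * u * s⁻¹) * u := by rw [hss]; group
          _ = (u : G) * (s * u * s⁻¹) := hcommN _ (hsN _ u.2) _ u.2
      simpa using hfixN _ hmem h1
  omega

/-- A sharply triply transitive group of even degree is not simple. -/
theorem not_simple (hZ : Cfsg.IsZassenhausGroup G Ω) : ¬ IsSimpleGroup G := by
  classical
  intro hG
  haveI := S.finite_group
  haveI := Fintype.ofFinite G
  obtain ⟨a, b, hab⟩ := Fintype.exists_pair_of_one_lt_card (show 1 < Fintype.card Ω by have := S.four; omega)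
  obtain ⟨c, hca, hcb⟩ := S.exists_third a b
  obtain ⟨s, ⟨hsa, hsb, hsc⟩, -⟩ := S.move a b c b a c hab (Ne.symm hcb) (Ne.symm hca) (Ne.symm hab) (Ne.symm hca) (Ne.symm hcb)
  have hss := S.swap_sq hab (Ne.symm hcb) (Ne.symm hca) hsa hsb hsc
  have hsi : s⁻¹ = s := inv_eq_of_mul_eq_one_right hss
  obtain ⟨N, hNle, hNn, hN2, hNs⟩ := S.exists_N hZ hab (Ne.symm hcb) (Ne.symm hca) hsa hsb hsc
  set H : Subgroup G := stabilizer G a ⊓ stabilizer G b with hH
  have hmulH : ∀ {g h : G}, g ∈ H → h ∈ H → (g * h ∈ N ↔ (g ∈ N ↔ h ∈ N)) := by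
    intro g h hg hh
    have h1 := Subgroup.mul_mem_iff_of_index_two (H := N.subgroupOf H) hN2 (a := ⟨g, hg⟩) (b := ⟨h, hh⟩)
    simpa [Subgroup.mem_subgroupOf] using h1
  have hsH : ∀ {h : G}, h ∈ H → s * h * s⁻¹ ∈ H := by
    intro h hh
    refine ⟨?_, ?_⟩
    · show (s * h * s⁻¹) • a = a
      rw [hsi, mul_smul, mul_smul, hsa, hh.2, hsb]
    · show (s * h * s⁻¹) • b = b
      rw [hsi, mul_smul, mul_smul, hsb, hh.1, hsa]
  have hsN : ∀ {h : G}, h ∈ H → (s * h * s⁻¹ ∈ N ↔ h ∈ N) := by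
    intro h hh
    refine ⟨fun h1 => ?_, hNs h⟩
    have h2 := hNs _ h1
    have h3 : s * (s * h * s⁻¹) * s⁻¹ = s * s * h * (s * s)⁻¹ := by group
    rwa [h3, hss, one_mul, inv_one, mul_one] at h2
  -- the stabiliser of the pair
  let K : Subgroup G :=
    { carrier := {g | (g • a = a ∧ g • b = b) ∨ (g • a = b ∧ g • b = a)}
      one_mem' := Or.inl ⟨one_smul G a, one_smul G b⟩
      mul_mem' := by
        rintro g g' (⟨h1, h2⟩ | ⟨h1, h2⟩) (⟨h3, h4⟩ | ⟨h3, h4⟩) <;>
          simp [mul_smul, h1, h2, h3, h4]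
      inv_mem' := by
        rintro g (⟨h1, h2⟩ | ⟨h1, h2⟩)
        · exact Or.inl ⟨inv_smul_eq_iff.2 h1.symm, inv_smul_eq_iff.2 h2.symm⟩
        · exact Or.inr ⟨inv_smul_eq_iff.2 h2.symm, inv_smul_eq_iff.2 h1.symm⟩ }
  have hnotboth : ∀ {g : G}, g ∈ H → g • a ≠ b := fun hg e => hab (hg.1.symm.trans e)
  -- the sign character
  have hP : ∀ g ∈ K, (g ∈ H ∧ ¬ g * s ∈ H) ∨ (¬ g ∈ H ∧ g * s ∈ H) := by
    rintro g (⟨h1, h2⟩ | ⟨h1, h2⟩)
    · exact Or.inl ⟨⟨h1, h2⟩, fun e => hab (by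
        have h3 : (g * s) • a = a := e.1
        rw [mul_smul, hsa, h2] at h3
        exact h3.symm)⟩
    · exact Or.inr ⟨fun e => hnotboth e h1, by
        refine ⟨?_, ?_⟩
        · show (g * s) • a = a
          rw [mul_smul, hsa, h2]
        · show (g * s) • b = b
          rw [mul_smul, hsb, h1]⟩
  let χ₀ : G → ℤˣ := fun g => if g ∈ N ∨ g * s ∈ N then 1 else -1
  have hsign : ∀ {P Q : Prop} [Decidable P] [Decidable Q] [Decidable (P ↔ Q)],
      (if (P ↔ Q) then (1 : ℤˣ) else -1) = (if P then 1 else -1) * (if Q then 1 else -1) := by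
    intro P Q _ _ _
    by_cases hp : P <;> by_cases hq : Q <;> simp [hp, hq]
  have hval1 : ∀ {g : G}, g ∈ H → χ₀ g = if g ∈ N then 1 else -1 := by
    intro g hg
    have : ¬ g * s ∈ N := fun e => hab (by
      have h3 : (g * s) • a = a := (hNle e).1
      rw [mul_smul, hsa, hg.2] at h3
      exact h3.symm)
    simp [χ₀, this]
  have hval2 : ∀ {g : G}, g * s ∈ H → χ₀ g = if g * s ∈ N then 1 else -1 := by
    intro g hg
    have : ¬ g ∈ N := fun e => hab (by
      have h3 : (g * s) • a = a := hg.1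
      rw [mul_smul, hsa, (hNle e).2] at h3
      exact h3.symm)
    simp [χ₀, this]
  have hmul : ∀ g ∈ K, ∀ g' ∈ K, χ₀ (g * g') = χ₀ g * χ₀ g' := by
    intro g hg g' hg'
    rcases hP g hg with ⟨h1, -⟩ | ⟨-, h1⟩ <;> rcases hP g' hg' with ⟨h2, -⟩ | ⟨-, h2⟩
    · rw [hval1 h1, hval1 h2, hval1 (mul_mem h1 h2), ← hsign]
      simp only [hmulH h1 h2]
    · have e : g * g' * s = g * (g' * s) := mul_assoc _ _ _
      rw [hval1 h1, hval2 h2, hval2 (e ▸ mul_mem h1 h2), e, ← hsign]
      simp only [hmulH h1 h2]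
    · have e : g * g' * s = g * s * (s * g' * s⁻¹) := by
        rw [hsi]
        calc g * g' * s = g * 1 * g' * s := by rw [mul_one]
          _ = g * s * (s * g' * s) := by rw [← hss]; group
      rw [hval2 h1, hval1 h2, hval2 (e ▸ mul_mem h1 (hsH h2)), e, ← hsign]
      simp only [hmulH h1 (hsH h2), hsN h2]
    · have e : g * g' = g * s * (s * (g' * s) * s⁻¹) := by
        calc g * g' = g * 1 * g' := by rw [mul_one]
          _ = g * s * (s * (g' * s) * s⁻¹) := by rw [← hss]; group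
      rw [hval2 h1, hval2 h2, e, hval1 (mul_mem h1 (hsH h2)), ← hsign]
      simp only [hmulH h1 (hsH h2), hsN h2]
  let χ : K →* ℤˣ :=
    { toFun := fun g => χ₀ g
      map_one' := by simp [χ₀, one_mem]
      map_mul' := fun g g' => hmul g g.2 g' g'.2 }
  have hχ : ∀ g : K, χ g = χ₀ g := fun _ => rfl
  have hsK : s ∈ K := Or.inr ⟨hsa, hsb⟩
  have hχs : χ ⟨s, hsK⟩ = 1 := by
    show χ₀ s = 1
    have : s * s ∈ N := hss ▸ one_mem N
    simp [χ₀, this]
  -- an element outside the index two subgroup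
  obtain ⟨x, hxH, hxN⟩ : ∃ x ∈ H, x ∉ N := by
    by_contra hcon
    push Not at hcon
    have : N.relIndex H = 1 := Subgroup.relIndex_eq_one.2 hcon
    omega
  have hxK : x ∈ K := Or.inl hxH
  have hχx : χ ⟨x, hxK⟩ = -1 := by
    show χ₀ x = -1
    rw [hval1 hxH, if_neg hxN]
  have hconj : ∀ (k y : G) (hk : k ∈ K) (hy : y ∈ K) (hky : k⁻¹ * y * k ∈ K), χ ⟨k⁻¹ * y * k, hky⟩ = χ ⟨y, hy⟩ := by
    intro k y hk hy hky
    have : (⟨k⁻¹ * y * k, hky⟩ : K) = (⟨k, hk⟩ : K)⁻¹ * ⟨y, hy⟩ * ⟨k, hk⟩ := rfl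
    rw [this, map_mul, map_mul, mul_comm, ← mul_assoc, ← map_mul, mul_inv_cancel, map_one, one_mul]
  -- the transfer
  let T : G →* ℤˣ := MonoidHom.transfer χ
  have hTx : T x = -1 := by
    haveI : Fintype (Quotient (MulAction.orbitRel (Subgroup.zpowers x) (G ⧸ K))) := Fintype.ofFinite _
    show MonoidHom.transfer χ x = -1
    rw [MonoidHom.transfer_eq_prod_quotient_orbitRel_zpowers_quot]
    set q₀ : Quotient (MulAction.orbitRel (Subgroup.zpowers x) (G ⧸ K)) := Quotient.mk'' (QuotientGroup.mk 1)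
      with hq₀
    have hfixK : x • (QuotientGroup.mk 1 : G ⧸ K) = QuotientGroup.mk 1 := by
      show QuotientGroup.mk (x * 1) = _
      rw [mul_one, eq_comm, QuotientGroup.eq, inv_one, one_mul]
      exact hxK
    have hout : ∀ q : Quotient (MulAction.orbitRel (Subgroup.zpowers x) (G ⧸ K)),
        q.out = QuotientGroup.mk 1 → q = q₀ := fun q e => by
      rw [hq₀, ← e]; exact (Quotient.out_eq q).symm
    have hq₀out : q₀.out = QuotientGroup.mk 1 := by
      have h1 : MulAction.orbitRel (Subgroup.zpowers x) (G ⧸ K) q₀.out (QuotientGroup.mk 1) := by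
        rw [hq₀]; exact Quotient.mk_out _
      obtain ⟨⟨g, hg⟩, hge⟩ := h1
      rw [← hge]
      obtain ⟨i, rfl⟩ := Subgroup.mem_zpowers_iff.1 hg
      show (x ^ i) • (QuotientGroup.mk 1 : G ⧸ K) = QuotientGroup.mk 1
      exact MulAction.mem_stabilizer_iff.1 (zpow_mem (MulAction.mem_stabilizer_iff.2 hfixK) i)
    rw [Finset.prod_eq_single q₀]
    · have hk : q₀.out.out ∈ K := by
        have h1 : (QuotientGroup.mk q₀.out.out : G ⧸ K) = QuotientGroup.mk 1 := (QuotientGroup.out_eq' _).trans hq₀out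
        rw [eq_comm, QuotientGroup.eq, inv_one, one_mul] at h1
        exact h1
      have hper : Function.minimalPeriod (fun y => x • y) q₀.out = 1 := by
        rw [Function.minimalPeriod_eq_one_iff_isFixedPt, hq₀out]
        exact hfixK
      simp only [hper, pow_one]
      rw [hconj _ _ hk hxK, hχx]
    · intro q _ hq
      have hmem := QuotientGroup.out_conj_pow_minimalPeriod_mem K x q.out
      set k := q.out.out with hk
      set l := Function.minimalPeriod (x • ·) q.out with hl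
      change χ ⟨k⁻¹ * x ^ l * k, hmem⟩ = 1
      by_cases hxl : x ^ l = 1
      · have : (⟨k⁻¹ * x ^ l * k, hmem⟩ : K) = 1 := Subtype.ext (by simp [hxl])
        rw [this, map_one]
      have hxla : (x ^ l) • a = a := (pow_mem hxH l : x ^ l ∈ H).1
      have hxlb : (x ^ l) • b = b := (pow_mem hxH l : x ^ l ∈ H).2
      have hkK : k ∉ K := by
        intro hkK
        refine hq (hout q ?_)
        rw [← QuotientGroup.out_eq' q.out, ← hk, eq_comm, QuotientGroup.eq, inv_one, one_mul]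
        exact hkK
      set y := k⁻¹ * x ^ l * k with hy
      have hyk : ∀ p : Ω, (x ^ l) • (k • p) = k • (y • p) := fun p => by
        rw [hy, mul_smul, mul_smul, smul_inv_smul]
      rcases hmem with ⟨hya, hyb⟩ | ⟨hya, hyb⟩
      · exfalso
        have h1 : (x ^ l) • (k • a) = k • a := by rw [hyk, hya]
        have h2 : (x ^ l) • (k • b) = k • b := by rw [hyk, hyb]
        have h3 : ∀ p, (x ^ l) • p = p → p = a ∨ p = b := fun p hp => by
          by_contra hpp
          simp only [not_or] at hpp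
          exact hxl (S.eq_one hab (Ne.symm hpp.2) (Ne.symm hpp.1) hxla hxlb hp)
        rcases h3 _ h1 with e1 | e1 <;> rcases h3 _ h2 with e2 | e2
        · exact hab (MulAction.injective k (e1.trans e2.symm))
        · exact hkK (Or.inl ⟨e1, e2⟩)
        · exact hkK (Or.inr ⟨e1, e2⟩)
        · exact hab (MulAction.injective k (e1.trans e2.symm))
      · have h1 : (x ^ l) • (k • a) = k • b := by rw [hyk, hya]
        have h2 : (x ^ l) • (k • b) = k • a := by rw [hyk, hyb]
        have hka : k • a ≠ a ∧ k • a ≠ b := by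
          constructor <;> intro e <;> rw [e] at h1
          · exact hab (MulAction.injective k (e.trans (hxla.symm.trans h1)))
          · exact hab (MulAction.injective k (e.trans (hxlb.symm.trans h1)))
        have h4 : x ^ l * x ^ l = 1 :=
          S.eq_one hab (Ne.symm hka.2) (Ne.symm hka.1) (by rw [mul_smul, hxla, hxla])
            (by rw [mul_smul, hxlb, hxlb]) (by rw [mul_smul, h1, h2])
        set c' := k⁻¹ • a with hc'
        have hyc : y • c' = c' := by rw [hy, hc', mul_smul, mul_smul, smul_inv_smul, hxla]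
        have hc'a : c' ≠ a := fun e => hab (by rw [e] at hyc; exact hyc.symm.trans hya)
        have hc'b : c' ≠ b := fun e => hab (by rw [e] at hyc; exact hyb.symm.trans hyc)
        obtain ⟨g, ⟨g1, g2, g3⟩, -⟩ := S.move a b c a b c' hab (Ne.symm hcb) (Ne.symm hca) hab (Ne.symm hc'b) (Ne.symm hc'a)
        have hgy : y = g * s * g⁻¹ := by
          have i1 : g⁻¹ • a = a := inv_smul_eq_iff.2 g1.symm
          have i2 : g⁻¹ • b = b := inv_smul_eq_iff.2 g2.symm
          have i3 : g⁻¹ • c' = c := inv_smul_eq_iff.2 g3.symm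
          refine S.ext3 hab (Ne.symm hc'b) (Ne.symm hc'a) ?_ ?_ ?_
          · rw [hya, mul_smul, mul_smul, i1, hsa, g2]
          · rw [hyb, mul_smul, mul_smul, i2, hsb, g1]
          · rw [hyc, mul_smul, mul_smul, i3, hsc, g3]
        have hgK : g ∈ K := Or.inl ⟨g1, g2⟩
        have : (⟨y, Or.inr ⟨hya, hyb⟩⟩ : K) = ⟨g, hgK⟩ * ⟨s, hsK⟩ * (⟨g, hgK⟩ : K)⁻¹ := Subtype.ext hgy
        rw [this, map_mul, map_mul, hχs, mul_one, ← map_mul, mul_inv_cancel, map_one]
    · intro h
      exact absurd (Finset.mem_univ _) h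
  rcases hG.eq_bot_or_eq_top_of_normal T.ker inferInstance with h | h
  · have hinj : Function.Injective T := (MonoidHom.ker_eq_bot_iff T).1 h
    have h1 := Nat.card_le_card_of_injective T hinj
    rw [Nat.card_eq_fintype_card (α := ℤˣ), Fintype.card_units_int] at h1
    obtain ⟨d, hda, hdb⟩ := S.exists_third a b
    obtain ⟨g, ⟨g1, g2, g3⟩, -⟩ := S.move a b d b d a hab (Ne.symm hdb) (Ne.symm hda) (Ne.symm hdb) hda (Ne.symm hab)
    have h3 : 3 ≤ Nat.card G := by
      have h4 : g ≠ 1 := by rintro rfl; rw [one_smul] at g1; exact hab g1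
      have h5 : g * g ≠ 1 := fun e => hda (by
        have : (g * g) • a = a := by rw [e, one_smul]
        rw [mul_smul, g1, g2] at this; exact this)
      have h6 : ({1, g, g * g} : Finset G).card = 3 := by
        rw [Finset.card_insert_of_notMem, Finset.card_pair]
        · exact fun e => h4 (left_eq_mul.1 e)
        · simp [Ne.symm h4, Ne.symm h5]
      rw [← h6, Nat.card_eq_fintype_card]
      exact Finset.card_le_univ _
    omega
  · have : T x = 1 := MonoidHom.mem_ker.1 (h ▸ Subgroup.mem_top x)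
    rw [hTx] at this
    exact absurd this (by decide)

omit S in
theorem of_card [Finite G] {a b : Ω} (hab : a ≠ b) (hZ : Cfsg.IsZassenhausGroup G Ω)
    (hd : Nat.card (stabilizer G a ⊓ stabilizer G b : Subgroup G) + 2 = Fintype.card Ω)
    (heven : Even (Fintype.card Ω)) : Sharp G Ω := by
  classical
  have h3 : ∀ g : G, ∀ x y w : Ω, x ≠ y → y ≠ w → x ≠ w → g • x = x → g • y = y → g • w = w → g = 1 := hZ.2.2.1
  have h4 : 4 ≤ Fintype.card Ω := by
    have := CfsgLib.AltGroups.IsZassenhaus.three_le_card hZ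
    rcases heven with ⟨r, hr⟩
    omega
  refine ⟨fun x y w x' y' w' hxy hyw hxw hxy' hyw' hxw' => ?_, heven, h4⟩
  haveI := Fintype.ofFinite (stabilizer G a ⊓ stabilizer G b : Subgroup G)
  have hmove : ∀ p q : Ω, p ≠ a → p ≠ b → q ≠ a → q ≠ b →
      ∃ h : G, h ∈ (stabilizer G a ⊓ stabilizer G b : Subgroup G) ∧ h • p = q := by
    intro p q hpa hpb hqa hqb
    have hinj : Set.InjOn (fun h : (stabilizer G a ⊓ stabilizer G b : Subgroup G) => (h : G) • p)
        (Finset.univ : Finset (stabilizer G a ⊓ stabilizer G b : Subgroup G)) := by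
      intro h _ k _ e
      refine Subtype.ext (inv_mul_eq_one.1 (h3 ((k : G)⁻¹ * h) a b p hab (Ne.symm hpb) (Ne.symm hpa) ?_ ?_ ?_)).symm
      · rw [mul_smul, h.2.1, inv_smul_eq_iff, k.2.1]
      · rw [mul_smul, h.2.2, inv_smul_eq_iff, k.2.2]
      · rw [mul_smul, inv_smul_eq_iff]; exact e
    have hq : q ∈ Finset.univ.image (fun h : (stabilizer G a ⊓ stabilizer G b : Subgroup G) => (h : G) • p) := by
      have himg : Finset.univ.image (fun h : (stabilizer G a ⊓ stabilizer G b : Subgroup G) => (h : G) • p) =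
          (Finset.univ.erase a).erase b := Finset.eq_of_subset_of_card_le ?_ ?_
      · rw [himg]; simp [hqa, hqb]
      · intro r hr
        obtain ⟨h, -, rfl⟩ := Finset.mem_image.1 hr
        simp only [Finset.mem_erase, Finset.mem_univ, and_true]
        exact ⟨fun e => hpb (MulAction.injective (h : G) (e.trans h.2.2.symm)),
          fun e => hpa (MulAction.injective (h : G) (e.trans h.2.1.symm))⟩
      · rw [Finset.card_image_of_injOn hinj, Finset.card_univ, ← Nat.card_eq_fintype_card,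
          Finset.card_erase_of_mem (by simp [Ne.symm hab]), Finset.card_erase_of_mem (Finset.mem_univ a),
          Finset.card_univ]
        omega
    obtain ⟨h, -, e⟩ := Finset.mem_image.1 hq
    exact ⟨h, h.2, e⟩
  obtain ⟨g, g1, g2⟩ := CfsgLib.AltGroups.IsZassenhaus.move hZ hxy hab
  obtain ⟨g', g1', g2'⟩ := CfsgLib.AltGroups.IsZassenhaus.move hZ hxy' hab
  obtain ⟨h, hh, hhe⟩ := hmove (g • w) (g' • w')
    (fun e => hxw (MulAction.injective g (g1.trans e.symm)))
    (fun e => hyw (MulAction.injective g (g2.trans e.symm)))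
    (fun e => hxw' (MulAction.injective g' (g1'.trans e.symm)))
    (fun e => hyw' (MulAction.injective g' (g2'.trans e.symm)))
  have e1 : (g'⁻¹ * h * g) • x = x' := by rw [mul_smul, mul_smul, g1, hh.1, inv_smul_eq_iff, g1']
  have e2 : (g'⁻¹ * h * g) • y = y' := by rw [mul_smul, mul_smul, g2, hh.2, inv_smul_eq_iff, g2']
  have e3 : (g'⁻¹ * h * g) • w = w' := by rw [mul_smul, mul_smul, hhe, inv_smul_smul]
  refine ⟨g'⁻¹ * h * g, ⟨e1, e2, e3⟩, fun k hk => ?_⟩
  refine (inv_mul_eq_one.1 (h3 ((g'⁻¹ * h * g)⁻¹ * k) x y w hxy hyw hxw ?_ ?_ ?_)).symm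
  · rw [mul_smul, hk.1, inv_smul_eq_iff, e1]
  · rw [mul_smul, hk.2.1, inv_smul_eq_iff, e2]
  · rw [mul_smul, hk.2.2, inv_smul_eq_iff, e3]

end Sharp

end CfsgLib.SharplyEven

namespace CfsgLib.SharplyEven

theorem Sharp.of_embedding {α : Type*} [Fintype α] (G : Subgroup (Equiv.Perm α))
    (heven : Even (Fintype.card α)) (h4 : 4 ≤ Fintype.card α)
    (h3 : MulAction.IsMultiplyPretransitive G α 3)
    (hsharp : ∀ x : Fin 3 ↪ α, MulAction.stabilizer G x = ⊥) : Sharp G α := by
  refine ⟨fun a b c a' b' c' hab hbc hac hab' hbc' hac' => ?_, heven, h4⟩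
  have emb : ∀ x y z : α, x ≠ y → y ≠ z → x ≠ z → Function.Injective ![x, y, z] := by
    intro x y z hxy hyz hxz i j hij
    fin_cases i <;> fin_cases j <;> simp_all [eq_comm]
  haveI := h3
  obtain ⟨g, hg⟩ := MulAction.exists_smul_eq G (α := Fin 3 ↪ α) ⟨![a, b, c], emb a b c hab hbc hac⟩
    ⟨![a', b', c'], emb a' b' c' hab' hbc' hac'⟩
  have g0 := DFunLike.congr_fun hg 0
  have g1 := DFunLike.congr_fun hg 1
  have g2 := DFunLike.congr_fun hg 2
  refine ⟨g, ⟨g0, g1, g2⟩, fun k hk => ?_⟩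
  have h1 : g⁻¹ * k ∈ MulAction.stabilizer G (⟨![a, b, c], emb a b c hab hbc hac⟩ : Fin 3 ↪ α) := by
    rw [MulAction.mem_stabilizer_iff]
    refine Function.Embedding.ext fun i => ?_
    fin_cases i
    · show (g⁻¹ * k) • a = a
      rw [mul_smul, hk.1, inv_smul_eq_iff]; exact g0.symm
    · show (g⁻¹ * k) • b = b
      rw [mul_smul, hk.2.1, inv_smul_eq_iff]; exact g1.symm
    · show (g⁻¹ * k) • c = c
      rw [mul_smul, hk.2.2, inv_smul_eq_iff]; exact g2.symm
  rw [hsharp, Subgroup.mem_bot] at h1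
  exact (inv_mul_eq_one.1 h1).symm

end CfsgLib.SharplyEven
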