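import Cfsg.Agent.Lib.SharplyEven.SuzukiOrder
import Cfsg.Agent.Lib.SharplyEven.Feit
import Cfsg.Agent.Lib.SharplyEven.Main
import Cfsg.Agent.Lib.AltGroups.ZassenhausAbelian
import Cfsg.Agent.Lib.AltGroups.SharplyThreeTransitive
import Cfsg.Agent.S0738
import Mathlib.FieldTheory.Perfect
import Mathlib.FieldTheory.Finite.Basic

/-!
Simple Zassenhaus groups: `PSL₂`, or Suzuki order.
-/

set_option autoImplicit false
set_option linter.unusedSectionVars false

open MulAction Cfsg Matrix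

namespace CfsgLib.SharplyEven.SimpleZassenhaus

open CfsgLib.RealChar.Zassenhaus

/-- Over a finite field of even order `PSL₂` and `PGL₂` agree. -/
theorem toPGL_bijective_of_even {K : Type*} [Field K] [Fintype K] (hK : Even (Fintype.card K)) :
    Function.Bijective (ProjectiveSpecialLinearGroup.toPGL (n := Fin 2) (R := K)) := by
  refine ⟨ProjectiveSpecialLinearGroup.toPGL_injective, fun y => ?_⟩
  obtain ⟨A, rfl⟩ := Matrix.ProjGenLinGroup.mk_surjective y
  obtain ⟨s, hs⟩ := FiniteField.isSquare_of_char_two (F := K)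
    (FiniteField.even_card_iff_char_two.2 (Nat.even_iff.1 hK)) (A : Matrix (Fin 2) (Fin 2) K).det
  have hs0 : s ≠ 0 := by
    rintro rfl
    exact Matrix.GeneralLinearGroup.det_ne_zero A (by rw [hs, mul_zero])
  have hdet : (s⁻¹ • (A : Matrix (Fin 2) (Fin 2) K)).det = 1 := by
    rw [det_smul, hs, Fintype.card_fin]; field_simp
  refine ⟨QuotientGroup.mk (⟨_, hdet⟩ : SpecialLinearGroup (Fin 2) K), ?_⟩
  refine (ProjectiveSpecialLinearGroup.toPGL_mk _).trans ?_
  refine QuotientGroup.eq.2 ?_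
  rw [GeneralLinearGroup.center_eq_range_scalar]
  refine ⟨Units.mk0 s hs0, ?_⟩
  rw [eq_inv_mul_iff_mul_eq]
  refine Units.ext ?_
  show (s⁻¹ • (A : Matrix (Fin 2) (Fin 2) K)) * (Matrix.scalar (Fin 2) s) = (A : Matrix (Fin 2) (Fin 2) K)
  rw [Matrix.scalar_apply, ← Matrix.smul_one_eq_diagonal, Matrix.mul_smul, mul_one, smul_smul,
    mul_inv_cancel₀ hs0, one_smul]

variable {G Ω : Type*} [Group G] [Finite G] [MulAction G Ω] [Fintype Ω]

/-- A regular normal subgroup of a point stabiliser is the kernel. -/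
theorem eq_kernel (hZ : Cfsg.IsZassenhausGroup G Ω) {a b : Ω} (hab : a ≠ b) (U : Subgroup G)
    (hUle : U ≤ stabilizer G a) (hUn : ∀ g ∈ stabilizer G a, ∀ u ∈ U, g * u * g⁻¹ ∈ U)
    (hreg : ∀ y z : Ω, y ≠ a → z ≠ a → ∃! u : U, (u : G) • y = z) :
    Nat.card U + 1 = Fintype.card Ω ∧ ∀ u ∈ U, u ≠ 1 → ∀ c : Ω, u • c = c → c = a := by
  classical
  refine ⟨?_, fun u hu hu1 c hc => ?_⟩
  · have hbij : Function.Bijective (fun u : U => (⟨(u : G) • b, fun e => hab
        (MulAction.injective (u : G) (e.trans (show (u : G) • a = a from hUle u.2).symm)).symm⟩ : {c : Ω // c ≠ a})) := by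
      constructor
      · intro u v huv
        exact (hreg b _ hab.symm (fun e => hab (MulAction.injective (v : G)
          (e.trans (show (v : G) • a = a from hUle v.2).symm)).symm)).unique
          (congrArg Subtype.val huv) rfl
      · rintro ⟨c, hc⟩
        obtain ⟨u, hu, -⟩ := hreg b c hab.symm hc
        exact ⟨u, Subtype.ext hu⟩
    rw [Nat.card_congr (Equiv.ofBijective _ hbij), Nat.card_eq_fintype_card, Fintype.card_subtype_compl,
      Fintype.card_subtype_eq]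
    have := three_le_card hZ
    omega
  · by_contra hca
    have := (hreg c c hca hca).unique (y₁ := ⟨u, hu⟩) (y₂ := 1) hc (by rw [Subgroup.coe_one, one_smul])
    exact hu1 (congrArg Subtype.val this)

/-- The Suzuki case. -/
theorem suzuki_case (hZ : Cfsg.IsZassenhausGroup G Ω) [IsSimpleGroup G] {a b : Ω} (hab : a ≠ b) (U : Subgroup G)
    (hUle : U ≤ stabilizer G a) (hUn : ∀ g ∈ stabilizer G a, ∀ u ∈ U, g * u * g⁻¹ ∈ U)
    (hreg : ∀ y z : Ω, y ≠ a → z ≠ a → ∃! u : U, (u : G) • y = z)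
    (hU2 : IsPGroup 2 U) (hUna : ∃ u v : U, u * v ≠ v * u) :
    ∃ n : ℕ, Odd n ∧ 1 < n ∧ Fintype.card Ω = 2 ^ (2 * n) + 1 ∧
      IsCyclic ↥(stabilizer G a ⊓ stabilizer G b) ∧
      Nat.card ↥(stabilizer G a ⊓ stabilizer G b) = 2 ^ n - 1 ∧
      Cfsg.IsSuzukiTwoGroup U ∧ Nat.card (Subgroup.center U) = 2 ^ n ∧ Nat.card U = (2 ^ n) ^ 2 ∧
      Nat.card G = (2 ^ n) ^ 2 * ((2 ^ n) ^ 2 + 1) * (2 ^ n - 1) := by
  classical
  haveI := Fintype.ofFinite G
  obtain ⟨hc, hf⟩ := eq_kernel hZ hab U hUle hUn hreg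
  obtain ⟨n, hn, hn1, hcard, hE, hcyc, hS, hcen⟩ := SuzukiOrder.main hZ hab U hUle hc hf hU2 hUna
  have hΩ : Fintype.card Ω = 2 ^ (2 * n) + 1 := by rw [← hc, hcard, ← pow_mul, mul_comm n 2]
  refine ⟨n, hn, hn1, hΩ, hcyc, hE, hS, hcen, hcard, ?_⟩
  rw [card_group hZ hab, hE, hΩ, Nat.add_sub_cancel, ← pow_mul, mul_comm n 2]
  ring

theorem simple_classification (hZ : Cfsg.IsZassenhausGroup G Ω) [IsSimpleGroup G] :
    (∃ (F : Type) (_ : Field F) (_ : Fintype F),
      Nonempty (G ≃* Matrix.ProjectiveSpecialLinearGroup (Fin 2) F)) ∨ Cfsg.IsSuzuki G := by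
  classical
  have h3 := three_le_card hZ
  obtain ⟨a, b, hab⟩ := Fintype.exists_pair_of_one_lt_card (show 1 < Fintype.card Ω by omega)
  -- the abelian case
  have habelian : ∀ F : Subgroup G, F ≤ stabilizer G a → (F.subgroupOf (stabilizer G a)).Normal →
      IsMulCommutative F → (∀ y z : Ω, y ≠ a → z ≠ a → ∃! u : F, (u : G) • y = z) →
      ∃ (F : Type) (_ : Field F) (_ : Fintype F),
        Nonempty (G ≃* Matrix.ProjectiveSpecialLinearGroup (Fin 2) F) := by
    intro F hFle hFn hFab hreg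
    rcases CfsgLib.AltGroups.zassenhaus_abelian_kernel hZ (Ne.symm hab) F hFle hFn hFab hreg with
      hd | ⟨-, K, i, j, -, -, hiso⟩
    swap
    · exact ⟨K, i, j, hiso⟩
    rcases Nat.even_or_odd (Fintype.card Ω) with hev | hodd
    · exact absurd ‹IsSimpleGroup G› ((Sharp.of_card hab hZ hd hev).not_simple hZ)
    haveI := hZ.1
    obtain ⟨K, i, j, hK, ⟨iso⟩⟩ := CfsgLib.AltGroups.sharply_three_transitive_odd_degree (G := G) (Ω := Ω)
      (fun p q r p' q' r' h1 h2 h3' h4 h5 h6 => by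
        obtain ⟨h3t, hfix⟩ := CfsgLib.AltGroups.sharply_three_transitive_of_card hZ (Ne.symm hab) hd
        have emb : ∀ x y z : Ω, x ≠ y → y ≠ z → x ≠ z → Function.Injective ![x, y, z] := by
          intro x y z hxy hyz hxz i j hij
          fin_cases i <;> fin_cases j <;> simp_all [eq_comm]
        haveI := h3t
        obtain ⟨g, hg⟩ := MulAction.exists_smul_eq G (α := Fin 3 ↪ Ω) ⟨![p, q, r], emb p q r h1 h2 h3'⟩
          ⟨![p', q', r'], emb p' q' r' h4 h5 h6⟩
        refine ⟨g, ⟨DFunLike.congr_fun hg 0, DFunLike.congr_fun hg 1, DFunLike.congr_fun hg 2⟩, fun k hk => ?_⟩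
        refine (inv_mul_eq_one.1 (hZ.2.2.1 (g⁻¹ * k) p q r h1 h2 h3' ?_ ?_ ?_)).symm
        · rw [mul_smul, hk.1, inv_smul_eq_iff]; exact (DFunLike.congr_fun hg 0).symm
        · rw [mul_smul, hk.2.1, inv_smul_eq_iff]; exact (DFunLike.congr_fun hg 1).symm
        · rw [mul_smul, hk.2.2, inv_smul_eq_iff]; exact (DFunLike.congr_fun hg 2).symm) hodd h3
    have hKev : Even (Fintype.card K) := by
      rw [← hK] at hodd
      simpa [Nat.odd_add_one] using hodd
    exact ⟨K, i, j, ⟨iso.trans (MulEquiv.ofBijective _ (toPGL_bijective_of_even hKev)).symm⟩⟩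
  rcases Nat.even_or_odd (Nat.card (stabilizer G a ⊓ stabilizer G b : Subgroup G)) with he | ho
  · obtain ⟨F, hFle, hFn, hFab, hreg⟩ := CfsgLib.AltGroups.exists_kernel_of_even hZ (Ne.symm hab) he
    exact Or.inl (habelian F hFle hFn hFab hreg)
  obtain ⟨H, hHa, hHc, hHf⟩ := exists_kernel_subgroup hZ a
  have hn := CfsgLib.CyclicTI.TIInd.subgroupOf_normal (H := H) (L := stabilizer G a)
    fun x hx u hu => kernel_conj_mem hZ a H hHa hHc hHf hx hu
  have hreg : ∀ y z : Ω, y ≠ a → z ≠ a → ∃! u : H, (u : G) • y = z := by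
    intro y z hy hz
    obtain ⟨u, hu, huz⟩ := kernel_regular hZ a H hHa hHc hHf hy hz
    refine ⟨⟨u, hu⟩, huz, fun v hv => Subtype.ext ?_⟩
    by_contra hne
    refine hy (hHf _ (mul_mem (inv_mem hu) v.2) (fun e => hne (inv_mul_eq_one.1 e).symm) y ?_)
    rw [mul_smul, hv, inv_smul_eq_iff, huz]
  obtain ⟨h, hh⟩ : ∃ h, Fintype.card Ω = h + 1 := ⟨Fintype.card Ω - 1, by omega⟩
  by_cases hle : h - 1 ≤ 2 * Nat.card (stabilizer G a ⊓ stabilizer G b : Subgroup G)
  · obtain ⟨hab', -⟩ := Cfsg.Agent.S0738.result hZ hab (by omega) H hHa hn hreg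
    exact Or.inl (habelian H hHa hn hab' hreg)
  · obtain ⟨h2, hna, -⟩ := (Feit.main hZ hab h _ hh rfl ho H hHa hHc hHf).resolve_left hle
    obtain ⟨n, hn', hn1, -, -, -, -, -, -, hG⟩ := suzuki_case hZ hab H hHa
      (fun g hg u hu => kernel_conj_mem hZ a H hHa hHc hHf hg hu) hreg h2 hna
    obtain ⟨m, rfl⟩ := hn'
    exact Or.inr ⟨inferInstance, m, by omega, hG⟩

end CfsgLib.SharplyEven.SimpleZassenhaus
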