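import Cfsg.Agent.Lib.CharTheory.Values
import Cfsg.Agent.Lib.CharTheory.Basic
import Cfsg.Agent.Lib.CharTheory.Degree
import Mathlib.Tactic

/-!
Irreducible characters of a group whose commutators lie in a central subgroup: the central character, the
vanishing off the radical of the commutator form, and the degree.
-/

set_option autoImplicit false

open Cfsg CfsgLib.CharTheory
open scoped ComplexConjugate commutatorElement

namespace CfsgLib.SharplyEven.CentralChar

variable {P : Type*} [Group P] [Fintype P] (Z : Subgroup P)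

/-- The radical of the commutator form attached to a linear character of `Z`. -/
def Radical (ω : Z →* ℂˣ) : Set P :=
  {x | ∀ (y : P) (h : ⁅y, x⁆ ∈ Z), ω ⟨⁅y, x⁆, h⟩ = 1}

/-- The central character: it governs translation by `Z`, vanishing and the degree. -/
theorem exists_central_hom (hc : Z ≤ Subgroup.center P) (hcomm : ∀ y x : P, ⁅y, x⁆ ∈ Z) {θ : P → ℂ}
    (hθ : IsIrrCharacter P θ) :
    ∃ ω : Z →* ℂˣ, (∀ z : Z, θ z = (ω z : ℂ) * θ 1) ∧ (∀ (z : Z) (x : P), θ (z * x) = (ω z : ℂ) * θ x) ∧
      ∀ n : ℕ, θ 1 = (n : ℂ) → n ^ 2 * Nat.card (Radical Z ω) = Nat.card P := by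
  classical
  obtain ⟨d, ρ, hρ, rfl⟩ := hθ
  haveI := hρ
  haveI : Nontrivial (Fin d → ℂ) := nontrivial_of_isIrreducible ρ
  have hscal : ∀ z : Z, ∃ c : ℂ, ρ (z : P) = c • (LinearMap.id : (Fin d → ℂ) →ₗ[ℂ] _) := fun z =>
    exists_smul_of_commute ρ (ρ (z : P)) fun y => by
      show ρ (z : P) * ρ y = ρ y * ρ (z : P)
      rw [← map_mul, ← map_mul, Subgroup.mem_center_iff.1 (hc z.2) y]
  choose c hcz using hscal
  have hinj : ∀ a b : ℂ, a • (LinearMap.id : (Fin d → ℂ) →ₗ[ℂ] _) = b • LinearMap.id → a = b := by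
    intro a b h
    obtain ⟨v, hv⟩ := exists_ne (0 : Fin d → ℂ)
    exact smul_left_injective ℂ hv (by simpa using LinearMap.congr_fun h v)
  have hc1 : c 1 = 1 := hinj _ _ (by
    rw [← hcz, one_smul, OneMemClass.coe_one, map_one]
    rfl)
  have hcmul : ∀ z w : Z, c (z * w) = c z * c w := fun z w => hinj _ _ (by
    rw [← hcz, Subgroup.coe_mul, map_mul, hcz, hcz]
    exact LinearMap.ext fun v => by simp [mul_smul, smul_comm (c z) (c w)])
  let ω : Z →* ℂˣ := MonoidHom.toHomUnits { toFun := c, map_one' := hc1, map_mul' := hcmul }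
  have htr : ∀ (z : Z) (x : P), ρ.character ((z : P) * x) = (ω z : ℂ) * ρ.character x := by
    intro z x
    show LinearMap.trace ℂ _ (ρ ((z : P) * x)) = c z * LinearMap.trace ℂ _ (ρ x)
    have hmul : ρ ((z : P) * x) = c z • ρ x := by
      rw [map_mul, hcz]
      exact LinearMap.ext fun v => by simp
    rw [hmul, map_smul, smul_eq_mul]
  refine ⟨ω, fun z => ?_, htr, fun n hn => ?_⟩
  · have := htr z 1
    rwa [mul_one] at this
  have hout : ∀ x : P, x ∉ Radical Z ω → ρ.character x = 0 := by
    intro x hx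
    simp only [Radical, Set.mem_setOf_eq, not_forall] at hx
    obtain ⟨y, h, hne⟩ := hx
    have h1 := IsIrrCharacter.isClassFunction (isIrrCharacter_character ρ) x y
    rw [show y * x * y⁻¹ = ⁅y, x⁆ * x by rw [commutatorElement_def]; group] at h1
    have h2 := htr ⟨_, h⟩ x
    rw [h1] at h2
    have h3 : ((ω ⟨_, h⟩ : ℂ) - 1) * ρ.character x = 0 := by linear_combination -h2
    refine (mul_eq_zero.1 h3).resolve_left fun e => hne (Units.ext ?_)
    rw [Units.val_one]; exact sub_eq_zero.1 e
  have hin : ∀ x ∈ Radical Z ω, ρ.character x * conj (ρ.character x) = (n : ℂ) ^ 2 := by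
    intro x hx
    obtain ⟨a, ha⟩ := exists_smul_of_commute ρ (ρ x) fun y => by
      have h1 : ρ ⁅y, x⁆ = LinearMap.id := by
        have := hcz ⟨_, hcomm y x⟩
        have h2 : c ⟨_, hcomm y x⟩ = 1 := congrArg Units.val (hx y (hcomm y x))
        rw [h2, one_smul] at this
        exact this
      have h3 : ρ (y * x) = ρ (x * y) := by
        rw [show y * x = ⁅y, x⁆ * (x * y) by rw [commutatorElement_def]; group, map_mul, h1]
        rfl
      show ρ x * ρ y = ρ y * ρ x
      rw [← map_mul, ← map_mul, h3]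
    have hn' : ((Module.finrank ℂ (Fin d → ℂ) : ℕ) : ℂ) = (n : ℂ) := by rw [← hn, ρ.char_one]
    have hnorm := (norm_character_eq_iff ρ x).2 ⟨a, ha⟩
    rw [Complex.mul_conj, Complex.normSq_eq_norm_sq, hnorm, ← hn']
    push_cast
    rfl
  have hnorm := classInner_self_of_isIrr (isIrrCharacter_character ρ)
  rw [classInner, Finset.sum_congr rfl (g := fun x => if x ∈ Radical Z ω then (n : ℂ) ^ 2 else 0) (fun x _ => by
    split_ifs with h
    · exact hin x h
    · rw [hout x h, zero_mul]), ← Finset.sum_filter, Finset.sum_const, nsmul_eq_mul] at hnorm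
  have hcard : (Finset.univ.filter fun x => x ∈ Radical Z ω).card = Nat.card (Radical Z ω) := by
    rw [← Fintype.card_subtype, ← Nat.card_eq_fintype_card]
  rw [hcard] at hnorm
  have h0 : (Nat.card P : ℂ) ≠ 0 := Nat.cast_ne_zero.2 Nat.card_pos.ne'
  have : ((n ^ 2 * Nat.card (Radical Z ω) : ℕ) : ℂ) = (Nat.card P : ℂ) := by
    push_cast
    field_simp at hnorm
    linear_combination hnorm
  exact_mod_cast this

end CfsgLib.SharplyEven.CentralChar
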