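import Cfsg.Agent.Lib.RealChar.ZassenhausInduced
import Cfsg.Agent.Lib.RealChar.ZassenhausClasses
import Cfsg.Agent.Lib.CyclicTI.TIExc
import Cfsg.Agent.Lib.CyclicTI.TIKernel
import Cfsg.Agent.Lib.Coherence.Virtual
import Cfsg.Agent.S0878
import Mathlib.Tactic

/-!
Preparations for Feit's theorem: the point stabiliser of a simple Zassenhaus group, its linear characters,
and the characters of `G` attached to them.
-/

set_option autoImplicit false
set_option linter.unusedSectionVars false

open MulAction Cfsg CfsgLib.CharTheory CfsgLib.CyclicTI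
open scoped ComplexConjugate

namespace CfsgLib.SharplyEven.Feit

open CfsgLib.RealChar.Zassenhaus

variable {G Ω : Type*} [Group G] [Fintype G] [MulAction G Ω] [Fintype Ω]
variable (hZ : Cfsg.IsZassenhausGroup G Ω) {a b : Ω} (hab : a ≠ b)
variable (H : Subgroup G) (hHa : H ≤ stabilizer G a) (hHcard : Nat.card H + 1 = Fintype.card Ω)
variable (hHfix : ∀ u ∈ H, u ≠ 1 → ∀ c : Ω, u • c = c → c = a)

include hZ

include hHa hHcard hHfix in
theorem centralizer_le {k : G} (hk : k ∈ H) (hk1 : k ≠ 1) : Subgroup.centralizer ({k} : Set G) ≤ H := by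
  intro g hg
  rw [Subgroup.mem_centralizer_singleton_iff] at hg
  have hga : g • a = a := hHfix k hk hk1 _ (by rw [← mul_smul, ← hg, mul_smul, show k • a = a from hHa hk])
  rw [mem_kernel_iff hZ a H hHa hHcard hHfix]
  refine or_iff_not_imp_left.2 fun hg1 => ⟨hga, fun c hc => ?_⟩
  by_contra hca
  have h1 : g • k • c = k • c := by rw [← mul_smul, hg, mul_smul, hc]
  rcases fix_two hZ hg1 (Ne.symm hca) hga hc h1 with e | e
  · exact hca (MulAction.injective k (e.trans (show k • a = a from hHa hk).symm))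
  · exact hca (hHfix k hk hk1 c e)

include hHa hHcard hHfix in
theorem isTISubset : Cfsg.IsTISubset (H : Set G) := by
  have h := Cfsg.Agent.S0878.result hZ a H hHa hHcard hHfix
  intro g hg x hx hgx
  exact h.1 g (fun hs => hg (h.2.symm ▸ hs)) x hx hgx

include hHa hHcard hHfix in
theorem subgroupOf_normal : (H.subgroupOf (stabilizer G a)).Normal :=
  TIInd.subgroupOf_normal fun _ hx _ hh => kernel_conj_mem hZ a H hHa hHcard hHfix hx hh

include hHa hHcard hHfix in
theorem kernelCond [Fintype (stabilizer G a)] : Frob.KernelCond (H.subgroupOf (stabilizer G a)) :=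
  TIInd.kernelCond fun _ hk hk1 => inf_le_right.trans (centralizer_le hZ H hHa hHcard hHfix hk hk1)

include hab hHa hHcard in
theorem index_eq : (H.subgroupOf (stabilizer G a)).index
    = Nat.card (stabilizer G a ⊓ stabilizer G b : Subgroup G) := by
  have h := (H.subgroupOf (stabilizer G a)).card_mul_index
  rw [card_stab hZ hab, Nat.card_congr (Subgroup.subgroupOfEquivOfLe hHa).toEquiv,
    show Fintype.card Ω - 1 = Nat.card H by omega] at h
  exact Nat.eq_of_mul_eq_mul_left Nat.card_pos h

include hab hHa hHcard hHfix in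
theorem isComplement : Subgroup.IsComplement' (H.subgroupOf (stabilizer G a))
    ((stabilizer G b).subgroupOf (stabilizer G a)) := by
  refine Subgroup.isComplement'_of_card_mul_and_disjoint ?_ ?_
  · have hE : Nat.card ((stabilizer G b).subgroupOf (stabilizer G a))
        = Nat.card (stabilizer G a ⊓ stabilizer G b : Subgroup G) := Nat.card_congr
      { toFun := fun x => ⟨x.1.1, x.1.2, x.2⟩
        invFun := fun x => ⟨⟨x.1, x.2.1⟩, x.2.2⟩
        left_inv := fun _ => rfl
        right_inv := fun _ => rfl }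
    rw [hE, ← index_eq hZ hab H hHa hHcard]
    exact Subgroup.card_mul_index _
  · rw [Subgroup.disjoint_def]
    intro x hxK hxE
    by_contra hx1
    exact hab (hHfix x hxK (fun e => hx1 (Subtype.ext e)) b hxE).symm

/-- Every element of `G_a` off the kernel is conjugate to an element of `G_{a,b}`. -/
theorem exists_conj_complement [Fintype (stabilizer G a)] {K E : Subgroup (stabilizer G a)} [K.Normal]
    (hKC : Frob.KernelCond K) (hc : Subgroup.IsComplement' K E) {x : stabilizer G a} (hx : x ∉ K) :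
    ∃ y ∈ E, IsConj y x := by
  obtain ⟨⟨⟨k, hk⟩, ⟨y, hy⟩⟩, hky⟩ := hc.2 x
  have hy1 : y ≠ 1 := fun e => hx (by
    have h' : k * y = x := hky
    rw [← h', e, mul_one]; exact hk)
  have hfpf : ∀ w ∈ E, w ≠ 1 → ∀ u ∈ K, w * u = u * w → u = 1 := by
    intro w hw hw1 u hu huw
    by_contra hu1
    refine hw1 (Subgroup.disjoint_def.1 hc.disjoint
      (hKC u hu hu1 (Subgroup.mem_centralizer_singleton_iff.2 huw)) hw)
  obtain ⟨t, -, ht⟩ := CfsgLib.Frobenius.exists_conj_eq K E hfpf hy hy1 hk
  exact ⟨y, hy, isConj_iff.2 ⟨t, ht.trans hky⟩⟩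

include hab in
theorem card_fix_sum [Fintype (stabilizer G a)] :
    ∑ x : stabilizer G a, Nat.card {c : Ω // c ≠ a ∧ (x : G) • c = c} = Nat.card (stabilizer G a) := by
  classical
  have hone : ∀ c : {c : Ω // c ≠ a}, Nat.card {x : stabilizer G a // (x : G) • (c : Ω) = c}
      = Nat.card (stabilizer G a ⊓ stabilizer G b : Subgroup G) := by
    intro c
    rw [card_E_congr hZ hab (Ne.symm c.2)]
    exact Nat.card_congr
      { toFun := fun x => (⟨x.1.1, x.1.2, x.2⟩ : (stabilizer G a ⊓ stabilizer G (c : Ω) : Subgroup G))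
        invFun := fun x => ⟨⟨x.1, x.2.1⟩, x.2.2⟩
        left_inv := fun _ => rfl
        right_inv := fun _ => rfl }
  rw [← Nat.card_sigma, card_stab hZ hab]
  let e : (Σ x : stabilizer G a, {c : Ω // c ≠ a ∧ (x : G) • c = c})
      ≃ (Σ c : {c : Ω // c ≠ a}, {x : stabilizer G a // (x : G) • (c : Ω) = c}) :=
    { toFun := fun q => ⟨⟨q.2.1, q.2.2.1⟩, q.1, q.2.2.2⟩
      invFun := fun q => ⟨q.2.1, q.1.1, q.1.2, q.2.2⟩
      left_inv := fun _ => rfl
      right_inv := fun _ => rfl }
  rw [Nat.card_congr e, Nat.card_sigma, Finset.sum_congr rfl fun c _ => hone c, Finset.sum_const,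
    smul_eq_mul, Finset.card_univ, Fintype.card_subtype_compl, Fintype.card_subtype_eq]

variable [IsSimpleGroup G] (hodd : Odd (Nat.card (stabilizer G a ⊓ stabilizer G b : Subgroup G)))

include hab hodd in
/-- The Steinberg character `Ind 1 - 1`. -/
theorem exists_steinberg [Fintype (stabilizer G a)] :
    ∃ St : G → ℂ, IsIrrCharacter G St ∧ St 1 = ((Fintype.card Ω - 1 : ℕ) : ℂ) ∧
      (∀ u : stabilizer G a, St u = (Nat.card {c : Ω // c ≠ a ∧ (u : G) • c = c} : ℂ)) ∧
      Cfsg.indFun (stabilizer G a) (fun _ => (1 : ℂ)) = St + fun _ => 1 := by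
  classical
  set I := Cfsg.indFun (stabilizer G a) (fun _ => (1 : ℂ)) with hI
  have hval : ∀ u : stabilizer G a, I u = 1 + (Nat.card {c : Ω // c ≠ a ∧ (u : G) • c = c} : ℂ) := by
    intro u
    have h := indFun_linear_apply hZ hab hodd (1 : stabilizer G a →* ℂˣ) u
    simpa using h
  have hIc : IsCharacter G I :=
    CfsgLib.Frobenius.isCharacter_indFun _ _ (IsIrrCharacter.isCharacter isIrrCharacter_one)
  have hI1 : classInner I (fun _ => (1 : ℂ)) = 1 := by
    rw [CfsgLib.Frobenius.classInner_indFun _ _ _ (IsIrrCharacter.isClassFunction isIrrCharacter_one)]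
    exact classInner_self_of_isIrr isIrrCharacter_one
  have hII : classInner I I = 2 := by
    rw [hI, CfsgLib.Frobenius.classInner_indFun _ _ _ (CfsgLib.Frobenius.indFun_isClassFunction _ _), ← hI]
    simp only [classInner, hval, one_mul, map_add, map_one, map_natCast, Finset.sum_add_distrib,
      Finset.sum_const, Finset.card_univ, nsmul_eq_mul, mul_one, ← Nat.card_eq_fintype_card,
      ← Nat.cast_sum, card_fix_sum hZ hab]
    rw [← two_mul, ← mul_assoc, mul_comm _ (2 : ℂ), mul_assoc,
      inv_mul_cancel₀ (Nat.cast_ne_zero.2 Nat.card_pos.ne'), mul_one]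
  have hdeg : (I - fun _ : G => (1 : ℂ) : G → ℂ) 1 = ((Fintype.card Ω - 1 : ℕ) : ℂ) := by
    haveI := pretransitive hZ
    have h3 := three_le_card hZ
    show I 1 - 1 = _
    rw [hI, CfsgLib.Frobenius.indFun_one, index_stabilizer_of_transitive, Nat.card_eq_fintype_card,
      Nat.cast_sub (by omega), Nat.cast_one, mul_one]
  refine ⟨I - fun _ => 1, ?_, hdeg, fun u => ?_, (sub_add_cancel _ _).symm⟩
  · refine isIrrCharacter_of_norm_one ⟨I, fun _ => 1, hIc, IsIrrCharacter.isCharacter isIrrCharacter_one, rfl⟩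
      ?_ ?_
    · rw [classInner_sub_left, classInner_sub_right, classInner_sub_right, hII, hI1,
        classInner_conj_symm (fun _ => (1 : ℂ)) I, hI1, map_one,
        classInner_self_of_isIrr isIrrCharacter_one]
      ring
    · have h3 := three_le_card hZ
      rw [hdeg, Complex.natCast_re, Nat.cast_pos]
      omega
  · show I u - 1 = _
    rw [hval u]; ring

include hab hHa hHcard hHfix hodd in
/-- The `e - 1` characters of `G` induced from non-trivial linear characters of `G_a`, at least half of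
them distinct, together with the `e` linear characters of `G_a` trivial on the kernel. -/
theorem exists_linear_family [Fintype (stabilizer G a)] :
    ∃ L : Finset (stabilizer G a →* ℂˣ),
      L.card = Nat.card (stabilizer G a ⊓ stabilizer G b : Subgroup G) ∧ 1 ∈ L ∧
      (∀ f ∈ L, ∀ u : stabilizer G a, (u : G) ∈ H → f u = 1) ∧
      ∀ f ∈ L, f ≠ 1 → ∀ s : Finset (stabilizer G a →* ℂˣ),
        (∀ g ∈ s, g ∈ L ∧ g ≠ 1 ∧ Cfsg.indFun (stabilizer G a) (fun y => (g y : ℂ))
          = Cfsg.indFun (stabilizer G a) (fun y => (f y : ℂ))) → s.card ≤ 2 := by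
  classical
  have hn := subgroupOf_normal hZ H hHa hHcard hHfix
  set K := H.subgroupOf (stabilizer G a) with hK
  set E := (stabilizer G b).subgroupOf (stabilizer G a) with hE
  have hc := isComplement hZ hab H hHa hHcard hHfix
  have hcomm : ∀ x y : E, x * y = y * x := by
    obtain ⟨s, hsa, hsb⟩ := exists_swapper hZ hab
    have hinv : ∀ x : E, s * (x.1 : G) * s⁻¹ = (x.1 : G)⁻¹ := fun x =>
      swap_inverts hZ hab hodd hsa hsb x.1.2 x.2
    intro x y
    refine Subtype.ext (Subtype.ext ?_)
    have h := hinv (x * y)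
    simp only [Subgroup.coe_mul] at h
    have h2 : (x.1 : G)⁻¹ * (y.1 : G)⁻¹ = ((x.1 : G) * (y.1 : G))⁻¹ := by
      rw [← h, ← hinv x, ← hinv y]; group
    have h3 := congrArg (·⁻¹) h2
    simp only [mul_inv_rev, inv_inv] at h3
    exact h3.symm
  letI : CommGroup E := { (inferInstance : Group E) with mul_comm := hcomm }
  haveI : Finite (E →* ℂˣ) := by
    haveI : HasEnoughRootsOfUnity ℂ (Monoid.exponent E) := by
      haveI : NeZero (Monoid.exponent E) := ⟨Monoid.exponent_ne_zero_of_finite⟩
      infer_instance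
    exact Nat.finite_of_card_ne_zero (by
      rw [CommGroup.card_monoidHom_of_hasEnoughRootsOfUnity]; exact Nat.card_pos.ne')
  haveI := Fintype.ofFinite (E →* ℂˣ)
  let π : stabilizer G a →* E :=
    (Subgroup.IsComplement'.QuotientMulEquiv hc.symm).toMonoidHom.comp (QuotientGroup.mk' K)
  let lift : (E →* ℂˣ) → (stabilizer G a →* ℂˣ) := fun χ => χ.comp π
  have hinjl : Function.Injective lift := by
    intro χ χ' e
    refine MonoidHom.ext fun y => ?_
    obtain ⟨x, hx⟩ : ∃ x, π x = y :=
      ((Subgroup.IsComplement'.QuotientMulEquiv hc.symm).surjective.comp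
        (QuotientGroup.mk'_surjective K)) y
    rw [← hx]
    exact DFunLike.congr_fun e x
  have hlK : ∀ χ : E →* ℂˣ, ∀ u : stabilizer G a, (u : G) ∈ H → lift χ u = 1 := by
    intro χ u hu
    show χ ((Subgroup.IsComplement'.QuotientMulEquiv hc.symm) (QuotientGroup.mk' K u)) = 1
    rw [show QuotientGroup.mk' K u = 1 from (QuotientGroup.eq_one_iff u).2 hu, map_one, map_one]
  refine ⟨Finset.univ.image lift, ?_, Finset.mem_image.2 ⟨1, Finset.mem_univ _, rfl⟩, ?_, ?_⟩
  · rw [Finset.card_image_of_injective _ hinjl, Finset.card_univ, ← Nat.card_eq_fintype_card]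
    haveI : HasEnoughRootsOfUnity ℂ (Monoid.exponent E) := by
      haveI : NeZero (Monoid.exponent E) := ⟨Monoid.exponent_ne_zero_of_finite⟩
      infer_instance
    rw [CommGroup.card_monoidHom_of_hasEnoughRootsOfUnity]
    exact Nat.card_congr
      { toFun := fun x => ⟨x.1.1, x.1.2, x.2⟩
        invFun := fun x => ⟨⟨x.1, x.2.1⟩, x.2.2⟩
        left_inv := fun _ => rfl
        right_inv := fun _ => rfl }
  · intro f hf
    obtain ⟨χ, -, rfl⟩ := Finset.mem_image.1 hf
    exact hlK χ
  intro f hf hf1 s hs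
  refine (Finset.card_le_card (t := {f, f⁻¹}) fun g hg => ?_).trans Finset.card_le_two
  obtain ⟨hgL, -, heq⟩ := hs g hg
  rw [Finset.mem_insert, Finset.mem_singleton]
  have hfK : ∀ f' ∈ Finset.univ.image lift, ∀ u : stabilizer G a, (u : G) ∈ H → f' u = 1 := by
    intro f' hf'
    obtain ⟨χ, -, rfl⟩ := Finset.mem_image.1 hf'
    exact hlK χ
  have hpt : ∀ x : E, g x.1 = f x.1 ∨ g x.1 = (f x.1)⁻¹ := by
    intro x
    rcases eq_or_ne x 1 with rfl | hx1
    · left; simp
    have hxg : (x.1 : G) ≠ 1 := fun e => hx1 (Subtype.ext (Subtype.ext e))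
    have hcard : Nat.card {c : Ω // c ≠ a ∧ (x.1 : G) • c = c} = 1 := by
      refine Nat.card_eq_one_iff_unique.2 ⟨⟨fun c d => ?_⟩, ⟨⟨b, hab.symm, x.2⟩⟩⟩
      have := fix_two hZ hxg hab x.1.2 x.2 c.2.2
      have := fix_two hZ hxg hab x.1.2 x.2 d.2.2
      exact Subtype.ext (((fix_two hZ hxg hab x.1.2 x.2 c.2.2).resolve_left c.2.1).trans
        ((fix_two hZ hxg hab x.1.2 x.2 d.2.2).resolve_left d.2.1).symm)
    have h := congrFun heq (x.1 : G)
    rw [indFun_linear_apply hZ hab hodd g x.1, indFun_linear_apply hZ hab hodd f x.1, hcard,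
      Nat.cast_one, one_mul, one_mul, map_inv, map_inv, Units.val_inv_eq_inv_val,
      Units.val_inv_eq_inv_val] at h
    have hgne : (g x.1 : ℂ) ≠ 0 := Units.ne_zero _
    have hfne : (f x.1 : ℂ) ≠ 0 := Units.ne_zero _
    have h0 : ((g x.1 : ℂ) - f x.1) * ((g x.1 : ℂ) * f x.1 - 1) = 0 := by
      field_simp at h
      linear_combination h
    rcases mul_eq_zero.1 h0 with e | e
    · exact Or.inl (Units.ext (sub_eq_zero.1 e))
    · exact Or.inr (eq_inv_of_mul_eq_one_left (Units.ext (by
        rw [Units.val_mul, Units.val_one]; exact sub_eq_zero.1 e)))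
  let A : Subgroup E := MonoidHom.eqLocus (g.comp E.subtype) (f.comp E.subtype)
  let B : Subgroup E := MonoidHom.eqLocus (g.comp E.subtype) ((f.comp E.subtype)⁻¹)
  have hall : (∀ x : E, g x.1 = f x.1) ∨ (∀ x : E, g x.1 = (f x.1)⁻¹) := by
    by_contra hno
    simp only [not_or, not_forall] at hno
    obtain ⟨⟨x, hx⟩, y, hy⟩ := hno
    have hxB : x ∈ B := (hpt x).resolve_left hx
    have hyA : y ∈ A := (hpt y).resolve_right hy
    rcases hpt (x * y) with h | h
    · refine hx (?_ : x ∈ A)
      have : x * y ∈ A := h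
      simpa using mul_mem this (inv_mem hyA)
    · refine hy (?_ : y ∈ B)
      have : x * y ∈ B := h
      simpa using mul_mem (inv_mem hxB) this
  have hext : ∀ f' : stabilizer G a →* ℂˣ, (∀ u : stabilizer G a, (u : G) ∈ H → f' u = 1) →
      (∀ x : E, g x.1 = f' x.1) → g = f' := by
    intro f' hf' hxe
    refine MonoidHom.ext fun z => ?_
    obtain ⟨⟨⟨k, hk⟩, x⟩, rfl⟩ := hc.2 z
    show g (k * x.1) = f' (k * x.1)
    rw [map_mul, map_mul, hfK g hgL k hk, hf' k hk, hxe x]
  exact hall.imp (hext f (hfK f hf)) fun h => hext f⁻¹ (fun u hu => by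
    rw [MonoidHom.inv_apply, hfK f hf u hu, inv_one]) h

end CfsgLib.SharplyEven.Feit
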