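import Cfsg.Agent.Lib.SharplyEven.FeitCount
import Cfsg.Agent.Lib.Coherence.TIFN

/-!
The exceptional characters of a simple Zassenhaus group with `2 e < h - 1` are not coherent.
-/

set_option autoImplicit false
set_option linter.unusedSectionVars false

open MulAction Cfsg CfsgLib.CharTheory CfsgLib.CyclicTI CfsgLib.CyclicTI.IrrSet
open scoped ComplexConjugate

namespace CfsgLib.SharplyEven.Feit

open CfsgLib.RealChar.Zassenhaus

variable {G Ω : Type*} [Group G] [Fintype G] [MulAction G Ω] [Fintype Ω]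

/-- The inner product of two characters is a natural number. -/
theorem inner_char_nat {N : Type*} [Group N] [Fintype N] [Fintype (IrrCharacter N)] {A B : N → ℂ}
    (hA : IsCharacter N A) (hB : IsCharacter N B) : ∃ n : ℕ, classInner A B = n := by
  classical
  obtain ⟨m, rfl⟩ := IsCharacter.exists_sum hA
  choose k hk using fun ψ => IsCharacter.exists_classInner_eq_nat hB ψ
  refine ⟨∑ ψ, m ψ * k ψ, ?_⟩
  rw [classInner_sum_left, Nat.cast_sum]
  refine Finset.sum_congr rfl fun ψ _ => ?_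
  rw [classInner_smul_left, classInner_conj_symm _ B, hk ψ, Complex.conj_natCast, Nat.cast_mul]

/-- A character fixed by multiplication with a character vanishing only off its support. -/
theorem exists_const_coeff {N : Type*} [Group N] [Fintype N] {K : Subgroup N} [K.Normal]
    (hC : Frob.KernelCond K) {Φ : N → ℂ} {c : ℂ} (hΦ : ∀ x ∈ K, x ≠ 1 → Φ x = c) :
    ∃ t : ℂ, ∀ χ ∈ Frob.charSet K, classInner Φ χ = t * (Frob.deg χ : ℂ) := by
  classical
  refine ⟨(Nat.card N : ℂ)⁻¹ * (Φ 1 - c), fun χ hχ => ?_⟩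
  obtain ⟨k, -, hne⟩ := hχ.2
  have hz : ∑ x : N, χ x = 0 := by
    have h := classInner_eq_zero_of_ne hχ.1 isIrrCharacter_one fun e => hne (by rw [e])
    rw [classInner] at h
    simpa using (mul_eq_zero.1 h).resolve_left (inv_ne_zero (Nat.cast_ne_zero.2 Nat.card_pos.ne'))
  have hval : ∀ x : N, Φ x * conj (χ x)
      = c * conj (χ x) + if x = 1 then (Φ 1 - c) * (Frob.deg χ : ℂ) else 0 := by
    intro x
    rcases eq_or_ne x 1 with rfl | hx1
    · rw [if_pos rfl, Frob.apply_one hχ.1, Complex.conj_natCast]; ring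
    · rw [if_neg hx1, add_zero]
      by_cases hx : x ∈ K
      · rw [hΦ x hx hx1]
      · rw [Frob.eq_zero_off hC hχ hx, map_zero, mul_zero, mul_zero]
  rw [classInner, Finset.sum_congr rfl fun x _ => hval x, Finset.sum_add_distrib, ← Finset.mul_sum,
    ← map_sum, hz, map_zero, mul_zero, zero_add, Finset.sum_ite_eq' Finset.univ (1 : N),
    if_pos (Finset.mem_univ _), mul_assoc]

variable (hZ : Cfsg.IsZassenhausGroup G Ω) {a b : Ω}
include hZ

theorem no_coherent [IsSimpleGroup G] (hab : a ≠ b) (h e : ℕ) (hh : Fintype.card Ω = h + 1)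
    (he : Nat.card (stabilizer G a ⊓ stabilizer G b : Subgroup G) = e) (hodd : Odd e)
    (H : Subgroup G) (hHa : H ≤ stabilizer G a) (hHcard : Nat.card H + 1 = Fintype.card Ω)
    (hHfix : ∀ u ∈ H, u ≠ 1 → ∀ c : Ω, u • c = c → c = a) (hlt : 2 * e < h - 1)
    [Fintype (stabilizer G a)]
    (hcoh : Cfsg.IsCoherent (Frob.charSet (H.subgroupOf (stabilizer G a)))
      ({1}ᶜ : Set (stabilizer G a)) (fun α => Cfsg.indFun (stabilizer G a) α)) : False := by
  classical
  subst he
  set e := Nat.card (stabilizer G a ⊓ stabilizer G b : Subgroup G) with he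
  haveI := Fintype.ofFinite (IrrCharacter (stabilizer G a))
  haveI := Fintype.ofFinite (IrrCharacter G)
  have hn := subgroupOf_normal hZ H hHa hHcard hHfix
  set K := H.subgroupOf (stabilizer G a) with hK
  have hKC : Frob.KernelCond K := kernelCond hZ H hHa hHcard hHfix
  have hidx : K.index = e := index_eq hZ hab H hHa hHcard
  have hHh : Nat.card H = h := by omega
  have hKcard : Nat.card K = h := (Nat.card_congr (Subgroup.subgroupOfEquivOfLe hHa).toEquiv).trans hHh
  have h3e : 3 ≤ e := by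
    obtain ⟨x, hx1, hx⟩ := exists_ne_one_fix hZ hab
    have hne : e ≠ 1 := fun h1 => hx1 (by
      have hx' : x ∈ (stabilizer G a ⊓ stabilizer G b : Subgroup G) := hx
      rw [Subgroup.eq_bot_of_card_eq (stabilizer G a ⊓ stabilizer G b) (by rw [← he]; exact h1)] at hx'
      exact hx')
    obtain ⟨j, hj⟩ := hodd
    omega
  -- the irreducible characters of `G_a`
  obtain ⟨T, hT⟩ := Frob.exists_finset (H := K)
  have hTm : ∀ χ, χ ∈ T ↔ χ ∈ Frob.charSet K := fun χ => by rw [← hT]; rfl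
  obtain ⟨L, hLcard, hL1, hLH, hLfib⟩ := exists_linear_family hZ hab H hHa hHcard hHfix (he ▸ hodd)
  set R := Finset.univ.filter fun φ : IrrCharacter (stabilizer G a) => (φ : (stabilizer G a) → ℂ) ∉ Frob.charSet K with hR
  let lin : ((stabilizer G a) →* ℂˣ) → IrrCharacter (stabilizer G a) := fun f => ⟨fun y => (f y : ℂ), isIrrCharacter_linear f⟩
  have hlin : Function.Injective lin := fun f g hfg => linear_inj (congrArg Subtype.val hfg)
  have hRsum := Frob.sum_rest (H := K) hKC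
  have hRcard : R = L.image lin := by
    symm
    refine Finset.eq_of_subset_of_card_le (fun φ hφ => ?_) ?_
    · obtain ⟨f, hf, rfl⟩ := Finset.mem_image.1 hφ
      refine Finset.mem_filter.2 ⟨Finset.mem_univ _, fun hc => ?_⟩
      obtain ⟨u, hu, hne⟩ := hc.2
      exact hne (show (f u : ℂ) = (f 1 : ℂ) by rw [hLH f hf u hu, map_one])
    · rw [Finset.card_image_of_injective _ hlin, hLcard]
      rw [← hR, hidx] at hRsum
      have h1 : ∑ φ ∈ R, Frob.deg (φ : (stabilizer G a) → ℂ) ^ 2 = e := by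
        have : ((∑ φ ∈ R, Frob.deg (φ : (stabilizer G a) → ℂ) ^ 2 : ℕ) : ℂ) = (e : ℂ) := by
          rw [← hRsum, Nat.cast_sum]
          exact Finset.sum_congr rfl fun φ _ => by rw [Frob.apply_one φ.2, Nat.cast_pow]
        exact_mod_cast this
      rw [Finset.card_eq_sum_ones]
      exact (Finset.sum_le_sum fun φ _ => Nat.one_le_pow _ _ (Frob.deg_pos φ.2)).trans h1.le
  have hcardN : T.card + e ≤ Nat.card (IrrCharacter (stabilizer G a)) := by
    have h1 := Frob.sum_irr_split (H := K) (fun _ => (1 : ℂ)) T hT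
    simp only [Finset.sum_const, nsmul_eq_mul, mul_one, Finset.card_univ, ← Nat.cast_add, Nat.cast_inj] at h1
    rw [Nat.card_eq_fintype_card, h1, ← hR, hRcard, Finset.card_image_of_injective _ hlin, hLcard]
  have hcardG := card_classes hZ hab (he ▸ hodd) (by omega) H hHa hHcard hHfix T.card hcardN
  rw [← he] at hcardG
  -- multiplicities
  have hk : ∀ χ ∈ T, Frob.deg χ = e * Frob.mult K χ := fun χ hχ => by
    rw [Frob.deg_eq_mul hKC ((hTm χ).1 hχ), hidx]
  have hS : e * ∑ χ ∈ T, Frob.mult K χ ^ 2 = h - 1 := by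
    rw [← hidx, Frob.sum_mult_sq hKC T hT, hKcard]
  obtain ⟨χ₁, hχ₁, hχ₁d⟩ : ∃ χ₁ ∈ T, Frob.deg χ₁ = e := by
    have hbot : K ≠ ⊥ := fun e' => by rw [e', Subgroup.card_bot] at hKcard; omega
    have hKtop : K ≠ ⊤ := fun e' => by rw [e', Subgroup.index_top] at hidx; omega
    have hnil := Frob.isNilpotent_kernel hKC hKtop
    have hsolv := Frob.kernel_solvable hnil
    haveI : ((⊥ : Subgroup (stabilizer G a)).subgroupOf K).Normal := inferInstance
    obtain ⟨φ, hφ, hφ1⟩ := exists_min_degree K hsolv (A := ⊥) (fun hle => hbot (le_bot_iff.1 hle))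
    refine ⟨φ, (hTm φ).2 (Frob.above_subset hKC ⊥ hφ), ?_⟩
    rw [← hidx]
    exact Frob.deg_eq hφ1
  have hk1 : Frob.mult K χ₁ = 1 := by
    have := hk χ₁ hχ₁
    rw [hχ₁d] at this
    exact (Nat.eq_of_mul_eq_mul_left (by omega : 0 < e) (this.symm.trans (mul_one e).symm))
  have htwo : ∀ χ : (stabilizer G a) → ℂ, ∃ ξ ∈ T, ξ ≠ χ := by
    intro χ
    by_contra hno
    push Not at hno
    have hsub : T = {χ₁} := by
      refine Finset.eq_singleton_iff_unique_mem.2 ⟨hχ₁, fun ξ hξ => ?_⟩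
      rw [hno ξ hξ, hno χ₁ hχ₁]
    rw [hsub, Finset.sum_singleton, hk1] at hS
    omega
  -- the coherent family
  obtain ⟨-, σ, hσ, hext⟩ := hcoh
  have hchirr : ∀ χ ∈ Frob.charSet K, IsIrrCharacter (stabilizer G a) χ := fun χ hχ => hχ.1
  have h0 := ext_map_one (G := G) (S := Frob.charSet K) hext fun α hα => by
    show Cfsg.indFun (stabilizer G a) α 1 = 0
    rw [CfsgLib.Frobenius.indFun_one, hα.2 1 (by simp), mul_zero]
  obtain ⟨ε, hε, hεirr, hσinj⟩ := exists_sign hchirr ⟨χ₁, (hTm χ₁).1 hχ₁⟩ hσ h0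
  have hεε : ε * ε = 1 := by rcases hε with rfl | rfl <;> norm_num
  have hεne : ε ≠ 0 := fun h' => by rw [h', mul_zero] at hεε; exact zero_ne_one hεε
  have hεc : conj ε = ε := by rcases hε with rfl | rfl <;> simp
  let res : (G → ℂ) → ((stabilizer G a) → ℂ) := fun φ x => φ x
  have hres : ∀ {φ : G → ℂ}, IsCharacter G φ → IsCharacter (stabilizer G a) (res φ) :=
    fun hφ => CfsgLib.Coherence.isCharacter_comp hφ (Subgroup.subtype _)
  have hpair : ∀ φ : G → ℂ, IsClassFunction G φ → ∀ χ ∈ T, ∀ ξ ∈ T,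
      (Frob.deg ξ : ℂ) * classInner (res φ) χ - (Frob.deg χ : ℂ) * classInner (res φ) ξ
      = ε * ((Frob.deg ξ : ℂ) * classInner φ (ε • σ χ) - (Frob.deg χ : ℂ) * classInner φ (ε • σ ξ)) := by
    intro φ hφ χ hχ ξ hξ
    have hχ' := (hTm χ).1 hχ
    have hξ' := (hTm ξ).1 hξ
    have hsz : ((Frob.deg ξ : ℤ) • χ - (Frob.deg χ : ℤ) • ξ)
        = ((Frob.deg ξ : ℂ) • χ - (Frob.deg χ : ℂ) • ξ) := by
      funext x; simp [zsmul_eq_mul]
    have hmem := mem_zspanOn_one.mp (mem_zeroDegree.mp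
      (degComb_mem Frob.deg hχ' hξ' (Frob.apply_one hχ'.1) (Frob.apply_one hξ'.1)))
    have heq : Cfsg.indFun (stabilizer G a) ((Frob.deg ξ : ℂ) • χ - (Frob.deg χ : ℂ) • ξ)
        = (Frob.deg ξ : ℂ) • σ χ - (Frob.deg χ : ℂ) • σ ξ := by
      have h1 := ext_degComb hσ Frob.deg hχ' hξ'
      have h2 := hext _ (mem_zspanOn_one.mpr hmem)
      rw [show degComb Frob.deg χ ξ = ((Frob.deg ξ : ℂ) • χ - (Frob.deg χ : ℂ) • ξ) from hsz] at h2 h1
      funext x
      have h3 := congrFun (h2.symm.trans h1) x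
      simp [zsmul_eq_mul] at h3 ⊢
      exact h3
    have h2 := congrArg (classInner φ) heq
    rw [CfsgLib.Frobenius.classInner_indFun_right _ _ _ hφ, classInner_sub_right, classInner_sub_right,
      classInner_smul_right, classInner_smul_right, classInner_smul_right, classInner_smul_right,
      Complex.conj_natCast, Complex.conj_natCast] at h2
    rw [classInner_smul_right, classInner_smul_right, hεc]
    linear_combination h2 - (((Frob.deg ξ : ℂ) * classInner φ (σ χ) - (Frob.deg χ : ℂ) * classInner φ (σ ξ))) * hεε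
  let θ : {χ // χ ∈ T} → IrrCharacter G := fun χ => ⟨ε • σ χ.1, hεirr χ.1 ((hTm _).1 χ.2)⟩
  have hθinj : Function.Injective θ := fun χ ξ h' => Subtype.ext
    (hσinj _ ((hTm _).1 χ.2) _ ((hTm _).1 ξ.2)
      (smul_right_injective (G → ℂ) hεne (congrArg Subtype.val h')))
  have hconst : ∀ φ : IrrCharacter G, (∃ c : ℂ, ∀ x : (stabilizer G a), (x : G) ∈ H → x ≠ 1 → (φ : G → ℂ) x = c) →
      φ ∉ (Finset.univ.image θ) := by
    rintro φ ⟨c, hc⟩ hφ
    obtain ⟨χ, -, rfl⟩ := Finset.mem_image.1 hφ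
    obtain ⟨t, ht⟩ := exists_const_coeff hKC (Φ := res (θ χ : G → ℂ)) hc
    obtain ⟨ξ, hξ, hξne⟩ := htwo χ.1
    have hne : (θ χ : G → ℂ) ≠ ε • σ ξ := fun e' => hξne
      (congrArg Subtype.val (hθinj (Subtype.ext e' : θ χ = θ ⟨ξ, hξ⟩))).symm
    have h' := hpair _ (IsIrrCharacter.isClassFunction (θ χ).2) χ.1 χ.2 ξ hξ
    rw [ht _ ((hTm _).1 χ.2), ht _ ((hTm _).1 hξ), classInner_self_of_isIrr (θ χ).2,
      classInner_eq_zero_of_ne (θ χ).2 (hεirr ξ ((hTm _).1 hξ)) hne] at h'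
    rw [show (Frob.deg ξ : ℂ) * (t * (Frob.deg χ.1 : ℂ)) - (Frob.deg χ.1 : ℂ) * (t * (Frob.deg ξ : ℂ)) = 0
      by ring, mul_one, mul_zero, sub_zero] at h'
    rcases mul_eq_zero.1 h'.symm with h1 | h1
    · exact hεne h1
    · exact (Frob.deg_pos ((hTm _).1 hξ).1).ne' (Nat.cast_eq_zero.1 h1)
  -- the Steinberg character and the induced linear characters
  obtain ⟨St, hSt, hSt1, hStv, hInd⟩ := exists_steinberg hZ hab (he ▸ hodd)
  rw [hh, Nat.add_sub_cancel] at hSt1
  set L' := L.filter fun f => f ≠ 1 with hL'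
  have hθlin : ∀ f ∈ L', IsIrrCharacter G (Cfsg.indFun (stabilizer G a) fun y => (f y : ℂ)) ∧
      Cfsg.indFun (stabilizer G a) (fun y => (f y : ℂ)) 1 = ((h + 1 : ℕ) : ℂ) ∧
      ∀ u : (stabilizer G a), (u : G) ∈ H → u ≠ 1 → Cfsg.indFun (stabilizer G a) (fun y => (f y : ℂ)) u = 1 := by
    intro f hf
    obtain ⟨hfL, hf1⟩ := Finset.mem_filter.1 hf
    refine ⟨(isIrrCharacter_iff_norm_one (CfsgLib.Frobenius.isCharacter_indFun _ _
      (IsIrrCharacter.isCharacter (isIrrCharacter_linear f)))).2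
      (classInner_indFun_linear hZ hab (he ▸ hodd) H hHa hHcard hHfix f (hLH f hfL) hf1), ?_, fun u hu hu1 => ?_⟩
    · haveI := pretransitive hZ
      rw [CfsgLib.Frobenius.indFun_one, index_stabilizer_of_transitive, Nat.card_eq_fintype_card, hh]
      simp
    · have h' := indFun_linear_apply hZ hab (he ▸ hodd) f u
      haveI : IsEmpty {c : Ω // c ≠ a ∧ (u : G) • c = c} :=
        ⟨fun c => c.2.1 (hHfix _ hu (fun e' => hu1 (Subtype.ext e')) c c.2.2)⟩
      rw [Nat.card_of_isEmpty, Nat.cast_zero, zero_mul, add_zero, hLH f hfL u hu, Units.val_one] at h'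
      exact h'
  let θL : {f // f ∈ L'} → IrrCharacter G := fun f => ⟨_, (hθlin f.1 f.2).1⟩
  set U := Finset.univ.image θL with hU
  set StI : IrrCharacter G := ⟨St, hSt⟩ with hStI
  have hm : e ≤ 2 * U.card + 1 := by
    have hfib : ∀ φ ∈ U, (Finset.univ.filter fun f => θL f = φ).card ≤ 2 := by
      intro φ hφ
      obtain ⟨f, -, rfl⟩ := Finset.mem_image.1 hφ
      have := hLfib f.1 (Finset.mem_filter.1 f.2).1 (Finset.mem_filter.1 f.2).2
        ((Finset.univ.filter fun g => θL g = θL f).image Subtype.val) fun g hg => by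
          obtain ⟨g', hg', rfl⟩ := Finset.mem_image.1 hg
          exact ⟨(Finset.mem_filter.1 g'.2).1, (Finset.mem_filter.1 g'.2).2,
            congrArg Subtype.val (Finset.mem_filter.1 hg').2⟩
      rwa [Finset.card_image_of_injective _ Subtype.val_injective] at this
    have h' := Finset.card_le_mul_card_image Finset.univ 2 hfib
    have hL'c : L'.card = e - 1 := by
      rw [hL', Finset.filter_ne', Finset.card_erase_of_mem hL1, hLcard]
    rw [Finset.card_univ, Fintype.card_coe, hL'c] at h'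
    rw [← hU] at h'
    omega
  set one : IrrCharacter G := trivIrr G with hone
  have hU1 : ∀ φ ∈ U, (φ : G → ℂ) 1 = ((h + 1 : ℕ) : ℂ) := by
    intro φ hφ
    obtain ⟨f, -, rfl⟩ := Finset.mem_image.1 hφ
    exact (hθlin f.1 f.2).2.1
  have hne1 : one ≠ StI := fun e' => by
    have h' := congrArg (fun φ : IrrCharacter G => (φ : G → ℂ) 1) e'
    simp only [hone, trivIrr_apply, hStI, hSt1] at h'
    have : (1 : ℕ) = h := by exact_mod_cast h'
    omega
  have hne2 : one ∉ U := fun e' => by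
    have h' := hU1 one e'
    rw [hone, trivIrr_apply] at h'
    have : (1 : ℕ) = h + 1 := by exact_mod_cast h'
    omega
  have hne3 : StI ∉ U := fun e' => by
    have h' := hU1 StI e'
    rw [show (StI : G → ℂ) 1 = (h : ℂ) from hSt1] at h'
    have : h = h + 1 := by exact_mod_cast h'
    omega
  set Y := insert one (insert StI U) with hY
  set Θ := Finset.univ.image θ with hΘ
  have hYc : Y.card = U.card + 2 := by
    rw [hY, Finset.card_insert_of_notMem (by simp [hne1, hne2]), Finset.card_insert_of_notMem hne3]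
  have hdisj : ∀ φ ∈ Y, φ ∉ Θ := by
    intro φ hφ
    refine hconst φ ?_
    rcases Finset.mem_insert.1 hφ with rfl | hφ
    · exact ⟨1, fun x _ _ => trivIrr_apply _⟩
    rcases Finset.mem_insert.1 hφ with rfl | hφ
    · refine ⟨0, fun x hx hx1 => ?_⟩
      haveI : IsEmpty {c : Ω // c ≠ a ∧ (x : G) • c = c} :=
        ⟨fun c => c.2.1 (hHfix _ hx (fun e' => hx1 (Subtype.ext e')) c c.2.2)⟩
      show St x = 0
      rw [hStv x, Nat.card_of_isEmpty, Nat.cast_zero]
    obtain ⟨f, -, rfl⟩ := Finset.mem_image.1 hφ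
    exact ⟨1, fun x hx hx1 => (hθlin f.1 f.2).2.2 x hx hx1⟩
  set O := (Finset.univ : Finset (IrrCharacter G)) \ (Θ ∪ Y) with hO
  have hΘY : Disjoint Θ Y := Finset.disjoint_right.2 hdisj
  have hΘc : Θ.card = T.card := by
    rw [hΘ, Finset.card_image_of_injective _ hθinj, Finset.card_univ, Fintype.card_coe]
  have ho : e ≤ U.card + O.card + 1 := by
    rw [Nat.card_eq_fintype_card, ← Finset.card_univ] at hcardG
    have := Finset.card_sdiff_add_card_eq_card (Finset.subset_univ (Θ ∪ Y))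
    rw [Finset.card_union_of_disjoint hΘY, hΘc, hYc, ← hO] at this
    omega
  -- degrees of the other characters
  have hOdeg : ∀ φ ∈ O, h - 1 ≤ Frob.deg (φ : G → ℂ) := by
    intro φ hφ
    rw [hO, Finset.mem_sdiff, Finset.mem_union, not_or] at hφ
    obtain ⟨-, hφΘ, hφY⟩ := hφ
    simp only [hY, Finset.mem_insert, not_or] at hφY
    obtain ⟨hφ1, hφS, hφU⟩ := hφY
    have hφcl := IsIrrCharacter.isClassFunction φ.2
    have hzero : ∀ χ ∈ T, classInner (φ : G → ℂ) (ε • σ χ) = 0 := fun χ hχ =>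
      classInner_eq_zero_of_ne φ.2 (hεirr χ ((hTm _).1 hχ)) fun e' => hφΘ
        (Finset.mem_image.2 ⟨⟨χ, hχ⟩, Finset.mem_univ _, Subtype.ext e'.symm⟩)
    have hΦ := hres (IsIrrCharacter.isCharacter φ.2)
    choose n hn using fun ψ => IsCharacter.exists_classInner_eq_nat hΦ ψ
    have hlin0 : ∀ ψ ∈ R, classInner (res φ) (ψ : (stabilizer G a) → ℂ) = 0 := by
      intro ψ hψ
      rw [hRcard] at hψ
      obtain ⟨f, hf, rfl⟩ := Finset.mem_image.1 hψ
      show classInner (res φ) (fun y => (f y : ℂ)) = 0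
      rw [← CfsgLib.Frobenius.classInner_indFun_right _ _ _ hφcl]
      by_cases hf1 : f = 1
      · subst hf1
        rw [show (fun y : (stabilizer G a) => (((1 : (stabilizer G a) →* ℂˣ) y : ℂˣ) : ℂ)) = fun _ => (1 : ℂ) from funext fun y => by simp,
          hInd, classInner_add_right,
          classInner_eq_zero_of_ne φ.2 hSt (fun e' => hφS (Subtype.ext e')),
          classInner_eq_zero_of_ne φ.2 isIrrCharacter_one (fun e' => hφ1 (Subtype.ext e')), add_zero]
      · exact classInner_eq_zero_of_ne φ.2 (hθlin f (Finset.mem_filter.2 ⟨hf, hf1⟩)).1 fun e' => hφU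
          (Finset.mem_image.2 ⟨⟨f, Finset.mem_filter.2 ⟨hf, hf1⟩⟩, Finset.mem_univ _, Subtype.ext e'.symm⟩)
    have hw : ∀ χ : (stabilizer G a) → ℂ, ∃ z : ℤ, χ ∈ T → classInner (res φ) χ = z := fun χ => by
      by_cases hc : χ ∈ T
      · exact ⟨n ⟨χ, ((hTm χ).1 hc).1⟩, fun _ => by exact_mod_cast hn ⟨χ, ((hTm χ).1 hc).1⟩⟩
      · exact ⟨0, fun h' => absurd h' hc⟩
    choose w hw using hw
    obtain ⟨t, ht⟩ := CfsgLib.Coherence.TIFN.exists_common_ratio hKC T hT w fun χ hχ ξ hξ => by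
      have h' := hpair (φ : G → ℂ) hφcl χ hχ ξ hξ
      rw [hzero χ hχ, hzero ξ hξ, hw χ hχ, hw ξ hξ, mul_zero, mul_zero, sub_zero, mul_zero] at h'
      have : (Frob.deg ξ : ℤ) * w χ - Frob.deg χ * w ξ = 0 := by exact_mod_cast h'
      linarith
    have hdeg : (Frob.deg (φ : G → ℂ) : ℤ) = t * ((h - 1 : ℕ) : ℤ) := by
      have hdec : res (φ : G → ℂ) 1 = ∑ ψ : IrrCharacter (stabilizer G a), classInner (res φ) (ψ : (stabilizer G a) → ℂ) * (ψ : (stabilizer G a) → ℂ) 1 := by
        conv_lhs => rw [eq_sum_classInner (IsCharacter.isClassFunction hΦ)]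
        simp [Finset.sum_apply]
      rw [Frob.sum_irr_split (H := K) (fun ψ => classInner (res φ) ψ * ψ 1) T hT, ← hR,
        Finset.sum_eq_zero (s := R) fun ψ hψ => by rw [hlin0 ψ hψ, zero_mul], add_zero,
        show res (φ : G → ℂ) 1 = (φ : G → ℂ) 1 from rfl, Frob.apply_one φ.2,
        Finset.sum_congr rfl fun χ hχ => show classInner (res φ) χ * χ 1 = ((t * (e * Frob.mult K χ ^ 2) : ℤ) : ℂ) by
          have h1 := ht χ hχ
          rw [hidx, hk χ hχ] at h1
          have h2 : w χ = t * (Frob.mult K χ : ℤ) := by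
            refine mul_right_cancel₀ (show ((e : ℤ)) ≠ 0 by omega) ?_
            rw [h1]; push_cast; ring
          rw [hw χ hχ, Frob.apply_one ((hTm χ).1 hχ).1, hk χ hχ, h2]
          push_cast; ring] at hdec
      rw [← Int.cast_sum] at hdec
      have h3 : (Frob.deg (φ : G → ℂ) : ℤ) = ∑ χ ∈ T, t * ((e : ℤ) * (Frob.mult K χ : ℤ) ^ 2) := by
        exact_mod_cast hdec
      rw [h3, ← Finset.mul_sum, ← Finset.mul_sum, ← hS]
      push_cast
      rfl
    have hpos := Frob.deg_pos φ.2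
    have ht1 : 0 < t := by
      by_contra hcon
      push Not at hcon
      nlinarith [mul_nonpos_iff.2 (Or.inr ⟨hcon, Int.natCast_nonneg (h - 1)⟩)]
    nlinarith
  -- the degrees of the exceptional characters
  set c := Frob.deg (θ ⟨χ₁, hχ₁⟩ : G → ℂ) with hcdef
  have hθdeg : ∀ χ : {χ // χ ∈ T}, Frob.deg (θ χ : G → ℂ) = Frob.mult K χ.1 * c := by
    intro χ
    have h' := image_degree hσ h0 Frob.deg (fun ξ hξ => Frob.apply_one hξ.1) ((hTm _).1 χ.2) ((hTm _).1 hχ₁)
    have h1 := Frob.apply_one (θ χ).2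
    have h2 := Frob.apply_one (θ ⟨χ₁, hχ₁⟩).2
    change ε * σ χ.1 1 = _ at h1
    change ε * σ χ₁ 1 = _ at h2
    rw [hχ₁d, hk χ.1 χ.2, Nat.cast_mul] at h'
    have h3 : (e : ℂ) * (Frob.deg (θ χ : G → ℂ) : ℂ) = (e : ℂ) * ((Frob.mult K χ.1 * c : ℕ) : ℂ) := by
      rw [← h1, Nat.cast_mul, hcdef, ← h2]
      linear_combination ε * h'
    exact_mod_cast mul_left_cancel₀ (Nat.cast_ne_zero.2 (by omega)) h3
  -- the product of an exceptional character with its conjugate
  set P : G → ℂ := (θ ⟨χ₁, hχ₁⟩ : G → ℂ) * fun g => conj ((θ ⟨χ₁, hχ₁⟩ : G → ℂ) g) with hPdef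
  have hc2 : 1 + U.card * (h + 1) ≤ c ^ 2 := by
    set Φ := (θ ⟨χ₁, hχ₁⟩ : G → ℂ) with hΦdef
    have hΦc : IsCharacter G Φ := IsIrrCharacter.isCharacter (θ ⟨χ₁, hχ₁⟩).2
    have hP : IsCharacter G P := isCharacter_mul hΦc (isCharacter_conj hΦc)
    have hΦN := hres hΦc
    choose n hn using fun ψ => IsCharacter.exists_classInner_eq_nat hP ψ
    have hn1 : 1 ≤ n one := by
      have h' : classInner P (fun _ : G => (1 : ℂ)) = 1 := by
        refine Eq.trans ?_ (classInner_self_of_isIrr (θ ⟨χ₁, hχ₁⟩).2)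
        rw [hPdef]
        simp [classInner, hΦdef]
      have : (n one : ℂ) = ((1 : ℕ) : ℂ) := by rw [← hn one, Nat.cast_one]; exact h'
      exact le_of_eq (Nat.cast_inj.1 this).symm
    obtain ⟨χ₂, hχ₂, hχ₂ne⟩ : ∃ χ ∈ T, classInner (res Φ) χ ≠ 0 := by
      by_contra hno
      push Not at hno
      obtain ⟨ξ, hξ, hξne⟩ := htwo χ₁
      have hne : Φ ≠ ε • σ ξ := fun e' => hξne
        (congrArg Subtype.val (hθinj (Subtype.ext e' : θ ⟨χ₁, hχ₁⟩ = θ ⟨ξ, hξ⟩))).symm
      have h' := hpair Φ (IsCharacter.isClassFunction hΦc) χ₁ hχ₁ ξ hξ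
      rw [hno χ₁ hχ₁, hno ξ hξ, show ε • σ χ₁ = Φ from rfl, classInner_self_of_isIrr (θ ⟨χ₁, hχ₁⟩).2,
        classInner_eq_zero_of_ne (θ ⟨χ₁, hχ₁⟩).2 (hεirr ξ ((hTm _).1 hξ)) hne] at h'
      simp only [mul_zero, sub_zero, mul_one] at h'
      rcases mul_eq_zero.1 h'.symm with h1 | h1
      · exact hεne h1
      · exact (Frob.deg_pos ((hTm _).1 hξ).1).ne' (Nat.cast_eq_zero.1 h1)
    have hnU : ∀ φ ∈ U, 1 ≤ n φ := by
      intro φ hφ
      obtain ⟨f, -, rfl⟩ := Finset.mem_image.1 hφ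
      obtain ⟨hfL, -⟩ := Finset.mem_filter.1 f.2
      set fc : (stabilizer G a) → ℂ := fun y => (f.1 y : ℂ) with hfc
      have hfirr : IsIrrCharacter (stabilizer G a) fc := isIrrCharacter_linear f.1
      choose r hr using fun ψ => IsCharacter.exists_classInner_eq_nat hΦN ψ
      have hterm : ∀ ψ ψ' : IrrCharacter (stabilizer G a), ∃ v : ℕ, classInner (ψ : (stabilizer G a) → ℂ) ((ψ' : (stabilizer G a) → ℂ) * fc) = v :=
        fun ψ ψ' => inner_char_nat (IsIrrCharacter.isCharacter ψ.2)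
          (isCharacter_mul (IsIrrCharacter.isCharacter ψ'.2) (IsIrrCharacter.isCharacter hfirr))
      choose v hv using hterm
      have hexp : res Φ = ∑ ψ : IrrCharacter (stabilizer G a), (r ψ : ℂ) • (ψ : (stabilizer G a) → ℂ) := by
        rw [eq_sum_classInner (IsCharacter.isClassFunction hΦN)]
        exact Finset.sum_congr rfl fun ψ _ => by rw [hr]
      have h1 : classInner P (θL f : G → ℂ) = classInner (res Φ) (res Φ * fc) := by
        show classInner P (Cfsg.indFun (stabilizer G a) fc) = _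
        rw [CfsgLib.Frobenius.classInner_indFun_right _ _ _ (IsCharacter.isClassFunction hP)]
        rw [hPdef]
        simp [classInner, res, mul_assoc]
      have h2 : (n (θL f) : ℂ) = ((∑ ψ : IrrCharacter (stabilizer G a), r ψ * ∑ ψ' : IrrCharacter (stabilizer G a), r ψ' * v ψ ψ' : ℕ) : ℂ) := by
        rw [← hn, h1, hexp, classInner_sum_left, Nat.cast_sum]
        refine Finset.sum_congr rfl fun ψ _ => ?_
        rw [classInner_smul_left, Finset.sum_mul, classInner_sum_right, Nat.cast_mul, Nat.cast_sum]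
        congr 1
        refine Finset.sum_congr rfl fun ψ' _ => ?_
        rw [smul_mul_assoc, classInner_smul_right, Complex.conj_natCast, hv, Nat.cast_mul]
      rw [Nat.cast_inj] at h2
      set χ' : IrrCharacter (stabilizer G a) := ⟨χ₂, ((hTm _).1 hχ₂).1⟩ with hχ'
      have hv1 : v χ' χ' = 1 := by
        have hfix : χ₂ * fc = χ₂ := funext fun y => by
          rw [Pi.mul_apply]
          by_cases hy : y ∈ K
          · rw [hfc]; simp [hLH f.1 hfL y hy]
          · rw [Frob.eq_zero_off hKC ((hTm _).1 hχ₂) hy, zero_mul]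
        have h' := hv χ' χ'
        rw [show ((χ' : (stabilizer G a) → ℂ) * fc) = (χ' : (stabilizer G a) → ℂ) from hfix, classInner_self_of_isIrr χ'.2] at h'
        exact_mod_cast h'.symm
      have hr1 : 1 ≤ r χ' := by
        refine Nat.one_le_iff_ne_zero.2 fun h' => hχ₂ne ?_
        rw [show classInner (res Φ) χ₂ = (r χ' : ℂ) from hr χ', h', Nat.cast_zero]
      rw [h2]
      calc 1 ≤ r χ' * (r χ' * v χ' χ') := by rw [hv1, mul_one]; exact Nat.one_le_iff_ne_zero.2 (by positivity)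
        _ ≤ r χ' * ∑ ψ', r ψ' * v χ' ψ' := Nat.mul_le_mul_left _
          (Finset.single_le_sum (f := fun ψ' => r ψ' * v χ' ψ') (fun _ _ => Nat.zero_le _) (Finset.mem_univ χ'))
        _ ≤ _ := Finset.single_le_sum (f := fun ψ => r ψ * ∑ ψ', r ψ' * v ψ ψ') (fun _ _ => Nat.zero_le _)
          (Finset.mem_univ χ')
    have hP1 : c ^ 2 = ∑ ψ : IrrCharacter G, n ψ * Frob.deg (ψ : G → ℂ) := by
      have h' : P 1 = ∑ ψ : IrrCharacter G, classInner P (ψ : G → ℂ) * (ψ : G → ℂ) 1 := by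
        conv_lhs => rw [eq_sum_classInner (IsCharacter.isClassFunction hP)]
        simp [Finset.sum_apply]
      rw [hPdef, Pi.mul_apply, show Φ 1 = (c : ℂ) from Frob.apply_one (θ ⟨χ₁, hχ₁⟩).2, Complex.conj_natCast,
        ← hPdef,
        Finset.sum_congr rfl fun ψ _ => by rw [hn ψ, Frob.apply_one ψ.2, ← Nat.cast_mul]] at h'
      rw [sq]
      exact_mod_cast h'
    rw [hP1]
    refine le_trans ?_ (Finset.sum_le_sum_of_subset (Finset.subset_univ (insert one U)))
    rw [Finset.sum_insert hne2, ← smul_eq_mul, ← Finset.sum_const]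
    refine Nat.add_le_add (Nat.mul_le_mul hn1 (Frob.deg_pos one.2)) (Finset.sum_le_sum fun φ hφ => ?_)
    rw [Frob.deg_eq (hU1 φ hφ)]
    exact Nat.le_mul_of_pos_left _ (hnU φ hφ)
  -- the sum of the squares of the degrees
  have hsum : 1 + h ^ 2 + U.card * (h + 1) ^ 2 + O.card * (h - 1) ^ 2 + c ^ 2 * ∑ χ ∈ T, Frob.mult K χ ^ 2
      ≤ (h + 1) * h * e := by
    have htot : ∑ φ : IrrCharacter G, Frob.deg (φ : G → ℂ) ^ 2 = Nat.card G := by
      have h' := sum_degree_sq (G := G)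
      rw [Finset.sum_congr rfl fun φ _ => by rw [Frob.apply_one φ.2, ← Nat.cast_pow]] at h'
      exact_mod_cast h'
    rw [card_group hZ hab, hh, Nat.add_sub_cancel, ← he, ← mul_assoc] at htot
    rw [← htot, ← Finset.sum_sdiff (Finset.subset_univ (Θ ∪ Y)), ← hO,
      Finset.sum_union hΘY, hY, Finset.sum_insert (by simp [hne1, hne2]), Finset.sum_insert hne3]
    have h1 : O.card * (h - 1) ^ 2 ≤ ∑ φ ∈ O, Frob.deg (φ : G → ℂ) ^ 2 := by
      rw [← smul_eq_mul, ← Finset.sum_const]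
      exact Finset.sum_le_sum fun φ hφ => Nat.pow_le_pow_left (hOdeg φ hφ) 2
    have h2 : U.card * (h + 1) ^ 2 = ∑ φ ∈ U, Frob.deg (φ : G → ℂ) ^ 2 := by
      rw [← smul_eq_mul, ← Finset.sum_const]
      exact Finset.sum_congr rfl fun φ hφ => by rw [Frob.deg_eq (hU1 φ hφ)]
    have h3 : c ^ 2 * ∑ χ ∈ T, Frob.mult K χ ^ 2 = ∑ φ ∈ Θ, Frob.deg (φ : G → ℂ) ^ 2 := by
      rw [hΘ, Finset.sum_image hθinj.injOn, ← Finset.attach_eq_univ, Finset.mul_sum, ← Finset.sum_attach]
      exact Finset.sum_congr rfl fun χ _ => by rw [hθdeg χ, mul_pow, mul_comm]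
    have h4 : Frob.deg (one : G → ℂ) = 1 := Frob.deg_eq (by rw [hone, trivIrr_apply, Nat.cast_one])
    have h5 : Frob.deg (StI : G → ℂ) = h := Frob.deg_eq hSt1
    rw [h4, h5, ← h2, ← h3, one_pow]
    omega
  exact arith h3e (by omega) (by rw [hS]; omega) hm ho hc2 hsum

end CfsgLib.SharplyEven.Feit
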