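import Cfsg.Agent.Lib.SharplyEven.FeitAux
import Cfsg.Agent.Lib.CharTheory.Inflation

/-!
Feit's counting: in a simple Zassenhaus group with two-point stabiliser of odd order `e` and `2 e < h - 1`
the exceptional characters do not form a coherent family.
-/

set_option autoImplicit false
set_option linter.unusedSectionVars false

open MulAction Cfsg CfsgLib.CharTheory CfsgLib.CyclicTI
open scoped ComplexConjugate

namespace CfsgLib.SharplyEven.Feit

open CfsgLib.RealChar.Zassenhaus

variable {G Ω : Type*} [Group G] [Fintype G] [MulAction G Ω] [Fintype Ω]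

/-- The classes of `G_a` meeting `K \ 1`, the trivial class and `e` more classes are distinct classes
of `G`; there are at least as many of the first kind as exceptional characters. -/
theorem card_classes [IsSimpleGroup G] (hZ : Cfsg.IsZassenhausGroup G Ω) {a b : Ω} (hab : a ≠ b)
    (hodd : Odd (Nat.card (stabilizer G a ⊓ stabilizer G b : Subgroup G)))
    (hlt : Nat.card (stabilizer G a ⊓ stabilizer G b : Subgroup G) + 1 < Fintype.card Ω)
    (H : Subgroup G) (hHa : H ≤ stabilizer G a) (hHcard : Nat.card H + 1 = Fintype.card Ω)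
    (hHfix : ∀ u ∈ H, u ≠ 1 → ∀ c : Ω, u • c = c → c = a) [Fintype (stabilizer G a)] (t : ℕ)
    (ht : t + Nat.card (stabilizer G a ⊓ stabilizer G b : Subgroup G)
      ≤ Nat.card (IrrCharacter (stabilizer G a))) :
    1 + t + Nat.card (stabilizer G a ⊓ stabilizer G b : Subgroup G) ≤ Nat.card (IrrCharacter G) := by
  classical
  have hn := subgroupOf_normal hZ H hHa hHcard hHfix
  set K := H.subgroupOf (stabilizer G a) with hK
  set E := (stabilizer G b).subgroupOf (stabilizer G a) with hE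
  have hKC : Frob.KernelCond K := kernelCond hZ H hHa hHcard hHfix
  have hc := isComplement hZ hab H hHa hHcard hHfix
  set e := Nat.card (stabilizer G a ⊓ stabilizer G b : Subgroup G) with he
  rw [card_irrCharacter] at ht ⊢
  let Meets : ConjClasses (stabilizer G a) → Prop := fun C =>
    ∃ x : stabilizer G a, x ∈ K ∧ x ≠ 1 ∧ ConjClasses.mk x = C
  have hrest : Nat.card {C : ConjClasses (stabilizer G a) // ¬ Meets C} ≤ e := by
    have hE' : Nat.card E = e := Nat.card_congr
      { toFun := fun x => ⟨x.1.1, x.1.2, x.2⟩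
        invFun := fun x => ⟨⟨x.1, x.2.1⟩, x.2.2⟩
        left_inv := fun _ => rfl
        right_inv := fun _ => rfl }
    rw [← hE']
    have hrep : ∀ C : {C : ConjClasses (stabilizer G a) // ¬ Meets C}, ∃ y : E, ConjClasses.mk y.1 = C.1 := by
      rintro ⟨C, hC⟩
      obtain ⟨x, rfl⟩ := ConjClasses.mk_surjective C
      by_cases hx : x ∈ K
      · refine ⟨1, ?_⟩
        by_cases hx1 : x = 1
        · subst hx1; rfl
        · exact absurd ⟨x, hx, hx1, rfl⟩ hC
      · obtain ⟨y, hy, hyx⟩ := exists_conj_complement hZ hKC hc hx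
        exact ⟨⟨y, hy⟩, ConjClasses.mk_eq_mk_iff_isConj.2 hyx⟩
    choose r hr using hrep
    exact Nat.card_le_card_of_injective r fun C D h => Subtype.ext ((hr C).symm.trans (h ▸ hr D))
  haveI := Fintype.ofFinite (ConjClasses (stabilizer G a))
  haveI := Fintype.ofFinite (ConjClasses G)
  have hsplit : Nat.card (ConjClasses (stabilizer G a))
      = Nat.card {C : ConjClasses (stabilizer G a) // Meets C}
        + Nat.card {C : ConjClasses (stabilizer G a) // ¬ Meets C} := by
    rw [← Nat.card_sum]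
    exact Nat.card_congr (Equiv.sumCompl Meets).symm
  have havoid := classes_avoiding_fixesOne hZ hab hodd hlt
  rw [← he] at havoid
  have hTI := (Cfsg.Agent.S0878.result hZ a H hHa hHcard hHfix).1
  let F : Unit ⊕ {C : ConjClasses (stabilizer G a) // Meets C} ⊕
      {C : ConjClasses G // ∀ g : G, ConjClasses.mk g = C → g ≠ 1 ∧ ¬ FixesOne Ω g} → ConjClasses G :=
    Sum.elim (fun _ => ConjClasses.mk 1)
      (Sum.elim (fun C => ConjClasses.map (stabilizer G a).subtype C.1) fun C => C.1)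
  have hF : Function.Injective F := by
    have hmapmk : ∀ x : stabilizer G a, ConjClasses.map (stabilizer G a).subtype (ConjClasses.mk x)
        = ConjClasses.mk (x : G) := fun x => rfl
    rintro (u | C | C) (v | D | D) h
    · rfl
    · exfalso
      obtain ⟨y, hy, hy1, hyD⟩ := D.2
      have h' : ConjClasses.mk (1 : G) = ConjClasses.mk (y : G) := by
        rw [← hmapmk y, hyD]; exact h
      exact hy1 (Subtype.ext (isConj_one_right.1 (ConjClasses.mk_eq_mk_iff_isConj.1 h')))
    · exact absurd rfl (D.2 1 h).1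
    · exfalso
      obtain ⟨y, hy, hy1, hyC⟩ := C.2
      have h' : ConjClasses.mk (y : G) = ConjClasses.mk (1 : G) := by
        rw [← hmapmk y, hyC]; exact h
      exact hy1 (Subtype.ext (isConj_one_left.1 (ConjClasses.mk_eq_mk_iff_isConj.1 h')))
    · obtain ⟨x, hx, hx1, hxC⟩ := C.2
      obtain ⟨y, hy, hy1, hyD⟩ := D.2
      have h' : ConjClasses.mk (x : G) = ConjClasses.mk (y : G) := by
        rw [← hmapmk x, ← hmapmk y, hxC, hyD]; exact h
      obtain ⟨g, hg⟩ := isConj_iff.1 (ConjClasses.mk_eq_mk_iff_isConj.1 h')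
      have hga : g ∈ stabilizer G a := by
        by_contra hga
        exact hx1 (Subtype.ext (hTI g hga x hx (by rw [hg]; exact hy)))
      have hCD : C = D := by
        refine Subtype.ext ?_
        rw [← hxC, ← hyD, ConjClasses.mk_eq_mk_iff_isConj, isConj_iff]
        exact ⟨⟨g, hga⟩, Subtype.ext hg⟩
      rw [hCD]
    · exfalso
      obtain ⟨y, hy, hy1, hyC⟩ := C.2
      have h' : ConjClasses.mk (y : G) = D.1 := by rw [← hmapmk y, hyC]; exact h
      exact (D.2 _ h').2 ⟨a, y.2, hHfix _ hy fun e' => hy1 (Subtype.ext e')⟩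
    · exact absurd rfl (C.2 1 h.symm).1
    · exfalso
      obtain ⟨y, hy, hy1, hyC⟩ := D.2
      have h' : ConjClasses.mk (y : G) = C.1 := by rw [← hmapmk y, hyC]; exact h.symm
      exact (C.2 _ h').2 ⟨a, y.2, hHfix _ hy fun e' => hy1 (Subtype.ext e')⟩
    · have hCD : C = D := Subtype.ext h
      rw [hCD]
  have hcard := Nat.card_le_card_of_injective F hF
  rw [Nat.card_sum, Nat.card_sum, Nat.card_unique] at hcard
  omega

/-- The numerical contradiction. -/
theorem arith {h e m o S c : ℕ} (he : 3 ≤ e) (h2e : 2 * e + 2 ≤ h) (hS : e * S + 1 = h)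
    (hm : e ≤ 2 * m + 1) (ho : e ≤ m + o + 1) (hc : 1 + m * (h + 1) ≤ c ^ 2)
    (hsum : 1 + h ^ 2 + m * (h + 1) ^ 2 + o * (h - 1) ^ 2 + c ^ 2 * S ≤ (h + 1) * h * e) : False := by
  have h1 : 1 ≤ h := by omega
  have hh : ((h - 1 : ℕ) : ℤ) = h - 1 := by omega
  have Hsum : (1 + (h : ℤ) ^ 2 + m * (h + 1) ^ 2 + o * ((h : ℤ) - 1) ^ 2 + c ^ 2 * S) ≤ (h + 1) * h * e := by
    rw [← hh]; exact_mod_cast hsum
  have Hm : (e : ℤ) ≤ 2 * m + 1 := by exact_mod_cast hm
  have Ho : (e : ℤ) ≤ m + o + 1 := by exact_mod_cast ho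
  have Hc : 1 + (m : ℤ) * (h + 1) ≤ c ^ 2 := by exact_mod_cast hc
  have He : (3 : ℤ) ≤ e := by exact_mod_cast he
  have Hh : 2 * (e : ℤ) + 2 ≤ h := by exact_mod_cast h2e
  have HS : (e : ℤ) * S + 1 = h := by exact_mod_cast hS
  have e1 : (m : ℤ) * (h + 1) ^ 2 + o * ((h : ℤ) - 1) ^ 2
      ≥ ((e : ℤ) - 1) * (h ^ 2 + 1) := by
    nlinarith [mul_nonneg (sub_nonneg.2 Hm) (show (0 : ℤ) ≤ h by omega),
      mul_nonneg (sub_nonneg.2 Ho) (sq_nonneg ((h : ℤ) - 1))]
  have e2 : (c : ℤ) ^ 2 * S ≤ (e : ℤ) ^ 2 * S := by nlinarith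
  have hSpos : (0 : ℤ) < S := by nlinarith
  have e3 : (c : ℤ) ^ 2 ≤ (e : ℤ) ^ 2 := le_of_mul_le_mul_right e2 hSpos
  have e4 : ((e : ℤ) - 1) * (h + 1) ≤ 2 * m * (h + 1) :=
    mul_le_mul_of_nonneg_right (by omega) (by omega)
  have e5 : ((e : ℤ) - 1) * (h + 1) ≤ ((e : ℤ) - 1) * (2 * (e + 1)) := by nlinarith
  have e6 := le_of_mul_le_mul_left e5 (by omega : (0 : ℤ) < (e : ℤ) - 1)
  omega

end CfsgLib.SharplyEven.Feit
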