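import Cfsg.Agent.Lib.NormalPComplement.Frobenius
import Cfsg.Agent.Lib.TwoGroups.Aut
import Cfsg.Agent.Lib.TwoGroups.RankOne
import Cfsg.Agent.Lib.PGroups.SLTwoThree
import Mathlib.RingTheory.IntegralDomain
import Mathlib.FieldTheory.Finite.Basic
import Mathlib.Tactic

/-!
A regular linear group on the non-zero vectors of a module of odd order, with an automorphism of
order two fixing only the involution, has an invariant subgroup of index two.
-/

set_option autoImplicit false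

open CfsgLib.NormalPComplement

namespace CfsgLib.SharplyEven

variable {H : Type*} [Group H] [Finite H]

theorem exists_invariant_index_two {σ : MulAut H} (hσ : ∀ x, σ (σ x) = x) {N₀ : Subgroup H}
    (h0 : N₀.index = 2) : ∃ N : Subgroup H, N.index = 2 ∧ ∀ x ∈ N, σ x ∈ N := by
  by_cases hinv : ∀ x ∈ N₀, σ x ∈ N₀
  · exact ⟨N₀, h0, hinv⟩
  push Not at hinv
  obtain ⟨a, ha, ha'⟩ := hinv
  let N : Subgroup H :=
    { carrier := {x | σ x ∈ N₀ ↔ x ∈ N₀}
      one_mem' := by simp [one_mem]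
      mul_mem' := by
        intro x y hx hy
        simp only [Set.mem_setOf_eq] at hx hy ⊢
        rw [map_mul, Subgroup.mul_mem_iff_of_index_two h0, Subgroup.mul_mem_iff_of_index_two h0, hx, hy]
      inv_mem' := by
        intro x hx
        simp only [Set.mem_setOf_eq, map_inv, inv_mem_iff] at hx ⊢
        exact hx }
  refine ⟨N, Subgroup.index_eq_two_iff.2 ⟨a, fun b => ?_⟩, fun x hx => ?_⟩
  · show Xor (σ (b * a) ∈ N₀ ↔ b * a ∈ N₀) (σ b ∈ N₀ ↔ b ∈ N₀)
    rw [map_mul, Subgroup.mul_mem_iff_of_index_two h0, Subgroup.mul_mem_iff_of_index_two h0]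
    unfold Xor
    tauto
  · show σ (σ x) ∈ N₀ ↔ σ x ∈ N₀
    rw [hσ]
    exact hx.symm

theorem exists_index_two_of_complement {W : Subgroup H} [W.Normal] {P : Sylow 2 H}
    (hc : W.IsComplement' (P : Subgroup H)) (h2 : 2 ∣ Nat.card H) : ∃ N : Subgroup H, N.index = 2 := by
  have : Fact (Nat.Prime 2) := ⟨Nat.prime_two⟩
  obtain ⟨k, hk⟩ := (IsPGroup.iff_card).1 P.2
  have hcard := hc.card_mul
  have hq : Nat.card (H ⧸ W) = 2 ^ k := by
    have := W.card_eq_card_quotient_mul_card_subgroup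
    rw [← hcard, hk, mul_comm] at this
    exact (Nat.eq_of_mul_eq_mul_right Nat.card_pos this).symm
  have hk1 : 1 ≤ k := by
    have := P.dvd_card_of_dvd_card h2
    rw [hk] at this
    rcases k with _ | k
    · simp at this
    · omega
  obtain ⟨K, hK⟩ := Sylow.exists_subgroup_card_pow_prime 2 (G := H ⧸ W) (n := k - 1)
    (by rw [hq]; exact pow_dvd_pow _ (by omega))
  refine ⟨K.comap (QuotientGroup.mk' W), ?_⟩
  rw [Subgroup.index_comap_of_surjective _ (QuotientGroup.mk'_surjective W)]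
  have h1 := K.index_mul_card
  rw [hK, hq] at h1
  refine Nat.eq_of_mul_eq_mul_right (Nat.two_pow_pos (k - 1)) ?_
  rw [h1, ← pow_succ']
  congr 1
  omega

theorem mem_complement_iff {p : ℕ} [Fact p.Prime] {W : Subgroup H} [W.Normal] {P : Sylow p H}
    (hc : W.IsComplement' (P : Subgroup H)) (x : H) : x ∈ W ↔ (orderOf x).Coprime p := by
  constructor
  · intro hx
    have h1 : orderOf x ∣ Nat.card W := Subgroup.orderOf_dvd_natCard W hx
    have h2 : ¬ p ∣ Nat.card W := by rw [← hc.index_eq_card]; exact P.not_dvd_index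
    exact Nat.Coprime.coprime_dvd_left h1 (Nat.coprime_comm.1 ((Nat.Prime.coprime_iff_not_dvd Fact.out).2 h2))
  · intro hx
    obtain ⟨k, hk⟩ := (IsPGroup.iff_card).1 P.2
    have hq : Nat.card (H ⧸ W) = p ^ k := by
      have := W.card_eq_card_quotient_mul_card_subgroup
      rw [← hc.card_mul, hk, mul_comm] at this
      exact (Nat.eq_of_mul_eq_mul_right Nat.card_pos this).symm
    rw [← QuotientGroup.eq_one_iff, ← orderOf_eq_one_iff]
    exact Nat.eq_one_of_dvd_coprimes (hx.pow_right k)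
      (orderOf_map_dvd (QuotientGroup.mk' W) x) (hq ▸ orderOf_dvd_natCard _)

/-- An automorphism of odd order of the quaternion group of order eight has order dividing three. -/
theorem aut_q8_cube {R : Type*} [Group R] [Finite R] (e : R ≃* QuaternionGroup 2) (α : MulAut R)
    (ho : Odd (orderOf α)) : α ^ 3 = 1 := by
  by_cases hα : α = 1
  · rw [hα, one_pow]
  obtain ⟨x, y, hx, hy, hx4, -, hyy, hyx, hgen⟩ := CfsgLib.PGroups.exists_pair e α ho hα
  have hxy : α (x * y) = x := by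
    rw [map_mul, hx, hy, ← mul_assoc, hyx, mul_assoc, hyy, ← pow_add, show 3 + 2 = 4 + 1 from rfl,
      pow_add, hx4, one_mul, pow_one]
  have hex : (α ^ 3) x = x := by
    rw [pow_succ, pow_two, MulAut.mul_apply, MulAut.mul_apply, hx, hy, hxy]
  have hey : (α ^ 3) y = y := by
    rw [pow_succ, pow_two, MulAut.mul_apply, MulAut.mul_apply, hy, hxy, hx]
  refine MulEquiv.ext fun g => ?_
  obtain ⟨i, j, rfl⟩ := hgen g
  rw [map_mul, map_pow, map_pow, hex, hey]
  rfl

/-- In a group with one involution only, odd automorphisms of 2-subgroups come from quaternion groups. -/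
theorem aut_cases {z : H} (hzu : ∀ x : H, orderOf x = 2 → x = z) {R : Subgroup H} (hR : IsPGroup 2 R)
    {g : H} (hg : g ∈ Subgroup.normalizer (R : Set H)) (ho : Odd (orderOf g)) :
    g ∈ Subgroup.centralizer (R : Set H) ∨
      (Nonempty (R ≃* QuaternionGroup 2) ∧ 3 ∣ orderOf g) := by
  have : Fact (Nat.Prime 2) := ⟨Nat.prime_two⟩
  set α : MulAut R := Subgroup.normalizerMonoidHom R ⟨g, hg⟩ with hα
  have hdvd : orderOf α ∣ orderOf g := by
    have := orderOf_map_dvd (Subgroup.normalizerMonoidHom R) ⟨g, hg⟩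
    rwa [← Subgroup.orderOf_coe (⟨g, hg⟩ : Subgroup.normalizer (R : Set H))] at this
  have hαo : Odd (orderOf α) := ho.of_dvd_nat hdvd
  have hone : α = 1 → g ∈ Subgroup.centralizer (R : Set H) := by
    intro h1
    refine Subgroup.mem_centralizer_iff.2 fun r hr => ?_
    have h2 : g * r * g⁻¹ = r :=
      congrArg Subtype.val (DFunLike.congr_fun h1 (⟨r, hr⟩ : R))
    calc r * g = g * r * g⁻¹ * g := by rw [h2]
      _ = g * r := by group
  have hpg : IsPGroup 2 (MulAut R) → α = 1 := by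
    intro hp
    obtain ⟨k, hk⟩ := hp.exists_orderOf_eq_pow α
    rw [← orderOf_eq_one_iff, hk]
    rcases k with _ | k
    · rfl
    · rw [hk] at hαo
      exact absurd hαo (by simp [Nat.not_odd_iff_even, Nat.even_pow])
  rcases CfsgLib.TwoGroups.isCyclic_or_quaternion hR
      (CfsgLib.TwoGroups.uniqueOrderP_iff_unique_involution.2 fun a b ha hb =>
        Subtype.ext ((hzu a (by rw [Subgroup.orderOf_coe, ha])).trans (hzu b (by rw [Subgroup.orderOf_coe, hb])).symm))
    with hcyc | ⟨-, m, hm, ⟨e⟩⟩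
  · exact Or.inl (hone (hpg (CfsgLib.TwoGroups.isPGroup_mulAut_of_isCyclic hR)))
  · by_cases hα1 : α = 1
    · exact Or.inl (hone hα1)
    rcases Nat.lt_or_ge m 2 with hm2 | hm2
    · obtain rfl : m = 1 := by omega
      refine Or.inr ⟨⟨e⟩, ?_⟩
      have h3 : orderOf α ∣ 3 := orderOf_dvd_of_pow_eq_one (aut_q8_cube e α hαo)
      rcases (Nat.dvd_prime Nat.prime_three).1 h3 with h | h
      · exact absurd (orderOf_eq_one_iff.1 h) hα1
      · exact h ▸ hdvd
    · exact absurd (hpg (CfsgLib.TwoGroups.isPGroup_mulAut_congr e.symm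
        (CfsgLib.TwoGroups.isPGroup_mulAut_quaternion hm2))) hα1

section Auto

variable {σ : MulAut H} {z : H}

theorem inverts_odd (hσ : ∀ x, σ (σ x) = x) (hfix : ∀ h, σ h = h → h = 1 ∨ h = z)
    (hz : orderOf z = 2) {X : Subgroup H} (hX : ∀ x ∈ X, σ x ∈ X) (hodd : Odd (Nat.card X)) :
    ∀ x ∈ X, σ x = x⁻¹ := by
  let f : X → X := fun x => ⟨(x : H)⁻¹ * σ x, mul_mem (inv_mem x.2) (hX _ x.2)⟩
  have hf : Function.Injective f := by
    rintro ⟨x, hx⟩ ⟨y, hy⟩ e
    simp only [f, Subtype.mk.injEq] at e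
    have h1 : σ (y * x⁻¹) = y * x⁻¹ := by
      rw [map_mul, map_inv, show σ y = y * x⁻¹ * σ x by rw [mul_assoc, e]; group]
      group
    rcases hfix _ h1 with h | h
    · exact Subtype.ext (mul_inv_eq_one.1 h).symm
    · have hzX : z ∈ X := h ▸ mul_mem hy (inv_mem hx)
      have h3 := Subgroup.orderOf_dvd_natCard X hzX
      rw [hz] at h3
      exact absurd hodd (by rw [Nat.not_odd_iff_even]; exact even_iff_two_dvd.2 h3)
  intro x hx
  obtain ⟨⟨y, hy⟩, e⟩ := (Finite.injective_iff_surjective.1 hf) ⟨x, hx⟩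
  simp only [f, Subtype.mk.injEq] at e
  rw [← e, map_mul, map_inv, hσ, mul_inv_rev, inv_inv]

theorem card_le_two_mul (hfix : ∀ h, σ h = h → h = 1 ∨ h = z) {K : Subgroup H}
    (hK : ∀ h : H, h⁻¹ * σ h ∈ K) : Nat.card H ≤ 2 * Nat.card K := by
  classical
  haveI := Fintype.ofFinite H
  rw [Nat.card_eq_fintype_card, ← Finset.card_univ]
  refine le_trans (Finset.card_le_mul_card_image (f := fun h : H => h⁻¹ * σ h) Finset.univ 2 fun b hb => ?_)
    (Nat.mul_le_mul_left 2 ?_)
  · obtain ⟨h₀, -, rfl⟩ := Finset.mem_image.1 hb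
    refine le_trans (Finset.card_le_card (t := {h₀, z * h₀}) fun h hh => ?_) Finset.card_le_two
    simp only [Finset.mem_filter, Finset.mem_univ, true_and] at hh
    have h1 : σ (h * h₀⁻¹) = h * h₀⁻¹ := by
      rw [map_mul, map_inv, show σ h = h * h₀⁻¹ * σ h₀ by rw [mul_assoc, ← hh]; group]
      group
    rcases hfix _ h1 with e | e
    · simp [mul_inv_eq_one.1 e]
    · simp [← e]
  · rw [Nat.card_eq_fintype_card, ← Finset.card_univ (α := K),
      ← Finset.card_map (Function.Embedding.subtype _)]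
    refine Finset.card_le_card fun b hb => ?_
    obtain ⟨h₀, -, rfl⟩ := Finset.mem_image.1 hb
    exact Finset.mem_map.2 ⟨⟨_, hK h₀⟩, Finset.mem_univ _, rfl⟩

theorem le_center_of_odd (hσ : ∀ x, σ (σ x) = x) (hfix : ∀ h, σ h = h → h = 1 ∨ h = z)
    (hz : orderOf z = 2) (hno : ¬ ∃ N : Subgroup H, N.index = 2) {X : Subgroup H} [hn : X.Normal]
    (hX : ∀ x ∈ X, σ x ∈ X) (hodd : Odd (Nat.card X)) : X ≤ Subgroup.center H := by
  intro x hx
  have hinv := inverts_odd hσ hfix hz hX hodd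
  have hK : ∀ h : H, h⁻¹ * σ h ∈ Subgroup.centralizer ({x} : Set H) := by
    intro h
    have h1 := hinv _ (hn.conj_mem x hx h)
    rw [map_mul, map_mul, map_inv, hinv x hx] at h1
    rw [Subgroup.mem_centralizer_singleton_iff]
    have h2 : σ h * x⁻¹ * (σ h)⁻¹ = h * x⁻¹ * h⁻¹ := h1.trans (by group)
    have h3 : (h⁻¹ * σ h) * x⁻¹ = x⁻¹ * (h⁻¹ * σ h) := by
      calc h⁻¹ * σ h * x⁻¹ = h⁻¹ * (σ h * x⁻¹ * (σ h)⁻¹) * σ h := by group
        _ = x⁻¹ * (h⁻¹ * σ h) := by rw [h2]; group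
    calc h⁻¹ * σ h * x = x * (x⁻¹ * (h⁻¹ * σ h)) * x := by group
      _ = x * (h⁻¹ * σ h) := by rw [← h3]; group
  have hle := card_le_two_mul hfix hK
  rw [← Subgroup.index_mul_card (Subgroup.centralizer ({x} : Set H))] at hle
  have hi := Nat.le_of_mul_le_mul_right hle Nat.card_pos
  have h1 : (Subgroup.centralizer ({x} : Set H)).index = 1 := by
    have h0 : (Subgroup.centralizer ({x} : Set H)).index ≠ 0 := Subgroup.index_ne_zero_of_finite
    have : (Subgroup.centralizer ({x} : Set H)).index ≠ 2 := fun e => hno ⟨_, e⟩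
    omega
  rw [Subgroup.index_eq_one] at h1
  refine Subgroup.mem_center_iff.2 fun g => ?_
  have : g ∈ Subgroup.centralizer ({x} : Set H) := h1 ▸ Subgroup.mem_top g
  exact Subgroup.mem_centralizer_singleton_iff.1 this

end Auto

theorem card_module_bound {A : Type*} [AddCommGroup A] [Finite A] (act : H →* AddMonoid.End A)
    (hinj : ∀ (h k : H) (a : A), a ≠ 0 → act h a = act k a → h = k)
    (htrans : ∀ a b : A, a ≠ 0 → b ≠ 0 → ∃ h, act h a = b) (hA : 2 ≤ Nat.card A)
    (hna : ¬ ∀ h k : H, h * k = k * h) :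
    ∃ q e : ℕ, 2 ≤ q ∧ 2 ≤ e ∧ Nat.card A = q ^ e ∧ Nat.card (Subgroup.center H) ∣ q - 1 := by
  classical
  haveI : Nontrivial A := Finite.one_lt_card_iff_nontrivial.1 hA
  obtain ⟨a₀, ha₀⟩ := exists_ne (0 : A)
  set R := Subring.closure (Set.range fun c : Subgroup.center H => act c) with hR
  have hgen : ∀ c : Subgroup.center H, act c ∈ R := fun c => Subring.subset_closure ⟨c, rfl⟩
  letI : CommRing R := Subring.closureCommRingOfComm (by
    rintro _ ⟨c, rfl⟩ _ ⟨d, rfl⟩
    show act c * act d = act d * act c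
    rw [← map_mul, ← map_mul, (Subgroup.mem_center_iff.1 c.2 d).symm])
  have hcomm : ∀ (r : R) (h : H), (r : AddMonoid.End A) * act h = act h * r := by
    rintro ⟨r, hr⟩ h
    induction hr using Subring.closure_induction with
    | mem x hx =>
      obtain ⟨c, rfl⟩ := hx
      show act c * act h = act h * act c
      rw [← map_mul, ← map_mul, (Subgroup.mem_center_iff.1 c.2 h).symm]
    | zero => simp
    | one => simp
    | add x y _ _ hx hy => simp only [add_mul, mul_add]; exact congrArg₂ (· + ·) hx hy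
    | neg x _ hx => simp only [neg_mul, mul_neg]; exact congrArg Neg.neg hx
    | mul x y _ _ hx hy =>
      show x * y * act h = act h * (x * y)
      rw [mul_assoc, show y * act h = act h * y from hy, ← mul_assoc, show x * act h = act h * x from hx, mul_assoc]
  have hker : ∀ (r : R) (a : A), a ≠ 0 → (r : AddMonoid.End A) a = 0 → r = 0 := by
    intro r a ha e
    refine Subtype.ext (AddMonoidHom.ext fun b => ?_)
    rcases eq_or_ne b 0 with rfl | hb
    · exact map_zero _
    obtain ⟨h, rfl⟩ := htrans a b ha hb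
    have := DFunLike.congr_fun (hcomm r h) a
    show (r : AddMonoid.End A) (act h a) = 0
    exact this.trans ((congrArg (act h) e).trans (map_zero _))
  haveI : Finite R := Finite.of_injective (fun r : R => (r : AddMonoid.End A) a₀) (fun r r' e =>
    sub_eq_zero.1 (hker (r - r') a₀ ha₀ (sub_eq_zero.2 e)))
  haveI : Fintype R := Fintype.ofFinite R
  haveI : Nontrivial R := ⟨0, 1, fun h => ha₀ (DFunLike.congr_fun (congrArg Subtype.val h) a₀).symm⟩
  haveI : NoZeroDivisors R := ⟨fun {r r'} h => by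
    by_contra hc
    simp only [not_or] at hc
    refine hc.1 (hker r ((r' : AddMonoid.End A) a₀) (fun e => hc.2 (hker r' a₀ ha₀ e)) ?_)
    exact DFunLike.congr_fun (congrArg Subtype.val h) a₀⟩
  haveI : IsDomain R := NoZeroDivisors.to_isDomain R
  letI : Field R := Fintype.fieldOfDomain R
  letI : Module R A := Module.compHom A R.subtype
  haveI : Module.Finite R A := Module.Finite.of_finite
  haveI := Fintype.ofFinite A
  refine ⟨Fintype.card R, Module.finrank R A, Fintype.one_lt_card, ?_, ?_, ?_⟩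
  · by_contra hlt
    have hfr : Module.finrank R A = 1 := by
      have : 0 < Module.finrank R A := Module.finrank_pos
      omega
    refine hna fun h k => ?_
    obtain ⟨v, hv, hspan⟩ := finrank_eq_one_iff'.1 hfr
    obtain ⟨r, hr⟩ := hspan (act h v)
    obtain ⟨r', hr'⟩ := hspan (act k v)
    change (r : AddMonoid.End A) v = act h v at hr
    change (r' : AddMonoid.End A) v = act k v at hr'
    refine hinj _ _ v hv ?_
    have e1 : act (h * k) v = (r' : AddMonoid.End A) ((r : AddMonoid.End A) v) := by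
      rw [map_mul]
      show act h (act k v) = _
      rw [← hr']
      exact (DFunLike.congr_fun (hcomm r' h) v).symm.trans (congrArg _ hr.symm)
    have e2 : act (k * h) v = (r : AddMonoid.End A) ((r' : AddMonoid.End A) v) := by
      rw [map_mul]
      show act k (act h v) = _
      rw [← hr]
      exact (DFunLike.congr_fun (hcomm r k) v).symm.trans (congrArg _ hr'.symm)
    rw [e1, e2]
    exact DFunLike.congr_fun (congrArg Subtype.val (mul_comm r' r)) v
  · rw [Nat.card_eq_fintype_card]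
    exact Module.card_eq_pow_finrank
  · let ν : Subgroup.center H →* R :=
      { toFun := fun c => ⟨act c, hgen c⟩
        map_one' := Subtype.ext (by simp)
        map_mul' := fun c d => Subtype.ext (by simp) }
    have hν : Function.Injective ν.toHomUnits := by
      intro c d e
      refine Subtype.ext (hinj _ _ a₀ ha₀ ?_)
      have := congrArg (fun u : Rˣ => ((u : R) : AddMonoid.End A) a₀) e
      exact this
    have := Subgroup.card_dvd_of_injective ν.toHomUnits hν
    rwa [Nat.card_eq_fintype_card (α := Rˣ), Fintype.card_units] at this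

/-- The main lemma: an invariant subgroup of index two. -/
theorem exists_invariant_index_two_of_regular {σ : MulAut H} (hσ : ∀ x, σ (σ x) = x) {z : H}
    (hfix : ∀ h, σ h = h → h = 1 ∨ h = z) (hz : orderOf z = 2) (hzu : ∀ x : H, orderOf x = 2 → x = z)
    (h3u : ∀ S T : Subgroup H, Nat.card S = 3 → Nat.card T = 3 → S = T)
    {A : Type*} [AddCommGroup A] [Finite A] (act : H →* AddMonoid.End A)
    (hinj : ∀ (h k : H) (a : A), a ≠ 0 → act h a = act k a → h = k)
    (htrans : ∀ a b : A, a ≠ 0 → b ≠ 0 → ∃ h, act h a = b) (hA : Nat.card A = Nat.card H + 1) :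
    ∃ N : Subgroup H, N.index = 2 ∧ ∀ x ∈ N, σ x ∈ N := by
  classical
  suffices ∃ N : Subgroup H, N.index = 2 by
    obtain ⟨N, hN⟩ := this
    exact exists_invariant_index_two hσ hN
  by_contra hno
  have : Fact (Nat.Prime 2) := ⟨Nat.prime_two⟩
  have : Fact (Nat.Prime 3) := ⟨Nat.prime_three⟩
  have h2H : 2 ∣ Nat.card H := hz ▸ orderOf_dvd_natCard z
  -- a quaternion subgroup with an automorphism of order three
  obtain ⟨R₀, hR₀, g₀, hg₀, hg₀o, hg₀c⟩ : ∃ R : Subgroup H, IsPGroup 2 R ∧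
      ∃ g ∈ Subgroup.normalizer (R : Set H), Odd (orderOf g) ∧ g ∉ Subgroup.centralizer (R : Set H) := by
    by_contra hcon
    have hF : FrobeniusCondition 2 H := fun R hR g hg hgo => by
      by_contra hgc
      exact hcon ⟨R, hR, g, hg, Nat.coprime_two_right.1 hgo, hgc⟩
    obtain ⟨P, W, hW, hc⟩ := hasNormalPComplement_of_frobeniusCondition hF
    exact hno (exists_index_two_of_complement hc h2H)
  obtain ⟨⟨-⟩, h3g⟩ := (aut_cases hzu hR₀ hg₀ hg₀o).resolve_left hg₀c
  -- the subgroup of order three is central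
  obtain ⟨t, ht⟩ := exists_prime_orderOf_dvd_card' (G := H) 3 (h3g.trans (orderOf_dvd_natCard g₀))
  set T := Subgroup.zpowers t with hTdef
  have hT3 : Nat.card T = 3 := by rw [hTdef, Nat.card_zpowers, ht]
  have hTu : ∀ S : Subgroup H, Nat.card S = 3 → S = T := fun S hS => h3u S T hS hT3
  have : T.Normal := ⟨fun x hx g => by
    have hm := hTu (T.map (MulAut.conj g).toMonoidHom)
      (by rw [Subgroup.card_map_of_injective (f := (MulAut.conj g).toMonoidHom) (MulAut.conj g).injective, hT3])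
    exact hm.le ⟨x, hx, rfl⟩⟩
  have hTσ : ∀ x ∈ T, σ x ∈ T := fun x hx => by
    have hm := hTu (T.map σ.toMonoidHom)
      (by rw [Subgroup.card_map_of_injective (f := σ.toMonoidHom) σ.injective, hT3])
    exact hm.le ⟨x, hx, rfl⟩
  have hTc : T ≤ Subgroup.center H := le_center_of_odd hσ hfix hz hno hTσ (by rw [hT3]; exact ⟨1, rfl⟩)
  -- the normal 3-complement
  have hu3 : CfsgLib.TwoGroups.UniqueOrderP 3 H := CfsgLib.TwoGroups.uniqueOrderP_of_subgroup h3u
  have hcyc3 : ∀ R : Subgroup H, IsPGroup 3 R → IsCyclic R := fun R hR =>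
    (CfsgLib.TwoGroups.isCyclic_or_quaternion hR (hu3.of_injective R.subtype R.subtype_injective)).resolve_right
      (fun h => by omega)
  have hF3 : FrobeniusCondition 3 H := by
    intro R hR g hg hgo
    rcases eq_or_ne R ⊥ with rfl | hne
    · exact Subgroup.mem_centralizer_iff.2 fun x hx => by rw [Subgroup.mem_bot.1 hx]; simp
    obtain ⟨⟨r, hr⟩, hrgen⟩ := (hcyc3 R hR).exists_generator
    obtain ⟨j, hj⟩ : ∃ j, orderOf r = 3 ^ j := by
      obtain ⟨j, hj⟩ := hR.exists_orderOf_eq_pow (⟨r, hr⟩ : R)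
      exact ⟨j, by rwa [← Subgroup.orderOf_coe] at hj⟩
    have hR' : ∀ x ∈ R, x ∈ Subgroup.zpowers r := fun x hx => by
      obtain ⟨i, hi⟩ := Subgroup.mem_zpowers_iff.1 (hrgen ⟨x, hx⟩)
      exact Subgroup.mem_zpowers_iff.2 ⟨i, by simpa using congrArg Subtype.val hi⟩
    have hj1 : 1 ≤ j := by
      by_contra hj0
      obtain rfl : j = 0 := by omega
      rw [pow_zero, orderOf_eq_one_iff] at hj
      refine hne ((Subgroup.eq_bot_iff_forall R).2 fun x hx => ?_)
      simpa [hj] using hR' x hx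
    have h3r : orderOf (r ^ 3 ^ (j - 1)) = 3 := by
      rw [orderOf_pow' _ (pow_ne_zero _ (by norm_num)), hj, Nat.gcd_eq_right (pow_dvd_pow _ (by omega)),
        Nat.pow_div (by omega) (by norm_num), show j - (j - 1) = 1 by omega, pow_one]
    have hrT : r ^ 3 ^ (j - 1) ∈ T :=
      (hTu (Subgroup.zpowers (r ^ 3 ^ (j - 1))) (by rw [Nat.card_zpowers, h3r])).le (Subgroup.mem_zpowers _)
    obtain ⟨k, hk⟩ := Subgroup.mem_zpowers_iff.1 (hR' _ ((Subgroup.mem_normalizer_iff.1 hg r).1 hr))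
    -- g centralises the bottom of R
    have hk1 : (3 : ℤ) ∣ k - 1 := by
      have h1 : g * r ^ 3 ^ (j - 1) * g⁻¹ = r ^ 3 ^ (j - 1) := by
        rw [Subgroup.mem_center_iff.1 (hTc hrT) g, mul_inv_cancel_right]
      rw [← conj_pow, ← hk, ← zpow_natCast (r ^ k), ← zpow_mul, ← zpow_natCast r, zpow_eq_zpow_iff_modEq,
        hj] at h1
      have h2 := h1.dvd
      rw [show ((3 ^ (j - 1) : ℕ) : ℤ) - k * ((3 ^ (j - 1) : ℕ) : ℤ) = (1 - k) * ((3 ^ (j - 1) : ℕ) : ℤ) by ring,
        show ((3 ^ j : ℕ) : ℤ) = 3 * ((3 ^ (j - 1) : ℕ) : ℤ) by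
          rw [show j = j - 1 + 1 by omega, pow_succ]; push_cast; ring] at h2
      have := (mul_dvd_mul_iff_right (by positivity)).1 h2
      simpa using this.neg_right
    have hpow : ∀ i : ℕ, g ^ i * r * (g ^ i)⁻¹ = r ^ (k ^ i) := by
      intro i
      induction i with
      | zero => simp
      | succ i ih =>
        rw [pow_succ', mul_inv_rev, show g * g ^ i * r * ((g ^ i)⁻¹ * g⁻¹) = g * (g ^ i * r * (g ^ i)⁻¹) * g⁻¹ by group,
          ih, ← conj_zpow, ← hk, ← zpow_mul, pow_succ', mul_comm]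
    have hk3 : ∀ i : ℕ, ((3 : ℤ) ^ (i + 1)) ∣ k ^ 3 ^ i - 1 := by
      intro i
      have := dvd_sub_pow_of_dvd_sub (p := 3) (b := (1 : ℤ)) hk1 i
      simpa using this
    have hg3 : g ^ 3 ^ j ∈ Subgroup.centralizer ({r} : Set H) := by
      rw [Subgroup.mem_centralizer_singleton_iff]
      have h1 : r ^ (k ^ 3 ^ j) = r := by
        conv_rhs => rw [← zpow_one r]
        rw [zpow_eq_zpow_iff_modEq, hj]
        refine (Int.modEq_iff_dvd.2 ?_).symm
        push_cast
        exact dvd_trans (pow_dvd_pow _ (by omega)) (hk3 j)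
      calc g ^ 3 ^ j * r = g ^ 3 ^ j * r * (g ^ 3 ^ j)⁻¹ * g ^ 3 ^ j := by group
        _ = r * g ^ 3 ^ j := by rw [hpow, h1]
    obtain ⟨i, hi⟩ := exists_pow_eq_self_of_coprime ((Nat.coprime_comm.1 hgo).pow_left j)
    have hgc : g ∈ Subgroup.centralizer ({r} : Set H) := hi ▸ pow_mem hg3 i
    refine Subgroup.mem_centralizer_iff.2 fun x hx => ?_
    obtain ⟨i', rfl⟩ := Subgroup.mem_zpowers_iff.1 (hR' x hx)
    exact (Commute.zpow_left (Subgroup.mem_centralizer_singleton_iff.1 hgc).symm i').eq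
  obtain ⟨P, W, hW, hc⟩ := hasNormalPComplement_of_frobeniusCondition hF3
  have := hW
  have hWm := mem_complement_iff hc
  -- the odd part of the complement
  have hFW : FrobeniusCondition 2 W := by
    intro R hR g hg hgo
    have h1 : (g : H) ∈ Subgroup.normalizer ((R.map W.subtype : Subgroup H) : Set H) :=
      Subgroup.le_normalizer_map W.subtype ⟨g, hg, rfl⟩
    rcases aut_cases hzu (hR.map W.subtype) h1 (by rw [Subgroup.orderOf_coe]; exact Nat.coprime_two_right.1 hgo) with h | ⟨-, h⟩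
    · refine Subgroup.mem_centralizer_iff.2 fun x hx => Subtype.ext ?_
      exact Subgroup.mem_centralizer_iff.1 h x ⟨x, hx, rfl⟩
    · have h' := (hWm g).1 g.2
      exact absurd (Nat.eq_one_of_dvd_coprimes h' h dvd_rfl) (by norm_num)
  obtain ⟨P₂, N₂, hN₂, hc₂⟩ := hasNormalPComplement_of_frobeniusCondition hFW
  have := hN₂
  have hN₂m := mem_complement_iff hc₂
  set O := N₂.map W.subtype with hOdef
  have hOm : ∀ x, x ∈ O ↔ (orderOf x).Coprime 3 ∧ (orderOf x).Coprime 2 := by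
    intro x
    constructor
    · rintro ⟨⟨y, hy⟩, hy', rfl⟩
      exact ⟨(hWm y).1 hy, by
        have := (hN₂m ⟨y, hy⟩).1 hy'
        rwa [← Subgroup.orderOf_coe] at this⟩
    · rintro ⟨h1, h2⟩
      exact ⟨⟨x, (hWm x).2 h1⟩, (hN₂m _).2 (by rwa [← Subgroup.orderOf_coe]), rfl⟩
  have : O.Normal := ⟨fun x hx g => by
    rw [hOm] at hx ⊢
    rwa [show g * x * g⁻¹ = MulAut.conj g x from rfl, MulEquiv.orderOf_eq]⟩
  have hOσ : ∀ x ∈ O, σ x ∈ O := fun x hx => by
    rw [hOm] at hx ⊢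
    rwa [MulEquiv.orderOf_eq]
  have hOodd : Odd (Nat.card O) := by
    rw [hOdef, Subgroup.card_map_of_injective (f := W.subtype) W.subtype_injective, ← hc₂.index_eq_card,
      ← Nat.not_even_iff_odd, even_iff_two_dvd]
    exact P₂.not_dvd_index
  have hOc : O ≤ Subgroup.center H := le_center_of_odd hσ hfix hz hno hOσ hOodd
  -- the Sylow 2-subgroup is normal
  have hWdec : ∀ w : W, ∃ n ∈ N₂, ∃ p ∈ (P₂ : Subgroup W), w = n * p := fun w => by
    obtain ⟨⟨⟨n, hn⟩, ⟨p, hp⟩⟩, hnp⟩ := hc₂.2 w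
    exact ⟨n, hn, p, hp, hnp.symm⟩
  have hP₂n : (P₂ : Subgroup W).Normal := ⟨fun x hx g => by
    obtain ⟨n, hn, p, hp, rfl⟩ := hWdec g
    have hcn : ∀ y : W, n * y = y * n := fun y =>
      Subtype.ext (Subgroup.mem_center_iff.1 (hOc ⟨n, hn, rfl⟩) y).symm
    rw [show n * p * x * (n * p)⁻¹ = n * (p * x * p⁻¹) * n⁻¹ by group, hcn, mul_inv_cancel_right]
    exact mul_mem (mul_mem hp hx) (inv_mem hp)⟩
  set Q := (P₂ : Subgroup W).map W.subtype with hQdef
  have hQm : ∀ x, x ∈ Q ↔ ∃ k, orderOf x = 2 ^ k := by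
    intro x
    constructor
    · rintro ⟨y, hy, rfl⟩
      obtain ⟨k, hk⟩ := P₂.2.exists_orderOf_eq_pow (⟨y, hy⟩ : (P₂ : Subgroup W))
      exact ⟨k, by rw [Subgroup.coe_subtype, Subgroup.orderOf_coe]; rwa [← Subgroup.orderOf_coe] at hk⟩
    · rintro ⟨k, hk⟩
      have hxW : x ∈ W := (hWm x).2 (by rw [hk]; exact (by norm_num : Nat.Coprime 2 3).pow_left k)
      refine ⟨⟨x, hxW⟩, ?_, rfl⟩
      have hzp : IsPGroup 2 (Subgroup.zpowers (⟨x, hxW⟩ : W)) :=
        IsPGroup.of_card (n := k) (by rw [Nat.card_zpowers, ← Subgroup.orderOf_coe]; exact hk)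
      have heq := P₂.3 (hzp.to_sup_of_normal_right P₂.2) le_sup_right
      exact heq.le (le_sup_left (a := Subgroup.zpowers (⟨x, hxW⟩ : W)) (Subgroup.mem_zpowers _))
  have hQn : ∀ g : H, g ∈ Subgroup.normalizer (Q : Set H) := fun g => by
    rw [Subgroup.mem_normalizer_iff]
    intro x
    rw [hQm, hQm, show g * x * g⁻¹ = MulAut.conj g x from rfl, MulEquiv.orderOf_eq]
  have hQp : IsPGroup 2 Q := P₂.2.map W.subtype
  have hR₀Q : R₀ ≤ Q := fun x hx => by
    obtain ⟨k, hk⟩ := hR₀.exists_orderOf_eq_pow (⟨x, hx⟩ : R₀)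
    exact (hQm x).2 ⟨k, by rwa [← Subgroup.orderOf_coe] at hk⟩
  obtain ⟨⟨eQ⟩, -⟩ := (aut_cases hzu hQp (hQn g₀) hg₀o).resolve_left fun h => hg₀c
    (Subgroup.mem_centralizer_iff.2 fun x hx => Subgroup.mem_centralizer_iff.1 h x (hR₀Q hx))
  have hQ8 : Nat.card Q = 8 := by
    rw [Nat.card_congr eQ.toEquiv, Nat.card_eq_fintype_card, QuaternionGroup.card]
  -- the Sylow 3-subgroup
  obtain ⟨⟨y, hy⟩, hygen⟩ := (hcyc3 P P.2).exists_generator
  have hP : ∀ x ∈ (P : Subgroup H), x ∈ Subgroup.zpowers y := fun x hx => by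
    obtain ⟨i, hi⟩ := Subgroup.mem_zpowers_iff.1 (hygen ⟨x, hx⟩)
    exact Subgroup.mem_zpowers_iff.2 ⟨i, by simpa using congrArg Subtype.val hi⟩
  have hPy : Subgroup.zpowers y = (P : Subgroup H) := le_antisymm (Subgroup.zpowers_le.2 hy) hP
  have hyo : ∃ j, orderOf y = 3 ^ j := by
    obtain ⟨j, hj⟩ := P.2.exists_orderOf_eq_pow (⟨y, hy⟩ : (P : Subgroup H))
    exact ⟨j, by rwa [← Subgroup.orderOf_coe] at hj⟩
  obtain ⟨j, hj⟩ := hyo
  have hyodd : Odd (orderOf y) := hj ▸ (by decide : Odd 3).pow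
  have hy3Q : ∀ x ∈ Q, y ^ 3 * x = x * y ^ 3 := by
    intro x hx
    set α : MulAut Q := Subgroup.normalizerMonoidHom Q ⟨y, hQn y⟩ with hα
    have hαo : Odd (orderOf α) := by
      refine hyodd.of_dvd_nat ?_
      have := orderOf_map_dvd (Subgroup.normalizerMonoidHom Q) ⟨y, hQn y⟩
      rwa [← Subgroup.orderOf_coe (⟨y, hQn y⟩ : Subgroup.normalizer (Q : Set H))] at this
    have h1 := aut_q8_cube eQ α hαo
    rw [hα, ← map_pow] at h1
    have h2 : y ^ 3 * x * (y ^ 3)⁻¹ = x := congrArg Subtype.val (DFunLike.congr_fun h1 (⟨x, hx⟩ : Q))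
    calc y ^ 3 * x = y ^ 3 * x * (y ^ 3)⁻¹ * y ^ 3 := by group
      _ = x * y ^ 3 := by rw [h2]
  have hy3c : y ^ 3 ∈ Subgroup.center H := by
    refine Subgroup.mem_center_iff.2 fun g => ?_
    obtain ⟨⟨⟨w, hw⟩, ⟨p, hp⟩⟩, hwp⟩ := hc.2 g
    obtain ⟨n, hn, q, hq, hnq⟩ := hWdec ⟨w, hw⟩
    have c1 : Commute (y ^ 3) n := (Subgroup.mem_center_iff.1 (hOc ⟨n, hn, rfl⟩) (y ^ 3))
    have c2 : Commute (y ^ 3) (q : H) := hy3Q _ ⟨q, hq, rfl⟩
    obtain ⟨i, rfl⟩ := Subgroup.mem_zpowers_iff.1 (hP p hp)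
    have c3 : Commute (y ^ 3) (y ^ i) := ((Commute.refl y).pow_left 3).zpow_right i
    rw [← hwp]
    show w * y ^ i * y ^ 3 = y ^ 3 * (w * y ^ i)
    rw [show w = (n : H) * q from congrArg Subtype.val hnq]
    exact (((c1.mul_right c2).mul_right c3).eq).symm
  -- counting
  have hP3 : 3 ∣ Nat.card (P : Subgroup H) := P.dvd_card_of_dvd_card (hT3 ▸ T.card_subgroup_dvd_card)
  have hy3o : 3 * orderOf (y ^ 3) = Nat.card (P : Subgroup H) := by
    rw [← hPy, Nat.card_zpowers] at hP3 ⊢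
    rw [orderOf_pow' _ (by norm_num), Nat.gcd_eq_right hP3, Nat.mul_div_cancel' hP3]
  have hzc : z ∈ Subgroup.center H := Subgroup.mem_center_iff.2 fun g => by
    have h1 : g * z * g⁻¹ = z :=
      hzu _ (by rw [show g * z * g⁻¹ = MulAut.conj g z from rfl, MulEquiv.orderOf_eq, hz])
    calc g * z = g * z * g⁻¹ * g := by group
      _ = z * g := by rw [h1]
  have hO3 : (Nat.card O).Coprime 3 := by
    rw [Nat.coprime_comm, Nat.Prime.coprime_iff_not_dvd Nat.prime_three]
    intro h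
    obtain ⟨⟨x, hx⟩, hxo⟩ := exists_prime_orderOf_dvd_card' (G := O) 3 h
    rw [← Subgroup.orderOf_coe] at hxo
    have h' := ((hOm x).1 hx).1
    simp only at hxo
    rw [hxo] at h'
    norm_num at h'
  have hcZ : 2 * Nat.card O * orderOf (y ^ 3) ∣ Nat.card (Subgroup.center H) := by
    refine Nat.Coprime.mul_dvd_of_dvd_of_dvd ?_ (Nat.Coprime.mul_dvd_of_dvd_of_dvd ?_ ?_ ?_) ?_
    · obtain ⟨i, hi, h⟩ := (Nat.dvd_prime_pow Nat.prime_three).1 (hj ▸ orderOf_pow_dvd (x := y) 3)
      rw [h]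
      exact Nat.Coprime.pow_right i (Nat.Coprime.mul_left (by norm_num) hO3)
    · exact Nat.coprime_two_left.2 hOodd
    · exact hz ▸ Subgroup.orderOf_dvd_natCard _ hzc
    · exact Subgroup.card_dvd_of_le hOc
    · exact Subgroup.orderOf_dvd_natCard _ hy3c
  have hH : Nat.card H = 8 * (Nat.card O * Nat.card (P : Subgroup H)) := by
    have h1 := hc.card_mul
    have h2 := hc₂.card_mul
    have e1 : Nat.card O = Nat.card N₂ := by
      rw [hOdef, Subgroup.card_map_of_injective (f := W.subtype) W.subtype_injective]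
    have e2 : Nat.card Q = Nat.card (P₂ : Subgroup W) := by
      rw [hQdef, Subgroup.card_map_of_injective (f := W.subtype) W.subtype_injective]
    rw [← e1, ← e2, hQ8] at h2
    rw [← h1, ← h2]
    ring
  have hZ3 : 3 ∣ Nat.card (Subgroup.center H) := hT3 ▸ Subgroup.card_dvd_of_le hTc
  have hZ2 : 2 ∣ Nat.card (Subgroup.center H) := hz ▸ Subgroup.orderOf_dvd_natCard _ hzc
  -- the module
  obtain ⟨q, e, hq, he, hAq, hZq⟩ := card_module_bound act hinj htrans (by have := Nat.card_pos (α := H); omega)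
    fun hcomm => hg₀c (Subgroup.mem_centralizer_iff.2 fun x _ => hcomm x g₀)
  have hqodd : Odd q := by
    have : Odd (q ^ e) := by rw [← hAq, hA]; exact (even_iff_two_dvd.2 h2H).add_one
    exact (Nat.odd_pow_iff (by omega)).1 this
  have hOP : Odd (Nat.card O * Nat.card (P : Subgroup H)) := by
    rw [← hPy, Nat.card_zpowers]
    exact hOodd.mul hyodd
  have hZle := Nat.le_of_dvd (by omega) hZq
  have hcle := Nat.le_of_dvd Nat.card_pos hcZ
  have hZH : Nat.card H ≤ 12 * (q - 1) := by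
    rw [hH, ← hy3o]
    generalize Nat.card O = o, orderOf (y ^ 3) = c, q - 1 = r at hcle hZle ⊢
    nlinarith
  have hpow : q ^ 2 ≤ q ^ e := Nat.pow_le_pow_right (by omega) he
  have h6 : 6 ∣ q - 1 :=
    dvd_trans (Nat.Coprime.mul_dvd_of_dvd_of_dvd (by norm_num : Nat.Coprime 2 3) hZ2 hZ3) hZq
  obtain ⟨r, hr⟩ : ∃ r, q = r + 1 := ⟨q - 1, by omega⟩
  have hq11 : q ≤ 11 := by
    by_contra hlt
    have hb : q ^ e ≤ 12 * r + 1 := by rw [← hAq, hA]; omega
    have hb2 : (r + 1) ^ 2 ≤ 12 * r + 1 := hr ▸ hpow.trans hb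
    have hr11 : 11 ≤ r := by omega
    nlinarith
  have hq7 : q = 7 := by
    obtain ⟨w, hw⟩ := h6
    obtain ⟨v, hv⟩ := hqodd
    omega
  subst hq7
  obtain ⟨v, hv⟩ := hOP
  rcases Nat.lt_or_ge e 3 with he3 | he3
  · obtain rfl : e = 2 := by omega
    omega
  · have : 7 ^ 3 ≤ 7 ^ e := Nat.pow_le_pow_right (by norm_num) he3
    omega

end CfsgLib.SharplyEven
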