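import Mathlib.Algebra.BigOperators.Fin
import Mathlib.RingTheory.Int.Basic
import Mathlib.Tactic

/-!
The numerical facts behind the order of a Suzuki kernel.
-/

set_option autoImplicit false

namespace CfsgLib.SharplyEven.SuzukiArith

/-- The case `|U| = q²` with at least four characters over each central character. -/
theorem square_case {ι : Type*} (O : Finset ι) (L t : ι → ℤ) (q M : ℕ) (hM4 : 4 * q ≤ M ^ 2)
    (hcase : 16 ≤ M ∨ (M = 8 ∧ q ≤ 16)) (hMq : (M : ℤ) ∣ q)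
    (hne : ∀ i ∈ O, L i + M * t i ≠ 0 ∧ ((L i = 1 ∨ L i = -1) → L i + M * t i ≠ (q + 1) * L i))
    (h1 : 2 * ∑ i ∈ O, L i ^ 2 ≤ q)
    (h2 : ∑ i ∈ O, (L i + M * t i - ((q : ℤ) - 1) * L i) ^ 2 ≤ q * ((q : ℤ) - 1))
    (h3 : q ≤ 2 * O.card) (hq : 1 ≤ q) : False := by
  have hM8 : 8 ≤ M := by omega
  have hM' : (8 : ℤ) ≤ M := by exact_mod_cast hM8
  obtain ⟨c, hc⟩ := hMq
  set δ : ι → ℤ := fun i => L i + M * t i - ((q : ℤ) - 1) * L i with hδ
  -- the three kinds of entries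
  have hkind : ∀ i ∈ O, (L i = 0 ∧ (M : ℤ) ^ 2 ≤ δ i ^ 2) ∨
      (L i ^ 2 = 1 ∧ ((M : ℤ) - 2) ^ 2 ≤ δ i ^ 2) ∨ 4 ≤ L i ^ 2 := by
    intro i hi
    obtain ⟨hne0, hne1⟩ := hne i hi
    rcases eq_or_ne (L i) 0 with h0 | h0
    · refine Or.inl ⟨h0, ?_⟩
      have ht : t i ≠ 0 := fun e => hne0 (by rw [h0, e]; ring)
      have ht2 : 1 ≤ t i ^ 2 := Int.add_one_le_iff.2 (sq_pos_of_ne_zero ht)
      simp only [hδ, h0, zero_add, mul_zero, sub_zero, mul_pow]
      nlinarith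
    · by_cases h1' : L i = 1 ∨ L i = -1
      · refine Or.inr (Or.inl ⟨by rcases h1' with e | e <;> simp [e], ?_⟩)
        set j : ℤ := t i - c * L i with hj
        have hδj : δ i = M * j + 2 * L i := by simp only [hδ, hj, hc]; ring
        have hj0 : j ≠ 0 := fun e => hne1 h1' (by
          have : (t i : ℤ) = c * L i := by rw [hj] at e; linarith
          rw [this, hc]; ring)
        rw [hδj]
        rcases lt_or_gt_of_ne hj0 with hj' | hj' <;> rcases h1' with e | e <;> rw [e]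
        · nlinarith [mul_nonneg (sub_nonneg.2 (show j ≤ -1 by omega)) (show (0 : ℤ) ≤ M by omega)]
        · nlinarith [mul_nonneg (sub_nonneg.2 (show j ≤ -1 by omega)) (show (0 : ℤ) ≤ M by omega)]
        · nlinarith [mul_nonneg (sub_nonneg.2 (show (1 : ℤ) ≤ j by omega)) (show (0 : ℤ) ≤ M by omega)]
        · nlinarith [mul_nonneg (sub_nonneg.2 (show (1 : ℤ) ≤ j by omega)) (show (0 : ℤ) ≤ M by omega)]
      · refine Or.inr (Or.inr ?_)
        push Not at h1'
        rcases lt_or_gt_of_ne h0 with h | h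
        · nlinarith [show L i ≤ -2 by omega]
        · nlinarith [show 2 ≤ L i by omega]
  have hq' : (1 : ℤ) ≤ q := by exact_mod_cast hq
  have h3' : (q : ℤ) ≤ 2 * O.card := by exact_mod_cast h3
  have hM4' : 4 * (q : ℤ) ≤ (M : ℤ) ^ 2 := by exact_mod_cast hM4
  rcases hcase with hbig | ⟨rfl, hq16⟩
  · have hbig' : (16 : ℤ) ≤ M := by exact_mod_cast hbig
    have hterm : ∀ i ∈ O, 4 * (M : ℤ) ^ 2 ≤ 4 * δ i ^ 2 + (M : ℤ) ^ 2 * L i ^ 2 := by
      intro i hi
      rcases hkind i hi with ⟨h0, h⟩ | ⟨h0, h⟩ | h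
      · nlinarith [sq_nonneg (L i), sq_nonneg (M : ℤ)]
      · rw [h0]; nlinarith
      · nlinarith [sq_nonneg (δ i), mul_le_mul_of_nonneg_left h (sq_nonneg (M : ℤ))]
    have hsum := Finset.sum_le_sum hterm
    rw [Finset.sum_const, nsmul_eq_mul, Finset.sum_add_distrib, ← Finset.mul_sum, ← Finset.mul_sum] at hsum
    nlinarith [mul_le_mul_of_nonneg_left h1 (sq_nonneg (M : ℤ)), mul_le_mul_of_nonneg_left h3' (sq_nonneg (M : ℤ))]
  · have hterm : ∀ i ∈ O, (48 : ℤ) ≤ δ i ^ 2 + 12 * L i ^ 2 := by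
      intro i hi
      rcases hkind i hi with ⟨h0, h⟩ | ⟨h0, h⟩ | h
      · rw [h0]; push_cast at h; linarith
      · rw [h0]; push_cast at h; linarith
      · nlinarith [sq_nonneg (δ i)]
    have hsum := Finset.sum_le_sum hterm
    rw [Finset.sum_const, nsmul_eq_mul, Finset.sum_add_distrib, ← Finset.mul_sum] at hsum
    have hq16' : (q : ℤ) ≤ 16 := by exact_mod_cast hq16
    nlinarith

/-- The case `|U| = q³`. -/
theorem cube_case {ι : Type*} (O : Finset ι) (u v : ι → ℤ) (n : ℕ) (t v₀ ε : ℤ) (hn : 2 ≤ n)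
    (hε : ε = 1 ∨ ε = -1)
    (hD : ∀ i ∈ O, 0 < ((2 : ℤ) ^ n + 1) * u i + 2 ^ n * v i ∧
      ((2 : ℤ) ^ n + 1) * u i + 2 ^ n * v i ∣ (2 ^ n) ^ 3 * ((2 ^ n) ^ 3 + 1))
    (e1 : 2 * ((2 : ℤ) ^ n + 1) ^ 2 * ∑ i ∈ O, u i ^ 2 + 2 * (2 ^ n + 1) * (ε + (2 ^ n + 1) * t) ^ 2
      = 2 ^ n * ((2 ^ n) ^ 2 - 1))
    (e2 : 2 * ((2 : ℤ) ^ n + 1) * ∑ i ∈ O, u i * v i + 2 * (2 ^ n + 1) * (ε + (2 ^ n + 1) * t) * v₀
      = 2 ^ n * (2 ^ n + 1) * (2 ^ n - 2))
    (e3 : 2 * ∑ i ∈ O, v i ^ 2 + 2 * ((2 : ℤ) ^ n + 1) * v₀ ^ 2 = (2 ^ n) ^ 3 - 2 * (2 ^ n) ^ 2 + 2) :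
    False := by
  classical
  have hq4 : (4 : ℤ) ≤ 2 ^ n := by
    calc (4 : ℤ) = 2 ^ 2 := by norm_num
      _ ≤ 2 ^ n := pow_le_pow_right₀ (by norm_num) hn
  have hqe : (2 : ℤ) ∣ 2 ^ n := dvd_pow_self 2 (by omega)
  have hcop : ∀ D : ℤ, ¬ 2 ∣ D → D ∣ (2 ^ n) ^ 3 * ((2 ^ n) ^ 3 + 1) → D ∣ (2 ^ n) ^ 3 + 1 := by
    intro D hD hdvd
    have : IsCoprime D ((2 ^ n) ^ 3) := by
      rw [← pow_mul]
      exact ((Int.prime_two.coprime_iff_not_dvd).2 hD).symm.pow_right
    exact this.dvd_of_dvd_mul_left hdvd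
  set q : ℤ := 2 ^ n with hq
  set L₀ : ℤ := ε + (q + 1) * t with hL₀
  set w : ℤ := (q + 1) * v₀ - q * L₀ with hw
  set δ : ι → ℤ := fun i => v i - q * u i with hδ
  set S₂ : ℤ := ∑ i ∈ O, u i ^ 2 with hS₂
  have hS0 : 0 ≤ S₂ := Finset.sum_nonneg fun i _ => sq_nonneg _
  have hΔ0 : 0 ≤ ∑ i ∈ O, δ i ^ 2 := Finset.sum_nonneg fun i _ => sq_nonneg _
  have hΔ : ∑ i ∈ O, δ i ^ 2 = (∑ i ∈ O, v i ^ 2) - 2 * q * (∑ i ∈ O, u i * v i) + q ^ 2 * S₂ := by
    rw [hS₂, Finset.mul_sum, Finset.mul_sum, ← Finset.sum_sub_distrib, ← Finset.sum_add_distrib]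
    exact Finset.sum_congr rfl fun i _ => by simp only [hδ]; ring
  have hX : ∑ i ∈ O, u i * δ i = (∑ i ∈ O, u i * v i) - q * S₂ := by
    rw [hS₂, Finset.mul_sum, ← Finset.sum_sub_distrib]
    exact Finset.sum_congr rfl fun i _ => by simp only [hδ]; ring
  have hq1 : (0 : ℤ) < q + 1 := by omega
  have e1' : 2 * (q + 1) * S₂ + 2 * L₀ ^ 2 = q * (q - 1) :=
    mul_left_cancel₀ hq1.ne' (by linear_combination e1)
  have e2' : 2 * (∑ i ∈ O, u i * v i) + 2 * L₀ * v₀ = q * (q - 2) :=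
    mul_left_cancel₀ hq1.ne' (by linear_combination e2)
  have f1 : (q + 1) * (∑ i ∈ O, δ i ^ 2) + w ^ 2 = q ^ 2 + q + 1 := by
    rw [hΔ]
    refine mul_left_cancel₀ (two_ne_zero (α := ℤ)) ?_
    simp only [hw]
    linear_combination q ^ 2 * e1' - 2 * q * (q + 1) * e2' + (q + 1) * e3
  have f2 : (q + 1) * (∑ i ∈ O, u i * δ i) + L₀ * w = -q := by
    rw [hX]
    refine mul_left_cancel₀ (two_ne_zero (α := ℤ)) ?_
    simp only [hw]
    linear_combination (q + 1) * e2' - q * e1'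
  have hLq : L₀ ^ 2 < q ^ 2 := by nlinarith
  have hL0e : L₀ = ε := by
    have h1 := sq_lt_sq.1 hLq
    rw [abs_of_pos (show 0 < q by omega)] at h1
    obtain ⟨h2, h3⟩ := abs_lt.1 h1
    have ht : t = 0 := by
      rcases lt_trichotomy t 0 with ht | ht | ht
      · rcases hε with e | e <;> nlinarith [mul_le_mul_of_nonneg_left (show t ≤ -1 by omega) hq1.le]
      · exact ht
      · rcases hε with e | e <;> nlinarith [mul_le_mul_of_nonneg_left (show (1 : ℤ) ≤ t by omega) hq1.le]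
    rw [hL₀, ht, mul_zero, add_zero]
  rw [hL0e] at hw f2 e1'
  have hεsq : ε ^ 2 = 1 := by rcases hε with e | e <;> rw [e] <;> norm_num
  have hS : 2 * S₂ = q - 2 := by
    rw [hεsq] at e1'
    exact mul_left_cancel₀ hq1.ne' (by linear_combination e1')
  have hΔq : ∑ i ∈ O, δ i ^ 2 ≤ q := by nlinarith [sq_nonneg w]
  have hsmall : ∀ i ∈ O, δ i ^ 2 ≤ q := fun i hi =>
    (Finset.single_le_sum (f := fun j => δ j ^ 2) (fun j _ => sq_nonneg _) hi).trans hΔq
  have hDeq : ∀ i, (q + 1) * u i + q * v i = (q ^ 2 + q + 1) * u i + q * δ i := fun i => by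
    simp only [hδ]; ring
  -- odd multiplicities
  have hoddu : ∀ i ∈ O, ¬ 2 ∣ u i → δ i = -2 * u i := by
    intro i hi hu
    obtain ⟨hpos, hdvd⟩ := hD i hi
    rw [hDeq] at hpos hdvd
    have hDodd : ¬ 2 ∣ (q ^ 2 + q + 1) * u i + q * δ i := fun h => hu (by
      obtain ⟨r, hr⟩ := hqe
      obtain ⟨s, hs⟩ := h
      exact ⟨s - r * q * u i - r * u i - r * δ i, by rw [hr] at hs ⊢; linear_combination hs⟩)
    obtain ⟨c, hc⟩ := hcop _ hDodd hdvd
    have hδb := hsmall i hi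
    have hδq : 2 * |δ i| ≤ q := by
      have h' : (2 * |δ i|) ^ 2 ≤ q ^ 2 := by rw [mul_pow, sq_abs]; nlinarith
      exact (pow_le_pow_iff_left₀ (by positivity) (by omega) two_ne_zero).1 h'
    have hu1 : u i ≠ 0 := fun e => hu (by rw [e]; exact dvd_zero 2)
    have hupos : 0 < u i := by
      by_contra hle
      nlinarith [mul_le_mul_of_nonneg_left (show u i ≤ -1 by omega) (show 0 ≤ q ^ 2 + q + 1 by positivity),
        mul_le_mul_of_nonneg_left (show δ i ≤ |δ i| from le_abs_self _) (show (0 : ℤ) ≤ q by omega),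
        mul_le_mul_of_nonneg_left hδq (show (0 : ℤ) ≤ q by omega), sq_nonneg q]
    set D := (q ^ 2 + q + 1) * u i + q * δ i with hDdef
    set P := c * u i with hP
    have hPD : D * P = (q ^ 3 + 1) * u i := by rw [hP, hc]; ring
    have hP0 : 0 < P := by
      by_contra hle
      push Not at hle
      nlinarith [mul_nonpos_iff.2 (Or.inl ⟨hpos.le, hle⟩), pow_pos (show (0 : ℤ) < q by omega) 3]
    have hDlow : u i * q ^ 2 < 2 * D := by
      rw [hDdef]
      nlinarith [mul_le_mul_of_nonneg_left (show -|δ i| ≤ δ i from neg_abs_le _) (show (0 : ℤ) ≤ q by omega),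
        mul_le_mul_of_nonneg_left hδq (show (0 : ℤ) ≤ q by omega),
        mul_le_mul_of_nonneg_left (show (1 : ℤ) ≤ u i by omega) (sq_nonneg q)]
    have hP2 : P ≤ 2 * q := by
      by_contra hgt
      push Not at hgt
      have hmul : u i * q ^ 2 * P < 2 * D * P := mul_lt_mul_of_pos_right hDlow hP0
      have h16 : (16 : ℤ) ≤ q ^ 2 := by nlinarith
      nlinarith [mul_le_mul_of_nonneg_left (show 2 * q + 1 ≤ P by omega)
        (show 0 ≤ u i * q ^ 2 by positivity), mul_le_mul_of_nonneg_left h16 hupos.le]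
    have hPmod : q ∣ P - 1 := by
      refine ⟨q ^ 2 - c * ((q + 1) * u i + δ i), ?_⟩
      rw [hP]
      rw [hDdef] at hc
      linear_combination -hc
    obtain ⟨j, hj⟩ := hPmod
    have hj0 : 0 ≤ j := by
      by_contra hlt
      nlinarith [mul_le_mul_of_nonneg_left (show j ≤ -1 by omega) (show (0 : ℤ) ≤ q by omega)]
    have hj1 : j ≤ 1 := by
      by_contra hlt
      nlinarith [mul_le_mul_of_nonneg_left (show 2 ≤ j by omega) (show (0 : ℤ) ≤ q by omega)]
    rcases (show j = 0 ∨ j = 1 by omega) with rfl | rfl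
    · exfalso
      have hP1 : P = 1 := by linarith
      rw [hP1, mul_one, hDdef] at hPD
      have : δ i = u i * (q ^ 2 - q - 1) := mul_left_cancel₀ (show q ≠ 0 by omega) (by linear_combination hPD)
      have hbig : q < δ i := by
        rw [this]
        nlinarith [mul_le_mul_of_nonneg_right (show (1 : ℤ) ≤ u i by omega) (show 0 ≤ q ^ 2 - q - 1 by nlinarith)]
      have := le_abs_self (δ i)
      omega
    · have hP1 : P = q + 1 := by linarith
      rw [hP1, hDdef] at hPD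
      exact mul_left_cancel₀ (show q * (q + 1) ≠ 0 by positivity) (by linear_combination hPD)
  have hnodd0 : ∀ i ∈ O, δ i = 0 → u i = 0 := by
    intro i hi h0
    by_contra hu
    obtain ⟨-, hdvd⟩ := hD i hi
    rw [hDeq, h0, mul_zero, add_zero] at hdvd
    have hodd : ¬ 2 ∣ q ^ 2 + q + 1 := fun h => by
      obtain ⟨r, hr⟩ := hqe
      obtain ⟨s, hs⟩ := h
      rw [hr] at hs
      have h2 : (2 : ℤ) * (s - 2 * r * r - r) = 1 := by linear_combination -hs
      have : (2 : ℤ) ∣ 1 := ⟨_, h2.symm⟩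
      norm_num at this
    obtain ⟨s, hs⟩ := hcop _ hodd ((dvd_mul_right _ _).trans hdvd)
    have h2 : (q ^ 2 + q + 1) ∣ 2 := ⟨s - (q - 1), by linear_combination hs⟩
    have := Int.le_of_dvd (by norm_num) h2
    nlinarith
  -- the two possibilities for `w`
  have hwdvd : (q + 1) ∣ w - ε := ⟨v₀ - ε, by rw [hw]; ring⟩
  have hwle : w ^ 2 ≤ q ^ 2 + q + 1 := by nlinarith
  have hwcases : w = ε ∨ w = -ε * q := by
    obtain ⟨j, hj⟩ := hwdvd
    have hw' : |w| ≤ q := by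
      by_contra hgt
      push Not at hgt
      have := sq_abs w
      nlinarith [mul_le_mul_of_nonneg_left (show q + 1 ≤ |w| by omega) (show 0 ≤ q + 1 by omega)]
    obtain ⟨ha, hb⟩ := abs_le.1 hw'
    rcases hε with e | e <;> subst e
    · rcases lt_trichotomy j 0 with hj' | hj' | hj'
      · right
        have : j = -1 := by
          by_contra hne
          nlinarith [mul_le_mul_of_nonneg_left (show j ≤ -2 by omega) hq1.le]
        rw [this] at hj; linarith
      · left; rw [hj', mul_zero] at hj; linarith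
      · exfalso; nlinarith [mul_le_mul_of_nonneg_left (show 1 ≤ j by omega) hq1.le]
    · rcases lt_trichotomy j 0 with hj' | hj' | hj'
      · exfalso; nlinarith [mul_le_mul_of_nonneg_left (show j ≤ -1 by omega) hq1.le]
      · left; rw [hj', mul_zero] at hj; linarith
      · right
        have : j = 1 := by
          by_contra hne
          nlinarith [mul_le_mul_of_nonneg_left (show 2 ≤ j by omega) hq1.le]
        rw [this] at hj; linarith
  rcases hwcases with hwe | hwe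
  · rw [hwe] at f2
    have hX1 : ∑ i ∈ O, u i * δ i = -1 :=
      mul_left_cancel₀ hq1.ne' (by linear_combination f2 - hεsq)
    have heven : (2 : ℤ) ∣ ∑ i ∈ O, u i * δ i := Finset.dvd_sum fun i hi => by
      by_cases hu : 2 ∣ u i
      · exact hu.mul_right _
      · rw [hoddu i hi hu]; exact ⟨-(u i * u i), by ring⟩
    rw [hX1] at heven
    norm_num at heven
  · rw [hwe] at f1 f2
    have hX0 : ∑ i ∈ O, u i * δ i = 0 :=
      mul_left_cancel₀ hq1.ne' (by linear_combination f2 + q * hεsq)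
    have hΔ1 : ∑ i ∈ O, δ i ^ 2 = 1 :=
      mul_left_cancel₀ hq1.ne' (by linear_combination f1 - q ^ 2 * hεsq)
    obtain ⟨i, hi, hui⟩ : ∃ i ∈ O, u i ≠ 0 := by
      by_contra hno
      push Not at hno
      have : S₂ = 0 := Finset.sum_eq_zero fun i hi => by rw [hno i hi]; ring
      omega
    have hδi : δ i ≠ 0 := fun e => hui (hnodd0 i hi e)
    have hrest : ∀ j ∈ O, j ≠ i → u j * δ j = 0 := fun j hj hji => by
      by_contra hne
      have hδj : δ j ≠ 0 := fun e => hne (by rw [e, mul_zero])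
      have h2 : ∑ k ∈ ({i, j} : Finset ι), δ k ^ 2 ≤ ∑ k ∈ O, δ k ^ 2 :=
        Finset.sum_le_sum_of_subset_of_nonneg
          (Finset.insert_subset hi (Finset.singleton_subset_iff.2 hj)) (fun k _ _ => sq_nonneg _)
      rw [Finset.sum_pair (Ne.symm hji), hΔ1] at h2
      nlinarith [Int.add_one_le_iff.2 (sq_pos_of_ne_zero hδi), Int.add_one_le_iff.2 (sq_pos_of_ne_zero hδj)]
    rw [Finset.sum_eq_single i hrest (fun h => absurd hi h)] at hX0
    exact mul_ne_zero hui hδi hX0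

end CfsgLib.SharplyEven.SuzukiArith
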