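import Cfsg.Agent.Lib.SharplyEven.FeitAux
import Cfsg.Agent.S1137
import Cfsg.Agent.S1138
import Mathlib.GroupTheory.SpecificGroups.ZGroup
import Mathlib.GroupTheory.Nilpotent

/-!
A simple Zassenhaus group whose kernel is a non-abelian `2`-group: the kernel is a Suzuki `2`-group, the
two-point stabiliser is cyclic and permutes the involutions of the kernel regularly.
-/

set_option autoImplicit false
set_option linter.unusedSectionVars false

open MulAction Cfsg
open scoped commutatorElement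

namespace CfsgLib.SharplyEven.SuzukiKernel

open CfsgLib.RealChar.Zassenhaus

variable {G Ω : Type*} [Group G] [Fintype G] [MulAction G Ω] [Fintype Ω] [IsSimpleGroup G]
variable (hZ : Cfsg.IsZassenhausGroup G Ω) {a b : Ω} (hab : a ≠ b)
variable (H : Subgroup G) (hHa : H ≤ stabilizer G a) (hHcard : Nat.card H + 1 = Fintype.card Ω)
variable (hHfix : ∀ u ∈ H, u ≠ 1 → ∀ c : Ω, u • c = c → c = a)

include hZ hab

theorem stab_two_comm (hodd : Odd (Nat.card (stabilizer G a ⊓ stabilizer G b : Subgroup G)))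
    (x y : (stabilizer G a ⊓ stabilizer G b : Subgroup G)) : x * y = y * x := by
  obtain ⟨s, hsa, hsb⟩ := exists_swapper hZ hab
  have hinv : ∀ x : (stabilizer G a ⊓ stabilizer G b : Subgroup G), s * (x : G) * s⁻¹ = (x : G)⁻¹ := fun x =>
    swap_inverts hZ hab hodd hsa hsb x.2.1 x.2.2
  refine Subtype.ext ?_
  have h := hinv (x * y)
  simp only [Subgroup.coe_mul] at h
  have h2 : (x : G)⁻¹ * (y : G)⁻¹ = ((x : G) * (y : G))⁻¹ := by
    rw [← h, ← hinv x, ← hinv y]; group
  have h3 := congrArg (·⁻¹) h2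
  simp only [mul_inv_rev, inv_inv] at h3
  exact h3.symm

include hHa hHcard hHfix in
theorem kernel_data (h2 : IsPGroup 2 H) (hna : ∃ u v : H, u * v ≠ v * u) :
    Odd (Nat.card (stabilizer G a ⊓ stabilizer G b : Subgroup G)) ∧
      IsCyclic (stabilizer G a ⊓ stabilizer G b : Subgroup G) ∧
      Cfsg.IsSuzukiTwoGroup H ∧
      (∀ x y : H, ⁅x, y⁆ ∈ Subgroup.center H) ∧
      (∀ z ∈ Subgroup.center H, z ≠ 1 → ∀ w ∈ Subgroup.center H, w ≠ 1 →
        ∃ g ∈ (stabilizer G a ⊓ stabilizer G b : Subgroup G), g * (z : G) * g⁻¹ = (w : G)) ∧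
      ∃ n : ℕ, 2 ≤ n ∧ Nat.card (stabilizer G a ⊓ stabilizer G b : Subgroup G) + 1 = 2 ^ n ∧
        Nat.card (Subgroup.center H) = 2 ^ n ∧
        (Nat.card H = (2 ^ n) ^ 2 ∨ Nat.card H = (2 ^ n) ^ 3) := by
  classical
  haveI : Fact (Nat.Prime 2) := ⟨Nat.prime_two⟩
  set E : Subgroup G := stabilizer G a ⊓ stabilizer G b with hE
  obtain ⟨u₀, v₀, huv⟩ := hna
  have hne : H ≠ ⊥ := fun e => huv (by
    have hu : (u₀ : G) = 1 := (Subgroup.eq_bot_iff_forall H).1 e _ u₀.2
    have hv : (v₀ : G) = 1 := (Subgroup.eq_bot_iff_forall H).1 e _ v₀.2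
    exact Subtype.ext (by simp [hu, hv]))
  obtain ⟨j, hj⟩ := IsPGroup.iff_card.1 h2
  have hjne : j ≠ 0 := fun e => hne (Subgroup.card_eq_one.1 (by rw [hj, e, pow_zero]))
  have hHev : Even (Nat.card H) := hj ▸ even_two.pow_of_ne_zero hjne
  have hodd : Odd (Nat.card E) := by
    have hd := card_E_dvd hZ hab
    refine Odd.of_dvd_nat ?_ hd
    obtain ⟨k, hk⟩ := hHev
    have hpos : 0 < Nat.card H := Nat.card_pos
    exact ⟨k - 1, by omega⟩
  have hnodd : Odd (Fintype.card Ω) := hHcard ▸ hHev.add_one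
  -- involutions
  have hinvH : ∀ x : G, orderOf x = 2 → x • a = a → x ∈ H := fun x hx hxa =>
    (mem_kernel_iff hZ a H hHa hHcard hHfix x).2 (Or.inr ⟨hxa, fun c hc =>
      involution_fix_one hZ hab hodd hx hc hxa⟩)
  let Inv := {x : H // orderOf x = 2}
  have hInv : Nat.card Inv = Nat.card E := by
    refine Eq.trans ?_ (card_involutions_fixing hZ hab hodd hnodd a)
    exact Nat.card_congr
      { toFun := fun x => ⟨⟨(x.1 : G), (Subgroup.orderOf_coe x.1).trans x.2⟩, hHa x.1.2⟩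
        invFun := fun x => ⟨⟨x.1.1, hinvH _ x.1.2 x.2⟩, by rw [← Subgroup.orderOf_coe]; exact x.1.2⟩
        left_inv := fun _ => rfl
        right_inv := fun _ => rfl }
  have h3E : 3 ≤ Nat.card E := by
    obtain ⟨x, hx1, hx⟩ := exists_ne_one_fix hZ hab
    have hne1 : Nat.card E ≠ 1 := fun h1 => hx1 (by
      have hx' : x ∈ E := hx
      rw [Subgroup.eq_bot_of_card_eq E h1] at hx'
      exact hx')
    obtain ⟨i, hi⟩ := hodd
    omega
  -- the action of `E`
  have hmemE : ∀ g : E, ∀ u : H, (g : G) * u * (g : G)⁻¹ ∈ H := fun g u =>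
    kernel_conj_mem hZ a H hHa hHcard hHfix g.2.1 u.2
  let autE : E → MulAut H := fun g =>
    { toFun := fun u => ⟨(g : G) * u * (g : G)⁻¹, hmemE g u⟩
      invFun := fun u => ⟨(g : G)⁻¹ * u * (g : G), by simpa using hmemE g⁻¹ u⟩
      left_inv := fun u => Subtype.ext (by simp [mul_assoc])
      right_inv := fun u => Subtype.ext (by simp [mul_assoc])
      map_mul' := fun u v => Subtype.ext (by simp [mul_assoc]) }
  let φ : E →* MulAut H := MonoidHom.mk' autE fun g g' =>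
    MulEquiv.ext fun u => Subtype.ext (by simp [autE, mul_assoc])
  have hfpf : ∀ g g' : E, ∀ u : H, u ≠ 1 → φ g u = φ g' u → g = g' := by
    intro g g' u hu he
    have he' : (g : G) * u * (g : G)⁻¹ = (g' : G) * u * (g' : G)⁻¹ := congrArg Subtype.val he
    have hmem : (g' : G)⁻¹ * g ∈ Subgroup.centralizer ({(u : G)} : Set G) := by
      rw [Subgroup.mem_centralizer_singleton_iff]
      calc (g' : G)⁻¹ * g * u = (g' : G)⁻¹ * ((g : G) * u * (g : G)⁻¹) * g := by group
        _ = u * ((g' : G)⁻¹ * g) := by rw [he']; group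
    have hmemH := Feit.centralizer_le hZ H hHa hHcard hHfix u.2 (fun e => hu (Subtype.ext e)) hmem
    by_contra hgg
    have hw : ((g' : G)⁻¹ * g) • b = b := (mul_mem (inv_mem g'.2) g.2 : ((g' : G)⁻¹ * g) ∈ E).2
    exact hab (hHfix _ hmemH (fun e => hgg (Subtype.ext (inv_mul_eq_one.1 e).symm)) b hw).symm
  haveI : IsMulCommutative E := ⟨⟨stab_two_comm hZ hab hodd⟩⟩
  letI : CommGroup E := { (inferInstance : Group E) with mul_comm := stab_two_comm hZ hab hodd }
  haveI : IsZGroup E := isZGroup_E hZ hab hodd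
  have hcyc : IsCyclic E := inferInstance
  have hord : ∀ x : H, (x ≠ 1 ∧ x * x = 1) ↔ orderOf x = 2 := fun x =>
    ⟨fun h => orderOf_eq_prime (by rw [pow_two]; exact h.2) h.1,
      fun h => ⟨fun e => by simp [e] at h, by rw [← pow_two, ← h, pow_orderOf_eq_one]⟩⟩
  have hS : Cfsg.IsSuzukiTwoGroup H := by
    refine ⟨inferInstance, h2, ⟨u₀, v₀, huv⟩, ?_, φ.range, ?_, ?_⟩
    · haveI : Finite Inv := inferInstance
      haveI : Nontrivial Inv := Finite.one_lt_card_iff_nontrivial.1 (by omega)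
      obtain ⟨x, y, hxy⟩ := exists_pair_ne Inv
      exact ⟨x.1, y.1, fun e => hxy (Subtype.ext e), ((hord x.1).2 x.2).1, ((hord x.1).2 x.2).2,
        ((hord y.1).2 y.2).1, ((hord y.1).2 y.2).2⟩
    · haveI := hcyc
      exact isCyclic_of_surjective φ.rangeRestrict φ.rangeRestrict_surjective
    intro x y hx1 hx2 hy1 hy2
    have hmap : ∀ g : E, orderOf (φ g x) = 2 := fun g =>
      ((φ g).orderOf_eq x).trans ((hord x).1 ⟨hx1, hx2⟩)
    let f : E → Inv := fun g => ⟨φ g x, hmap g⟩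
    have hfinj : Function.Injective f := fun g g' e => hfpf g g' x hx1 (congrArg Subtype.val e)
    have hbij : Function.Bijective f := (Nat.bijective_iff_injective_and_card f).2 ⟨hfinj, hInv.symm⟩
    obtain ⟨g, hg⟩ := hbij.2 ⟨y, (hord y).1 ⟨hy1, hy2⟩⟩
    refine ⟨⟨φ g, g, rfl⟩, congrArg Subtype.val hg, ?_⟩
    rintro ⟨k, g', rfl⟩ hk
    refine Subtype.ext (congrArg φ (hfinj ?_))
    exact Subtype.ext ((show φ g' x = y from hk).trans (congrArg Subtype.val hg).symm)
  obtain ⟨hsq, hcm, hcard, -⟩ := Cfsg.Agent.S1138.result hS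
  obtain ⟨hcen, -⟩ := Cfsg.Agent.S1137.result hS
  have hZcard : Nat.card (Subgroup.center H) = Nat.card E + 1 := by
    have h1 : Nat.card Inv = Nat.card {z : Subgroup.center H // z ≠ 1} := Nat.card_congr
      { toFun := fun x => ⟨⟨x.1, ((hcen x.1).1 ((hord x.1).2 x.2)).1⟩,
          fun e => ((hord x.1).2 x.2).1 (congrArg Subtype.val e)⟩
        invFun := fun z => ⟨z.1.1, (hord _).1 ((hcen _).2 ⟨z.1.2, fun e => z.2 (Subtype.ext e)⟩)⟩
        left_inv := fun _ => rfl
        right_inv := fun _ => rfl }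
    rw [← hInv, h1, Nat.card_eq_fintype_card, Nat.card_eq_fintype_card, Fintype.card_subtype_compl,
      Fintype.card_subtype_eq]
    have : 0 < Fintype.card (Subgroup.center H) := Fintype.card_pos
    omega
  obtain ⟨n, hn⟩ := IsPGroup.iff_card.1 (h2.to_subgroup (Subgroup.center H))
  refine ⟨hodd, hcyc, hS, fun x y => ?_, fun z hz hz1 w hw hw1 => ?_, n, ?_, by rw [← hn, hZcard], hn, ?_⟩
  · have h := hcm x⁻¹ y⁻¹
    simpa [commutatorElement_def] using h
  · obtain ⟨hz1', hz2⟩ := (hcen z).2 ⟨hz, hz1⟩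
    obtain ⟨hw1', hw2⟩ := (hcen w).2 ⟨hw, hw1⟩
    obtain ⟨-, -, -, -, K, -, hK⟩ := hS
    let f : E → Inv := fun g => ⟨φ g z, ((φ g).orderOf_eq z).trans ((hord z).1 ⟨hz1', hz2⟩)⟩
    have hfinj : Function.Injective f := fun g g' e => hfpf g g' z hz1 (congrArg Subtype.val e)
    have hbij : Function.Bijective f := (Nat.bijective_iff_injective_and_card f).2 ⟨hfinj, hInv.symm⟩
    obtain ⟨g, hg⟩ := hbij.2 ⟨w, (hord w).1 ⟨hw1', hw2⟩⟩
    exact ⟨g, g.2, congrArg (fun x : Inv => ((x.1 : H) : G)) hg⟩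
  · by_contra hcon
    have h4 : (2 : ℕ) ^ n ≤ 2 ^ 1 := Nat.pow_le_pow_right (by norm_num) (by omega)
    omega
  · rwa [hn] at hcard

end CfsgLib.SharplyEven.SuzukiKernel
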