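import Cfsg.Agent.Lib.SharplyEven.SuzukiOthers
import Cfsg.Agent.Lib.SharplyEven.SuzukiArith
import Cfsg.Agent.Lib.Frobenius.Exceptional

/-!
The order of a non-abelian `2`-kernel of a simple Zassenhaus group is `q²` with `q` an odd power of two.
-/

set_option autoImplicit false
set_option linter.unusedSectionVars false

open MulAction Cfsg CfsgLib.CharTheory CfsgLib.CyclicTI
open scoped ComplexConjugate

namespace CfsgLib.SharplyEven.SuzukiOrder

open CfsgLib.RealChar.Zassenhaus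

variable {G Ω : Type*} [Group G] [Fintype G] [MulAction G Ω] [Fintype Ω] [IsSimpleGroup G]

/-- The exceptional characters of a family of characters of `G_a` of one degree. -/
theorem exists_family (hZ : Cfsg.IsZassenhausGroup G Ω) {a : Ω} (H : Subgroup G)
    (hHa : H ≤ stabilizer G a) (hHcard : Nat.card H + 1 = Fintype.card Ω)
    (hHfix : ∀ u ∈ H, u ≠ 1 → ∀ c : Ω, u • c = c → c = a) [Fintype (stabilizer G a)]
    (S : Finset (stabilizer G a → ℂ))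
    (hS : ∀ χ ∈ S, χ ∈ Frob.charSet (H.subgroupOf (stabilizer G a)))
    (hdeg : ∀ χ ∈ S, ∀ ξ ∈ S, Frob.deg χ = Frob.deg ξ) (h2 : 2 ≤ S.card) :
    ∃ (ε : ℤ) (θ : {χ // χ ∈ S} → IrrCharacter G), (ε = 1 ∨ ε = -1) ∧ Function.Injective θ ∧
      (∀ φ : IrrCharacter G, ∀ i j : {χ // χ ∈ S},
        classInner (fun y : stabilizer G a => (φ : G → ℂ) y) i.1
          - classInner (fun y : stabilizer G a => (φ : G → ℂ) y) j.1
        = (ε : ℂ) * ((if φ = θ i then (1 : ℂ) else 0) - (if φ = θ j then (1 : ℂ) else 0))) ∧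
      (∀ i, ¬ ∃ c : ℂ, ∀ x : stabilizer G a, (x : G) ∈ H → x ≠ 1 → (θ i : G → ℂ) x = c) ∧
      (∀ i j, (θ i : G → ℂ) 1 = (θ j : G → ℂ) 1 ∧
        ∀ x : stabilizer G a, (x : G) ∈ H → (∀ χ ∈ S, ∀ ξ ∈ S, χ x = ξ x) →
          (θ i : G → ℂ) x = (θ j : G → ℂ) x) := by
  classical
  have hn := Feit.subgroupOf_normal hZ H hHa hHcard hHfix
  have hKC : Frob.KernelCond (H.subgroupOf (stabilizer G a)) := Feit.kernelCond hZ H hHa hHcard hHfix
  have hTI : ∀ x : G, x ∉ stabilizer G a → ∀ s ∈ (H : Set G), x⁻¹ * s * x ∈ (H : Set G) → s = 1 :=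
    fun x hx s hs hsx => (Cfsg.Agent.S0878.result hZ a H hHa hHcard hHfix).1 x⁻¹
      (fun h => hx (by simpa using inv_mem h)) s hs (by simpa using hsx)
  obtain ⟨χ₀, hχ₀⟩ := Finset.card_pos.1 (show 0 < S.card by omega)
  haveI : Nonempty {χ // χ ∈ S} := ⟨⟨χ₀, hχ₀⟩⟩
  have hvan : ∀ i j : {χ // χ ∈ S}, ∀ x : stabilizer G a, (x : G) ∉ (H : Set G) → i.1 x = j.1 x :=
    fun i j x hx => by
      rw [Frob.eq_zero_off hKC (hS _ i.2) (fun h => hx h), Frob.eq_zero_off hKC (hS _ j.2) (fun h => hx h)]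
  have hd1 : ∀ i j : {χ // χ ∈ S}, i.1 1 = j.1 1 := fun i j => by
    rw [Frob.apply_one (hS _ i.2).1, Frob.apply_one (hS _ j.2).1, hdeg _ i.2 _ j.2]
  obtain ⟨εc, hεc, θ, hθirr, hθinj, hθeq⟩ := CfsgLib.Frobenius.exists_exceptional (stabilizer G a)
    (H : Set G) hTI (fun i : {χ // χ ∈ S} => i.1) (fun i => (hS _ i.2).1) Subtype.val_injective hvan hd1
  obtain ⟨ε, hε, hεeq⟩ : ∃ ε : ℤ, (ε = 1 ∨ ε = -1) ∧ εc = (ε : ℂ) := by
    rcases hεc with rfl | rfl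
    · exact ⟨1, Or.inl rfl, by norm_num⟩
    · exact ⟨-1, Or.inr rfl, by norm_num⟩
  subst hεeq
  let θ' : {χ // χ ∈ S} → IrrCharacter G := fun i => ⟨θ i, hθirr i⟩
  have hθ'inj : Function.Injective θ' := fun i j h => hθinj (congrArg Subtype.val h)
  have hpair : ∀ φ : IrrCharacter G, ∀ i j : {χ // χ ∈ S},
      classInner (fun y : stabilizer G a => (φ : G → ℂ) y) i.1
        - classInner (fun y : stabilizer G a => (φ : G → ℂ) y) j.1
      = (ε : ℂ) * ((if φ = θ' i then (1 : ℂ) else 0) - (if φ = θ' j then (1 : ℂ) else 0)) := by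
    intro φ i j
    have hφ := IsIrrCharacter.isClassFunction φ.2
    have hirr : ∀ ψ : IrrCharacter G, classInner (φ : G → ℂ) (ψ : G → ℂ) = if φ = ψ then 1 else 0 :=
      fun ψ => classInner_irrCharacter φ ψ
    have h := congrArg (classInner (φ : G → ℂ)) (hθeq i j)
    rw [classInner_sub_right, CfsgLib.Frobenius.classInner_indFun_right _ _ _ hφ,
      CfsgLib.Frobenius.classInner_indFun_right _ _ _ hφ, classInner_smul_right, classInner_sub_right,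
      map_intCast] at h
    rw [h, show θ i = (θ' i : G → ℂ) from rfl, show θ j = (θ' j : G → ℂ) from rfl, hirr, hirr]
  refine ⟨ε, θ', hε, hθ'inj, hpair, fun i ⟨c, hc⟩ => ?_, fun i j => ⟨?_, fun x hx hxeq => ?_⟩⟩
  · obtain ⟨j, hj⟩ : ∃ j : {χ // χ ∈ S}, j ≠ i := by
      haveI : Nontrivial {χ // χ ∈ S} := Finite.one_lt_card_iff_nontrivial.1 (by
        rw [Nat.card_eq_fintype_card, Fintype.card_coe]; omega)
      exact exists_ne i
    obtain ⟨t, ht⟩ := Feit.exists_const_coeff hKC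
      (Φ := fun y : stabilizer G a => (θ' i : G → ℂ) y) (c := c) fun x hx hx1 => hc x hx hx1
    have h := hpair (θ' i) i j
    rw [ht _ (hS _ i.2), ht _ (hS _ j.2), hdeg _ i.2 _ j.2, sub_self, if_pos rfl,
      if_neg (fun e => hj (hθ'inj e).symm), sub_zero, mul_one] at h
    rcases hε with rfl | rfl <;> norm_num at h
  · have h := congrFun (hθeq i j) 1
    rw [Pi.sub_apply, CfsgLib.Frobenius.indFun_one, CfsgLib.Frobenius.indFun_one, hd1 i j, sub_self] at h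
    rcases hε with rfl | rfl <;> simp at h
    · exact sub_eq_zero.1 h.symm
    · exact (sub_eq_zero.1 h.symm).symm
  · have h := congrFun (hθeq i j) (x : G)
    rw [← CfsgLib.Frobenius.indFun_sub, CfsgLib.Frobenius.indFun_coe_of_ti (stabilizer G a) (H : Set G) hTI _
      (fun g y => by
        simp [IsIrrCharacter.isClassFunction (hS _ i.2).1 g y, IsIrrCharacter.isClassFunction (hS _ j.2).1 g y])
      (fun y hy => by simp [hvan i j y hy]) (by simp [hd1 i j]) x hx] at h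
    simp only [Pi.sub_apply, hxeq _ i.2 _ j.2, sub_self, Pi.smul_apply, smul_eq_mul] at h
    rcases hε with rfl | rfl <;> simp at h
    · exact sub_eq_zero.1 h.symm
    · exact (sub_eq_zero.1 h.symm).symm

theorem main (hZ : Cfsg.IsZassenhausGroup G Ω) {a b : Ω} (hab : a ≠ b) (H : Subgroup G)
    (hHa : H ≤ stabilizer G a) (hHcard : Nat.card H + 1 = Fintype.card Ω)
    (hHfix : ∀ u ∈ H, u ≠ 1 → ∀ c : Ω, u • c = c → c = a) (h2 : IsPGroup 2 H)
    (hna : ∃ u v : H, u * v ≠ v * u) :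
    ∃ n : ℕ, Odd n ∧ 1 < n ∧ Nat.card H = (2 ^ n) ^ 2 ∧
      Nat.card (stabilizer G a ⊓ stabilizer G b : Subgroup G) = 2 ^ n - 1 ∧
      IsCyclic (stabilizer G a ⊓ stabilizer G b : Subgroup G) ∧ Cfsg.IsSuzukiTwoGroup H ∧
      Nat.card (Subgroup.center H) = 2 ^ n := by
  classical
  haveI := Fintype.ofFinite (stabilizer G a)
  haveI := Fintype.ofFinite (IrrCharacter (stabilizer G a))
  obtain ⟨hodd, hcyc, hS, hcomm, htrans, n, hn2, heq, hcard, hHq⟩ :=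
    SuzukiKernel.kernel_data hZ hab H hHa hHcard hHfix h2 hna
  generalize hedef : Nat.card (stabilizer G a ⊓ stabilizer G b : Subgroup G) = e at hodd heq ⊢
  have hq4 : 4 ≤ 2 ^ n :=
    calc 4 = 2 ^ 2 := rfl
      _ ≤ 2 ^ n := Nat.pow_le_pow_right (by norm_num) hn2
  obtain ⟨T₀, T₁, k, hT, hdisj, h₀, h₁, hc₀, hc₁, hk2, ⟨s, hs⟩, hsq2⟩ :=
    SuzukiT.exists_T hZ hab H hHa hHcard hHfix hna hcomm htrans h2 (2 ^ n) hcard
      (by rw [hedef]; exact heq) (by omega)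
  rw [show 2 ^ n - 1 = e by omega] at h₀ h₁ hc₀
  have hcen : ∃ x : stabilizer G a, x ∈ SuzukiT.centreIn a H ∧ x ≠ 1 := by
    haveI : Nontrivial (Subgroup.center H) := Finite.one_lt_card_iff_nontrivial.1 (by omega)
    obtain ⟨z, hz⟩ := exists_ne (1 : Subgroup.center H)
    exact ⟨⟨((z : H) : G), hHa (z : H).2⟩, SuzukiT.mem_centreIn.2 ⟨(z : H).2, z.2⟩,
      fun e' => hz (Subtype.ext (Subtype.ext (congrArg (fun y : stabilizer G a => (y : G)) e')))⟩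
  have hTm : ∀ χ, χ ∈ T₀ ∪ T₁ ↔ χ ∈ Frob.charSet (H.subgroupOf (stabilizer G a)) := fun χ => by
    rw [← hT]; rfl
  have hh : Fintype.card Ω = Nat.card H + 1 := hHcard.symm
  obtain ⟨O, A, m, x₀, hm, hx₀H, hx₀1, hx₀cen, hconst, hcount, hA, hval, s11, s1z, szz⟩ :=
    exists_others hZ hab (Nat.card H) e (2 ^ n) k hh hedef hodd heq H hHa hHcard hHfix T₀ T₁ hT hdisj h₀ h₁ hcen
  generalize hhdef : Nat.card H = h at hHcard hHq hc₀ hc₁ hsq2 hh hcount hval s11 s1z szz ⊢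
  have hqz : ((2 ^ n : ℕ) : ℤ) = (e : ℤ) + 1 := by rw [← heq]; push_cast; rfl
  have hmz : 2 * (m : ℤ) + 1 = (e : ℤ) := by exact_mod_cast hm
  have he0 : (e : ℤ) ≠ 0 := by
    intro e'
    have : e = 0 := by exact_mod_cast e'
    omega
  set SL : IrrCharacter G → ℤ := fun φ => ((∑ χ ∈ T₀, A φ χ : ℕ) : ℤ) with hSL
  set SW : IrrCharacter G → ℤ := fun φ => ((k * ∑ χ ∈ T₁, A φ χ : ℕ) : ℤ) with hSW
  change ∑ φ ∈ O, ((e : ℤ) * (SL φ + SW φ)) ^ 2 = _ at s11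
  change ∑ φ ∈ O, ((e : ℤ) * (SL φ + SW φ)) * ((e : ℤ) * SL φ - SW φ) = _ at s1z
  change ∑ φ ∈ O, ((e : ℤ) * SL φ - SW φ) ^ 2 = _ at szz
  have k11 : (e : ℤ) ^ 2 * (∑ φ ∈ O, SL φ ^ 2) + 2 * (e : ℤ) ^ 2 * (∑ φ ∈ O, SL φ * SW φ)
      + (e : ℤ) ^ 2 * (∑ φ ∈ O, SW φ ^ 2) = ((h : ℤ) + 1) * h * e - 1 - (h : ℤ) ^ 2 - m * ((h : ℤ) + 1) ^ 2 := by
    rw [← s11, Finset.mul_sum, Finset.mul_sum, Finset.mul_sum, ← Finset.sum_add_distrib, ← Finset.sum_add_distrib]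
    exact Finset.sum_congr rfl fun φ _ => by ring
  have k1z : (e : ℤ) ^ 2 * (∑ φ ∈ O, SL φ ^ 2) + (e : ℤ) * ((e : ℤ) - 1) * (∑ φ ∈ O, SL φ * SW φ)
      - (e : ℤ) * (∑ φ ∈ O, SW φ ^ 2) = -1 - m * ((h : ℤ) + 1) := by
    rw [← s1z, Finset.mul_sum, Finset.mul_sum, Finset.mul_sum, ← Finset.sum_add_distrib, ← Finset.sum_sub_distrib]
    exact Finset.sum_congr rfl fun φ _ => by ring
  have kzz : (e : ℤ) ^ 2 * (∑ φ ∈ O, SL φ ^ 2) - 2 * (e : ℤ) * (∑ φ ∈ O, SL φ * SW φ)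
      + (∑ φ ∈ O, SW φ ^ 2) = (h : ℤ) - 1 - m := by
    rw [← szz, Finset.mul_sum, Finset.mul_sum, ← Finset.sum_sub_distrib, ← Finset.sum_add_distrib]
    exact Finset.sum_congr rfl fun φ _ => by ring
  have hq0 : (e : ℤ) + 1 ≠ 0 := by rw [← hqz]; exact_mod_cast (by omega : (2 ^ n : ℕ) ≠ 0)
  rcases hHq with hsq | hcube
  · -- `|U| = q²`
    have hz : (h : ℤ) = ((e : ℤ) + 1) ^ 2 := by rw [hsq, ← hqz]; push_cast; rfl
    have hT₀1 : T₀.card = 1 := by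
      rw [hsq, sq] at hc₀
      have h' := Nat.eq_of_mul_eq_mul_left (by omega) hc₀
      have h'' : T₀.card * e = 1 * e := by omega
      exact Nat.eq_of_mul_eq_mul_right (by omega) h''
    have hc₁' : k ^ 2 * T₁.card = 2 ^ n := by
      rw [hsq, sq (2 ^ n)] at hc₁
      exact Nat.eq_of_mul_eq_mul_left (by omega) hc₁
    obtain ⟨r, -, hr⟩ := (Nat.dvd_prime_pow Nat.prime_two).1 (Dvd.intro_left _ hc₁' : T₁.card ∣ 2 ^ n)
    have hns : 2 * s + r = n := by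
      rw [hs, hr, ← pow_mul, ← pow_add] at hc₁'
      have := Nat.pow_right_injective (le_refl 2) hc₁'
      omega
    have hr1 : 1 ≤ r := by
      by_contra hcon
      have : r = 0 := by omega
      have := hsq2 hsq
      rw [hr, ‹r = 0›, pow_zero] at this
      omega
    have hs1 : 1 ≤ s := by
      by_contra hcon
      have : s = 0 := by omega
      rw [this, pow_zero] at hs
      omega
    rcases (show r = 1 ∨ 2 ≤ r by omega) with hr' | hr2
    · exact ⟨n, ⟨s, by omega⟩, by omega, hsq, by omega, hcyc, hS, hcard⟩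
    exfalso
    have hT₁2 : 2 ≤ T₁.card := hsq2 hsq
    obtain ⟨ε, θ, hε, hθinj, hpair, hθnc, -⟩ := exists_family hZ H hHa (by omega) hHfix T₁
      (fun χ hχ => (hTm χ).1 (Finset.mem_union_right _ hχ))
      (fun χ hχ ξ hξ => by rw [(h₁ χ hχ).1, (h₁ ξ hξ).1]) hT₁2
    have hθO : ∀ i, θ i ∈ O := fun i => by
      by_contra hno
      exact hθnc i (hconst _ hno)
    set O' := O \ Finset.univ.image θ with hO'
    have hO'sub : O' ⊆ O := Finset.sdiff_subset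
    have hO'card : O'.card + T₁.card = O.card := by
      have := Finset.card_sdiff_add_card_eq_card (s := Finset.univ.image θ) (t := O) fun φ hφ => by
        obtain ⟨i, -, rfl⟩ := Finset.mem_image.1 hφ; exact hθO i
      rwa [Finset.card_image_of_injective _ hθinj, Finset.card_univ, Fintype.card_coe, ← hO'] at this
    obtain ⟨χ₁, hχ₁⟩ := Finset.card_pos.1 (show 0 < T₁.card by omega)
    have hall : ∀ φ ∈ O', ∀ χ ∈ T₁, A φ χ = A φ χ₁ := by
      intro φ hφ χ hχ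
      obtain ⟨hφO, hφθ⟩ := Finset.mem_sdiff.1 hφ
      have hne : ∀ i, φ ≠ θ i := fun i e' => hφθ (Finset.mem_image.2 ⟨i, Finset.mem_univ _, e'.symm⟩)
      have h' := hpair φ ⟨χ, hχ⟩ ⟨χ₁, hχ₁⟩
      rw [hA φ hφO χ (Finset.mem_union_right _ hχ), hA φ hφO χ₁ (Finset.mem_union_right _ hχ₁),
        if_neg (hne _), if_neg (hne _), sub_self, mul_zero, sub_eq_zero, Nat.cast_inj] at h'
      exact h'
    have hW : ∀ φ ∈ O', SW φ = ((k * T₁.card : ℕ) : ℤ) * (A φ χ₁ : ℤ) := fun φ hφ => by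
      simp only [hSW]
      rw [Finset.sum_congr rfl (hall φ hφ), Finset.sum_const, smul_eq_mul]
      push_cast; ring
    have hM : k * T₁.card = 2 ^ (s + r) := by rw [hs, hr, ← pow_add]
    have e1 : 2 * ∑ φ ∈ O, SL φ ^ 2 = (e : ℤ) + 1 := by
      rw [hz] at k11 k1z kzz
      refine mul_left_cancel₀ (mul_ne_zero (pow_ne_zero 2 he0) (pow_ne_zero 2 hq0)) ?_
      linear_combination 2 * k11 + 4 * (e : ℤ) * k1z + 2 * (e : ℤ) ^ 2 * kzz
        - (((e : ℤ) + 1) ^ 2 + 1 + e) ^ 2 * hmz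
    have e2 : 2 * ∑ φ ∈ O, SL φ * SW φ = ((e : ℤ) + 1) * ((e : ℤ) - 1) := by
      rw [hz] at k11 k1z kzz
      refine mul_left_cancel₀ (mul_ne_zero he0 (pow_ne_zero 2 hq0)) ?_
      linear_combination 2 * k11 + 2 * ((e : ℤ) - 1) * k1z - 2 * (e : ℤ) * kzz
        - (((e : ℤ) + 1) ^ 2 + 1 + e) * ((e : ℤ) + 1) ^ 2 * hmz
    have e3 : 2 * ∑ φ ∈ O, SW φ ^ 2 = ((e : ℤ) + 1) * (((e : ℤ) + 1) ^ 2 - 2 * ((e : ℤ) + 1) + 2) := by
      rw [hz] at k11 k1z kzz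
      refine mul_left_cancel₀ (pow_ne_zero 2 hq0) ?_
      linear_combination 2 * k11 - 4 * k1z + 2 * kzz - ((e : ℤ) + 1) ^ 4 * hmz
    refine SuzukiArith.square_case O' SL (fun φ => (A φ χ₁ : ℤ)) (2 ^ n) (k * T₁.card) ?_ ?_ ?_ ?_ ?_ ?_ ?_
      (by omega)
    · rw [hM, ← pow_mul, show (4 : ℕ) = 2 ^ 2 from rfl, ← pow_add]
      exact Nat.pow_le_pow_right (by norm_num) (by omega)
    · rw [hM]
      rcases (show 4 ≤ s + r ∨ s + r = 3 by omega) with h4 | h3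
      · left
        calc 16 = 2 ^ 4 := rfl
          _ ≤ _ := Nat.pow_le_pow_right (by norm_num) h4
      · right
        refine ⟨by rw [h3]; rfl, ?_⟩
        calc 2 ^ n ≤ 2 ^ 4 := Nat.pow_le_pow_right (by norm_num) (by omega)
          _ = 16 := rfl
    · rw [Int.natCast_dvd_natCast, hM]
      exact pow_dvd_pow 2 (by omega)
    · intro φ hφ
      obtain ⟨-, -, hpos, hdvd⟩ := hval φ (hO'sub hφ)
      rw [← hW φ hφ]
      have hposz : 0 < SL φ + SW φ := by simp only [hSL, hSW]; exact_mod_cast hpos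
      refine ⟨hposz.ne', fun hu he' => ?_⟩
      have hD : SL φ + SW φ ∣ (((h + 1) * h : ℕ) : ℤ) := by
        simp only [hSL, hSW]
        exact_mod_cast hdvd
      rw [he'] at hD
      have hD' : ((e : ℤ) + 1) + 1 ∣ (((e : ℤ) + 1) ^ 2 + 1) * ((e : ℤ) + 1) ^ 2 := by
        rw [Nat.cast_mul, Nat.cast_add, Nat.cast_one, hz, hqz] at hD
        exact (dvd_mul_right _ _).trans hD
      have hcop : IsCoprime (((e : ℤ) + 1) + 1) (((e : ℤ) + 1) ^ 2) := IsCoprime.pow_right ⟨1, -1, by ring⟩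
      obtain ⟨c, hc⟩ := hcop.dvd_of_dvd_mul_right hD'
      have h2' : ((e : ℤ) + 1) + 1 ∣ 2 := ⟨c - (e : ℤ), by linear_combination hc⟩
      have := Int.le_of_dvd (by norm_num) h2'
      omega
    · rw [show (((2 ^ n : ℕ) : ℤ)) = (e : ℤ) + 1 from hqz, ← e1]
      have := Finset.sum_le_sum_of_subset_of_nonneg (f := fun φ => SL φ ^ 2) hO'sub
        (fun φ _ _ => sq_nonneg _)
      linarith
    · rw [hqz, Finset.sum_congr rfl fun φ hφ => by rw [← hW φ hφ]]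
      refine (Finset.sum_le_sum_of_subset_of_nonneg hO'sub (fun φ _ _ => sq_nonneg _)).trans (le_of_eq ?_)
      rw [Finset.sum_congr rfl (g := fun φ => SW φ ^ 2 - 2 * ((e : ℤ) - 1) * (SL φ * SW φ)
        + ((e : ℤ) - 1) ^ 2 * SL φ ^ 2) (fun φ _ => by ring), Finset.sum_add_distrib, Finset.sum_sub_distrib,
        ← Finset.mul_sum, ← Finset.mul_sum]
      refine mul_left_cancel₀ (two_ne_zero (α := ℤ)) ?_
      linear_combination e3 - 2 * ((e : ℤ) - 1) * e2 + ((e : ℤ) - 1) ^ 2 * e1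
    · omega
  -- `|U| = q³` is impossible
  exfalso
  have hz : (h : ℤ) = ((e : ℤ) + 1) ^ 3 := by rw [hcube, ← hqz]; push_cast; rfl
  have hT₀q : T₀.card = 2 ^ n + 1 := by
    rw [hcube, pow_succ' (2 ^ n) 2] at hc₀
    have h' := Nat.eq_of_mul_eq_mul_left (by omega) hc₀
    refine Nat.eq_of_mul_eq_mul_right (show 0 < e by omega) ?_
    rw [← heq] at h' ⊢
    nlinarith
  have hc₁' : k ^ 2 * T₁.card = (2 ^ n) ^ 2 := by
    rw [hcube, pow_succ' (2 ^ n) 2] at hc₁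
    exact Nat.eq_of_mul_eq_mul_left (by omega) hc₁
  have hT₁0 : T₁.card ≠ 0 := fun e' => by
    rw [e', mul_zero] at hc₁'
    exact (pow_ne_zero 2 (by omega : (2 ^ n : ℕ) ≠ 0)) hc₁'.symm
  rcases (show T₁.card = 1 ∨ 2 ≤ T₁.card by omega) with hone | htwo
  swap
  · -- coherence
    have hKC : Frob.KernelCond (H.subgroupOf (stabilizer G a)) :=
      Feit.kernelCond hZ H hHa (by omega) hHfix
    haveI := Feit.subgroupOf_normal hZ H hHa (by omega) hHfix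
    obtain ⟨hτ, hτ1⟩ := TIInd.isometry H (stabilizer G a) (Feit.isTISubset hZ H hHa (by omega) hHfix)
      (Cfsg.Agent.S0878.result hZ a H hHa (by omega) hHfix).2.le
      (S := Frob.charSet (H.subgroupOf (stabilizer G a))) (Frob.charSet_eq hKC).le
    have hsub : (↑T₀ : Set (stabilizer G a → ℂ)) ⊆ Frob.charSet (H.subgroupOf (stabilizer G a)) :=
      fun χ hχ => (hTm χ).1 (Finset.mem_union_left _ hχ)
    have hcoh₀ : IsCoherent (↑T₀ : Set (stabilizer G a → ℂ)) ({1}ᶜ : Set (stabilizer G a))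
        (fun α => Cfsg.indFun (stabilizer G a) α) := by
      refine IrrSet.equal_degree T₀ (fun ξ hξ => (hsub hξ).1) (fun φ hφ ψ hψ => by
        rw [Frob.apply_one (hsub hφ).1, Frob.apply_one (hsub hψ).1, (h₀ φ hφ).1, (h₀ ψ hψ).1])
        (IrrSet.iso_mono hsub hτ) (fun α hα => hτ1 α (mem_zeroDegree.mp
          (IrrSet.zeroDegree_mono hsub (mem_zeroDegree.mpr hα)))) ?_
      exact Finset.one_lt_card.1 (by omega)
    obtain ⟨ψ, hψ⟩ := Finset.card_pos.1 (show 0 < T₀.card by omega)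
    obtain ⟨V, -, hTV, hVS, hc⟩ := Frob.feit_all (S := Frob.charSet (H.subgroupOf (stabilizer G a)))
      (fun ξ hξ => hξ.1) hτ hτ1 T₀ hsub hcoh₀ hψ (T₀ ∪ T₁) hT.le fun χ hχ hχn => by
        have hχ₁ := (Finset.mem_union.1 hχ).resolve_left hχn
        rw [(h₀ ψ hψ).1, (h₁ χ hχ₁).1, Finset.sum_congr rfl (fun ξ hξ => by rw [(h₀ ξ hξ).1]),
          Finset.sum_const, smul_eq_mul, hT₀q]
        refine ⟨dvd_mul_right _ _, ?_⟩
        have hk : 2 * k < 2 ^ n + 1 := by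
          have hk2' : k ^ 2 * 2 ≤ (2 ^ n) ^ 2 := hc₁' ▸ Nat.mul_le_mul_left _ htwo
          rw [hs] at hk2' ⊢
          have hsn : s < n := by
            by_contra hge
            push Not at hge
            have : 2 ^ n ≤ 2 ^ s := Nat.pow_le_pow_right (by norm_num) hge
            nlinarith
          have : 2 * 2 ^ s ≤ 2 ^ n := by
            rw [← pow_succ']; exact Nat.pow_le_pow_right (by norm_num) hsn
          omega
        have he2 : 0 < e ^ 2 := pow_pos (by omega) 2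
        calc 2 * e * (e * k) = (2 * k) * e ^ 2 := by ring
          _ < (2 ^ n + 1) * e ^ 2 := Nat.mul_lt_mul_of_pos_right hk he2
    have hVT : (↑V : Set (stabilizer G a → ℂ)) = Frob.charSet (H.subgroupOf (stabilizer G a)) :=
      Set.Subset.antisymm hVS (hT ▸ Finset.coe_subset.2 hTV)
    rw [hVT] at hc
    refine Feit.no_coherent hZ hab h e hh hedef hodd H hHa (by omega) hHfix ?_ hc
    have : (2 ^ n) * (2 ^ n) ≤ (2 ^ n) ^ 3 := by
      rw [← sq]; exact Nat.pow_le_pow_right (by omega) (by omega)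
    rw [← hcube] at this
    have h4q : 4 * 2 ^ n ≤ 2 ^ n * 2 ^ n := Nat.mul_le_mul_right _ hq4
    omega
  obtain ⟨ξ, rfl⟩ := Finset.card_eq_one.1 hone
  rw [hone, mul_one] at hc₁'
  have hkq : k = 2 ^ n := Nat.pow_left_injective two_ne_zero hc₁'
  subst hkq
  obtain ⟨ε, θ, hε, hθinj, hpair, hθnc, hθeq⟩ := exists_family hZ H hHa (by omega) hHfix T₀
    (fun χ hχ => (hTm χ).1 (Finset.mem_union_left _ hχ))
    (fun χ hχ ξ hξ => by rw [(h₀ χ hχ).1, (h₀ ξ hξ).1]) (by omega)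
  have hθO : ∀ i, θ i ∈ O := fun i => by
    by_contra hno
    exact hθnc i (hconst _ hno)
  obtain ⟨χ₀, hχ₀⟩ := Finset.card_pos.1 (show 0 < T₀.card by omega)
  set i₀ : {χ // χ ∈ T₀} := ⟨χ₀, hχ₀⟩ with hi₀
  set O' := O \ Finset.univ.image θ with hO'
  have himg : Finset.univ.image θ ⊆ O := fun φ hφ => by
    obtain ⟨i, -, rfl⟩ := Finset.mem_image.1 hφ; exact hθO i
  have hall : ∀ φ ∈ O', SL φ = ((e : ℤ) + 2) * (A φ χ₀ : ℤ) := by
    intro φ hφ
    obtain ⟨hφO, hφθ⟩ := Finset.mem_sdiff.1 hφ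
    have hne : ∀ i, φ ≠ θ i := fun i e' => hφθ (Finset.mem_image.2 ⟨i, Finset.mem_univ _, e'.symm⟩)
    have heqA : ∀ χ ∈ T₀, A φ χ = A φ χ₀ := fun χ hχ => by
      have h' := hpair φ ⟨χ, hχ⟩ i₀
      rw [hi₀] at h'
      rw [hA φ hφO χ (Finset.mem_union_left _ hχ), hA φ hφO χ₀ (Finset.mem_union_left _ hχ₀),
        if_neg (hne _), if_neg (hne _), sub_self, mul_zero, sub_eq_zero, Nat.cast_inj] at h'
      exact h'
    simp only [hSL]
    rw [Finset.sum_congr rfl heqA, Finset.sum_const, smul_eq_mul, hT₀q, Nat.cast_mul, Nat.cast_add, hqz]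
    push_cast; ring
  have hSWξ : ∀ φ, SW φ = ((e : ℤ) + 1) * (A φ ξ : ℤ) := fun φ => by
    simp only [hSW, Finset.sum_singleton]
    rw [Nat.cast_mul, hqz]
  -- the exceptional characters
  have hθ0 : SL (θ i₀) = ε + ((e : ℤ) + 2) * ((A (θ i₀) χ₀ : ℤ) - ε) := by
    have hoth : ∀ χ ∈ T₀, χ ≠ χ₀ → (A (θ i₀) χ : ℤ) = (A (θ i₀) χ₀ : ℤ) - ε := fun χ hχ hne => by
      have h' := hpair (θ i₀) ⟨χ, hχ⟩ i₀
      rw [hA _ (hθO i₀) χ (Finset.mem_union_left _ hχ), hi₀, ← hi₀,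
        hA _ (hθO i₀) χ₀ (Finset.mem_union_left _ hχ₀),
        if_neg (fun e' => hne (congrArg Subtype.val (hθinj e').symm)), if_pos rfl] at h'
      have h'' : (A (θ i₀) χ : ℤ) - (A (θ i₀) χ₀ : ℤ) = ε * (0 - 1) := by
        exact_mod_cast h'
      linarith
    simp only [hSL]
    rw [Nat.cast_sum, ← Finset.add_sum_erase _ _ hχ₀, Finset.sum_congr rfl (fun χ hχ =>
      hoth χ (Finset.mem_of_mem_erase hχ) (Finset.ne_of_mem_erase hχ)), Finset.sum_const,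
      Finset.card_erase_of_mem hχ₀, hT₀q, Nat.add_sub_cancel, nsmul_eq_mul, hqz]
    ring
  have hsame : ∀ i, SL (θ i) = SL (θ i₀) ∧ SW (θ i) = SW (θ i₀) := by
    intro i
    obtain ⟨h1', hx'⟩ := hθeq i i₀
    have hx'' := hx' x₀ hx₀H fun χ hχ ξ' hξ' => ?_
    swap
    · by_cases hxc : x₀ ∈ SuzukiT.centreIn a H
      · rw [(h₀ χ hχ).2 x₀ hxc, (h₀ ξ' hξ').2 x₀ hxc]
      · exact absurd (hx₀cen) hxc
    rw [(hval _ (hθO i)).1, (hval _ (hθO i₀)).1] at h1'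
    rw [(hval _ (hθO i)).2.1, (hval _ (hθO i₀)).2.1] at hx''
    have a1 : (e : ℤ) * (SL (θ i) + SW (θ i)) = (e : ℤ) * (SL (θ i₀) + SW (θ i₀)) := by
      apply Int.cast_injective (α := ℂ)
      simp only [hSL, hSW]
      push_cast at h1' ⊢
      linear_combination h1'
    have a2 : (e : ℤ) * SL (θ i) - SW (θ i) = (e : ℤ) * SL (θ i₀) - SW (θ i₀) := by
      apply Int.cast_injective (α := ℂ)
      simp only [hSL, hSW]
      push_cast at hx'' ⊢
      linear_combination hx''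
    have a1' := mul_left_cancel₀ he0 a1
    have a3 : SL (θ i) = SL (θ i₀) := mul_left_cancel₀ hq0 (by linear_combination a1' + a2)
    exact ⟨a3, by linarith⟩
  have hsplit : ∀ F : IrrCharacter G → ℤ, (∀ i, F (θ i) = F (θ i₀)) →
      ∑ φ ∈ O, F φ = ∑ φ ∈ O', F φ + ((e : ℤ) + 2) * F (θ i₀) := by
    intro F hF
    rw [hO', ← Finset.sum_sdiff himg, Finset.sum_image hθinj.injOn, Finset.sum_congr rfl fun i _ => hF i,
      Finset.sum_const, Finset.card_univ, Fintype.card_coe, hT₀q, nsmul_eq_mul, Nat.cast_add, hqz]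
    push_cast; ring
  have e1 : 2 * ∑ φ ∈ O, SL φ ^ 2 = ((e : ℤ) + 1) * (((e : ℤ) + 1) ^ 2 - 1) := by
    rw [hz] at k11 k1z kzz
    refine mul_left_cancel₀ (mul_ne_zero (pow_ne_zero 2 he0) (pow_ne_zero 2 hq0)) ?_
    linear_combination 2 * k11 + 4 * (e : ℤ) * k1z + 2 * (e : ℤ) ^ 2 * kzz
      - (((e : ℤ) + 1) ^ 3 + 1 + e) ^ 2 * hmz
  have e2 : 2 * ∑ φ ∈ O, SL φ * SW φ = ((e : ℤ) + 1) ^ 2 * ((e : ℤ) + 2) * ((e : ℤ) - 1) := by
    rw [hz] at k11 k1z kzz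
    refine mul_left_cancel₀ (mul_ne_zero he0 (pow_ne_zero 2 hq0)) ?_
    linear_combination 2 * k11 + 2 * ((e : ℤ) - 1) * k1z - 2 * (e : ℤ) * kzz
      - (((e : ℤ) + 1) ^ 3 + 1 + e) * ((e : ℤ) + 1) ^ 3 * hmz
  have e3 : 2 * ∑ φ ∈ O, SW φ ^ 2
      = ((e : ℤ) + 1) ^ 2 * (((e : ℤ) + 1) ^ 3 - 2 * ((e : ℤ) + 1) ^ 2 + 2) := by
    rw [hz] at k11 k1z kzz
    refine mul_left_cancel₀ (pow_ne_zero 2 hq0) ?_
    linear_combination 2 * k11 - 4 * k1z + 2 * kzz - ((e : ℤ) + 1) ^ 6 * hmz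
  rw [hsplit _ (fun i => by rw [(hsame i).1]), Finset.sum_congr rfl (fun φ hφ => by rw [hall φ hφ, mul_pow]),
    hθ0, ← Finset.mul_sum] at e1
  rw [hsplit _ (fun i => by rw [(hsame i).1, (hsame i).2]),
    Finset.sum_congr rfl (g := fun φ => (((e : ℤ) + 2) * ((e : ℤ) + 1)) * ((A φ χ₀ : ℤ) * (A φ ξ : ℤ)))
      (fun φ hφ => by rw [hall φ hφ, hSWξ φ]; ring), hθ0, hSWξ (θ i₀), ← Finset.mul_sum] at e2
  rw [hsplit _ (fun i => by rw [(hsame i).2]),
    Finset.sum_congr rfl (g := fun φ => ((e : ℤ) + 1) ^ 2 * (A φ ξ : ℤ) ^ 2)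
      (fun φ _ => by rw [hSWξ φ, mul_pow]), hSWξ (θ i₀), ← Finset.mul_sum] at e3
  have hqz' : (2 : ℤ) ^ n = (e : ℤ) + 1 := by rw [← hqz]; norm_num
  refine SuzukiArith.cube_case O' (fun φ => (A φ χ₀ : ℤ)) (fun φ => (A φ ξ : ℤ)) n
    ((A (θ i₀) χ₀ : ℤ) - ε) (A (θ i₀) ξ : ℤ) ε hn2 hε ?_ ?_ ?_ ?_
  · intro φ hφ
    obtain ⟨-, -, hpos, hdvd⟩ := hval φ (Finset.mem_sdiff.1 hφ).1
    rw [hqz', show ((e : ℤ) + 1 + 1) * (A φ χ₀ : ℤ) = SL φ by rw [hall φ hφ]; ring, ← hSWξ φ]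
    have hD : SL φ + SW φ ∣ (((h + 1) * h : ℕ) : ℤ) := by
      simp only [hSL, hSW]
      exact_mod_cast hdvd
    refine ⟨by simp only [hSL, hSW]; exact_mod_cast hpos, ?_⟩
    rw [Nat.cast_mul, Nat.cast_add, Nat.cast_one, hz, mul_comm] at hD
    exact hD
  · rw [hqz']
    linear_combination e1
  · rw [hqz']
    exact mul_left_cancel₀ hq0 (by linear_combination e2)
  · rw [hqz']
    exact mul_left_cancel₀ (pow_ne_zero 2 hq0) (by linear_combination e3)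

end CfsgLib.SharplyEven.SuzukiOrder
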