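import Cfsg.Agent.Lib.SharplyEven.FeitCount
import Cfsg.Agent.Lib.CharTheory.Inflation

/-!
The principal, Steinberg and induced linear characters of a simple Zassenhaus group with two-point
stabiliser of odd order `e`: there are exactly `2 + (e - 1) / 2` of them, and every other irreducible
character restricts to the point stabiliser without a constituent trivial on the kernel.
-/

set_option autoImplicit false
set_option linter.unusedSectionVars false

open MulAction Cfsg CfsgLib.CharTheory CfsgLib.CyclicTI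
open scoped ComplexConjugate

namespace CfsgLib.SharplyEven.SuzukiY

open CfsgLib.RealChar.Zassenhaus

variable {G Ω : Type*} [Group G] [Fintype G] [MulAction G Ω] [Fintype Ω] [IsSimpleGroup G]

theorem indFun_linear_inv (hZ : Cfsg.IsZassenhausGroup G Ω) {a b : Ω} (hab : a ≠ b)
    (hodd : Odd (Nat.card (stabilizer G a ⊓ stabilizer G b : Subgroup G))) (H : Subgroup G)
    (hHa : H ≤ stabilizer G a) (hHcard : Nat.card H + 1 = Fintype.card Ω)
    (hHfix : ∀ u ∈ H, u ≠ 1 → ∀ c : Ω, u • c = c → c = a)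
    (f : stabilizer G a →* ℂˣ) (hfH : ∀ u : stabilizer G a, (u : G) ∈ H → f u = 1) :
    Cfsg.indFun (stabilizer G a) (fun y => ((f⁻¹) y : ℂ)) = Cfsg.indFun (stabilizer G a) (fun y => (f y : ℂ)) := by
  classical
  funext g
  by_cases hg : ∀ x : G, x⁻¹ * g * x ∉ stabilizer G a
  · rw [CfsgLib.Frobenius.indFun_eq_zero_of_forall_conj_not_mem _ _ hg,
      CfsgLib.Frobenius.indFun_eq_zero_of_forall_conj_not_mem _ _ hg]
  push Not at hg
  obtain ⟨x, hx⟩ := hg
  have hcl : ∀ θ : stabilizer G a → ℂ, Cfsg.indFun (stabilizer G a) θ g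
      = Cfsg.indFun (stabilizer G a) θ (x⁻¹ * g * x) := fun θ => by
    have h := CfsgLib.Frobenius.indFun_isClassFunction (stabilizer G a) θ g x⁻¹
    rw [inv_inv] at h
    exact h.symm
  rw [hcl, hcl]
  set u : stabilizer G a := ⟨_, hx⟩ with hu
  show Cfsg.indFun (stabilizer G a) (fun y => ((f⁻¹) y : ℂ)) (u : G)
    = Cfsg.indFun (stabilizer G a) (fun y => (f y : ℂ)) (u : G)
  rw [indFun_linear_apply hZ hab hodd f⁻¹ u, indFun_linear_apply hZ hab hodd f u]
  rcases eq_or_ne u 1 with e | hu1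
  · rw [e]; simp
  by_cases hex : ∀ c : Ω, (u : G) • c = c → c = a
  · have huH : (u : G) ∈ H := (mem_kernel_iff hZ a H hHa hHcard hHfix _).2 (Or.inr ⟨u.2, hex⟩)
    haveI : IsEmpty {c : Ω // c ≠ a ∧ (u : G) • c = c} := ⟨fun c => c.2.1 (hex c c.2.2)⟩
    rw [Nat.card_of_isEmpty]
    simp [hfH u huH]
  · push Not at hex
    obtain ⟨c, hc, hca⟩ := hex
    have hcard : Nat.card {c : Ω // c ≠ a ∧ (u : G) • c = c} = 1 := by
      refine Nat.card_eq_one_iff_unique.2 ⟨⟨fun p q => ?_⟩, ⟨⟨c, hca, hc⟩⟩⟩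
      have hu1' : (u : G) ≠ 1 := fun e => hu1 (Subtype.ext e)
      exact Subtype.ext (((fix_two hZ hu1' (Ne.symm hca) u.2 hc p.2.2).resolve_left p.2.1).trans
        ((fix_two hZ hu1' (Ne.symm hca) u.2 hc q.2.2).resolve_left q.2.1).symm)
    rw [hcard, map_inv f u, map_inv (f⁻¹) u]
    simp [add_comm]

theorem exists_Y (hZ : Cfsg.IsZassenhausGroup G Ω) {a b : Ω} (hab : a ≠ b) (h e : ℕ)
    (hh : Fintype.card Ω = h + 1) (he : Nat.card (stabilizer G a ⊓ stabilizer G b : Subgroup G) = e)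
    (hodd : Odd e) (H : Subgroup G) (hHa : H ≤ stabilizer G a) (hHcard : Nat.card H + 1 = Fintype.card Ω)
    (hHfix : ∀ u ∈ H, u ≠ 1 → ∀ c : Ω, u • c = c → c = a)
    [Fintype (stabilizer G a)] [Fintype (IrrCharacter (stabilizer G a))] :
    ∃ (Y : Finset (IrrCharacter G)) (m : ℕ), 2 * m + 1 = e ∧ Y.card = 2 + m ∧
      (∀ φ ∈ Y, ∃ c : ℂ, ∀ x : stabilizer G a, (x : G) ∈ H → x ≠ 1 → (φ : G → ℂ) x = c) ∧
      ((∑ φ ∈ Y, ((φ : G → ℂ) 1) ^ 2) = 1 + (h : ℂ) ^ 2 + (m : ℂ) * ((h : ℂ) + 1) ^ 2 ∧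
        ∀ x : stabilizer G a, (x : G) ∈ H → x ≠ 1 →
          (∑ φ ∈ Y, (φ : G → ℂ) 1 * conj ((φ : G → ℂ) x)) = 1 + (m : ℂ) * ((h : ℂ) + 1) ∧
          (∑ φ ∈ Y, (φ : G → ℂ) x * conj ((φ : G → ℂ) x)) = 1 + (m : ℂ)) ∧
      (∀ φ : IrrCharacter G, φ ∉ Y → ∀ ψ : IrrCharacter (stabilizer G a),
        (ψ : stabilizer G a → ℂ) ∉ Frob.charSet (H.subgroupOf (stabilizer G a)) →
          classInner (fun y : stabilizer G a => (φ : G → ℂ) y) (ψ : stabilizer G a → ℂ) = 0) ∧
      ∀ T : Finset (stabilizer G a → ℂ),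
        (↑T : Set (stabilizer G a → ℂ)) = Frob.charSet (H.subgroupOf (stabilizer G a)) →
          T.card + e ≤ Nat.card (IrrCharacter (stabilizer G a)) := by
  classical
  subst he
  have hn := Feit.subgroupOf_normal hZ H hHa hHcard hHfix
  set K := H.subgroupOf (stabilizer G a) with hK
  have hKC : Frob.KernelCond K := Feit.kernelCond hZ H hHa hHcard hHfix
  have hidx := Feit.index_eq hZ hab H hHa hHcard
  obtain ⟨L, hLcard, hL1, hLH, hLfib⟩ := Feit.exists_linear_family hZ hab H hHa hHcard hHfix hodd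
  have hh2 : 2 ≤ h := by
    have := three_le_card hZ
    omega
  let lin : (stabilizer G a →* ℂˣ) → IrrCharacter (stabilizer G a) :=
    fun f => ⟨fun y => (f y : ℂ), isIrrCharacter_linear f⟩
  have hlin : Function.Injective lin := fun f g hfg => linear_inj (congrArg Subtype.val hfg)
  set R := Finset.univ.filter fun φ : IrrCharacter (stabilizer G a) =>
    (φ : stabilizer G a → ℂ) ∉ Frob.charSet K with hR
  have hRsum := Frob.sum_rest (H := K) hKC
  have hRcard : R = L.image lin := by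
    symm
    refine Finset.eq_of_subset_of_card_le (fun φ hφ => ?_) ?_
    · obtain ⟨f, hf, rfl⟩ := Finset.mem_image.1 hφ
      refine Finset.mem_filter.2 ⟨Finset.mem_univ _, fun hc => ?_⟩
      obtain ⟨u, hu, hne⟩ := hc.2
      exact hne (show (f u : ℂ) = (f 1 : ℂ) by rw [hLH f hf u hu, map_one])
    · rw [Finset.card_image_of_injective _ hlin, hLcard]
      rw [← hR, hidx] at hRsum
      have h1 : ∑ φ ∈ R, Frob.deg (φ : stabilizer G a → ℂ) ^ 2
          = Nat.card (stabilizer G a ⊓ stabilizer G b : Subgroup G) := by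
        have : ((∑ φ ∈ R, Frob.deg (φ : stabilizer G a → ℂ) ^ 2 : ℕ) : ℂ)
            = ((Nat.card (stabilizer G a ⊓ stabilizer G b : Subgroup G) : ℕ) : ℂ) := by
          rw [← hRsum, Nat.cast_sum]
          exact Finset.sum_congr rfl fun φ _ => by rw [Frob.apply_one φ.2, Nat.cast_pow]
        exact_mod_cast this
      rw [Finset.card_eq_sum_ones]
      exact (Finset.sum_le_sum fun φ _ => Nat.one_le_pow _ _ (Frob.deg_pos φ.2)).trans h1.le
  obtain ⟨St, hSt, hSt1, hStv, hInd⟩ := Feit.exists_steinberg hZ hab hodd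
  rw [hh, Nat.add_sub_cancel] at hSt1
  set L' := L.erase 1 with hL'
  have hθlin : ∀ f ∈ L', IsIrrCharacter G (Cfsg.indFun (stabilizer G a) fun y => (f y : ℂ)) ∧
      Cfsg.indFun (stabilizer G a) (fun y => (f y : ℂ)) 1 = ((h + 1 : ℕ) : ℂ) ∧
      ∀ u : stabilizer G a, (u : G) ∈ H → u ≠ 1 →
        Cfsg.indFun (stabilizer G a) (fun y => (f y : ℂ)) u = 1 := by
    intro f hf
    obtain ⟨hf1, hfL⟩ := Finset.mem_erase.1 hf
    refine ⟨(isIrrCharacter_iff_norm_one (CfsgLib.Frobenius.isCharacter_indFun _ _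
      (IsIrrCharacter.isCharacter (isIrrCharacter_linear f)))).2
      (classInner_indFun_linear hZ hab hodd H hHa hHcard hHfix f (hLH f hfL) hf1), ?_, fun u hu hu1 => ?_⟩
    · haveI := pretransitive hZ
      rw [CfsgLib.Frobenius.indFun_one, index_stabilizer_of_transitive, Nat.card_eq_fintype_card, hh]
      simp
    · have h' := indFun_linear_apply hZ hab hodd f u
      haveI : IsEmpty {c : Ω // c ≠ a ∧ (u : G) • c = c} :=
        ⟨fun c => c.2.1 (hHfix _ hu (fun e' => hu1 (Subtype.ext e')) c c.2.2)⟩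
      rw [Nat.card_of_isEmpty, Nat.cast_zero, zero_mul, add_zero, hLH f hfL u hu, Units.val_one] at h'
      exact h'
  let θL : {f // f ∈ L'} → IrrCharacter G := fun f => ⟨_, (hθlin f.1 f.2).1⟩
  set U := Finset.univ.image θL with hU
  -- each member is attained exactly twice
  have hm : 2 * U.card + 1 = Nat.card (stabilizer G a ⊓ stabilizer G b : Subgroup G) := by
    have hfib : ∀ φ ∈ U, (Finset.univ.filter fun f => θL f = φ).card = 2 := by
      intro φ hφ
      obtain ⟨f, -, rfl⟩ := Finset.mem_image.1 hφ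
      obtain ⟨hf1, hfL⟩ := Finset.mem_erase.1 f.2
      refine le_antisymm ?_ ?_
      · have := hLfib f.1 hfL hf1 ((Finset.univ.filter fun g => θL g = θL f).image Subtype.val) fun g hg => by
          obtain ⟨g', hg', rfl⟩ := Finset.mem_image.1 hg
          exact ⟨(Finset.mem_erase.1 g'.2).2, (Finset.mem_erase.1 g'.2).1,
            congrArg Subtype.val (Finset.mem_filter.1 hg').2⟩
        rwa [Finset.card_image_of_injective _ Subtype.val_injective] at this
      have hinvL : f.1⁻¹ ∈ L' := by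
        refine Finset.mem_erase.2 ⟨fun e => hf1 (MonoidHom.ext fun x => inv_eq_one.1 (DFunLike.congr_fun e x)), ?_⟩
        have hmem : lin f.1⁻¹ ∈ R := Finset.mem_filter.2 ⟨Finset.mem_univ _, fun hc => by
          obtain ⟨u, hu, hne⟩ := hc.2
          exact hne (show (((f.1⁻¹) u : ℂˣ) : ℂ) = (((f.1⁻¹) 1 : ℂˣ) : ℂ) by
            rw [MonoidHom.inv_apply, hLH f.1 hfL u hu, map_one, inv_one])⟩
        rw [hRcard] at hmem
        obtain ⟨g, hg, hge⟩ := Finset.mem_image.1 hmem
        exact hlin hge ▸ hg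
      have hne : f ≠ ⟨f.1⁻¹, hinvL⟩ := by
        intro e
        have e' : f.1 = f.1⁻¹ := congrArg Subtype.val e
        refine hf1 (MonoidHom.ext fun x => ?_)
        obtain ⟨⟨⟨k, hk⟩, ⟨y, hy⟩⟩, rfl⟩ := (Feit.isComplement hZ hab H hHa hHcard hHfix).2 x
        show f.1 (k * y) = 1
        rw [map_mul, hLH f.1 hfL k hk, one_mul]
        have hsq : (f.1 y) ^ 2 = 1 := by
          have := DFunLike.congr_fun e' y
          rw [MonoidHom.inv_apply] at this
          rw [pow_two]
          nth_rewrite 1 [this]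
          exact inv_mul_cancel _
        have hcard : (f.1 y) ^ Nat.card (stabilizer G a ⊓ stabilizer G b : Subgroup G) = 1 := by
          have hyc : y ^ Nat.card (stabilizer G a ⊓ stabilizer G b : Subgroup G) = 1 := by
            have hpow := pow_card_eq_one' (G := (stabilizer G a ⊓ stabilizer G b : Subgroup G))
              (x := ⟨(y : G), y.2, hy⟩)
            exact Subtype.ext (congrArg Subtype.val hpow :)
          rw [← map_pow, hyc, map_one]
        have h3 := pow_gcd_eq_one.mpr ⟨hsq, hcard⟩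
        rwa [show Nat.gcd 2 (Nat.card (stabilizer G a ⊓ stabilizer G b : Subgroup G)) = 1 from
          Nat.Coprime.gcd_eq_one ((Nat.prime_two.coprime_iff_not_dvd).mpr fun h =>
            Nat.not_even_iff_odd.mpr hodd (even_iff_two_dvd.mpr h)), pow_one] at h3
      calc 2 = ({f, ⟨f.1⁻¹, hinvL⟩} : Finset {g // g ∈ L'}).card := (Finset.card_pair hne).symm
        _ ≤ _ := Finset.card_le_card fun g hg => by
          rw [Finset.mem_filter]
          refine ⟨Finset.mem_univ _, Subtype.ext ?_⟩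
          rcases Finset.mem_insert.1 hg with rfl | hg
          · rfl
          · rw [Finset.mem_singleton.1 hg]
            exact indFun_linear_inv hZ hab hodd H hHa hHcard hHfix f.1 (hLH f.1 hfL)
    have h' := Finset.card_eq_sum_card_image θL Finset.univ
    rw [← hU, Finset.sum_congr rfl hfib, Finset.sum_const, smul_eq_mul, Finset.card_univ, Fintype.card_coe,
      hL', Finset.card_erase_of_mem hL1, hLcard] at h'
    have : 0 < Nat.card (stabilizer G a ⊓ stabilizer G b : Subgroup G) := Nat.card_pos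
    omega
  set one : IrrCharacter G := trivIrr G with hone
  set StI : IrrCharacter G := ⟨St, hSt⟩ with hStI
  have hU1 : ∀ φ ∈ U, (φ : G → ℂ) 1 = ((h + 1 : ℕ) : ℂ) := by
    intro φ hφ
    obtain ⟨f, -, rfl⟩ := Finset.mem_image.1 hφ
    exact (hθlin f.1 f.2).2.1
  have hUx : ∀ φ ∈ U, ∀ x : stabilizer G a, (x : G) ∈ H → x ≠ 1 → (φ : G → ℂ) x = 1 := by
    intro φ hφ
    obtain ⟨f, -, rfl⟩ := Finset.mem_image.1 hφ
    exact (hθlin f.1 f.2).2.2
  have hStx : ∀ x : stabilizer G a, (x : G) ∈ H → x ≠ 1 → (StI : G → ℂ) x = 0 := by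
    intro x hx hx1
    haveI : IsEmpty {c : Ω // c ≠ a ∧ (x : G) • c = c} :=
      ⟨fun c => c.2.1 (hHfix _ hx (fun e' => hx1 (Subtype.ext e')) c c.2.2)⟩
    show St x = 0
    rw [hStv x, Nat.card_of_isEmpty, Nat.cast_zero]
  have hne1 : one ≠ StI := fun e' => by
    have h' := congrArg (fun φ : IrrCharacter G => (φ : G → ℂ) 1) e'
    simp only [hone, trivIrr_apply, hStI, hSt1] at h'
    have : (1 : ℕ) = h := by exact_mod_cast h'
    omega
  have hne2 : one ∉ U := fun e' => by
    have h' := hU1 one e'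
    rw [hone, trivIrr_apply] at h'
    have : (1 : ℕ) = h + 1 := by exact_mod_cast h'
    omega
  have hne3 : StI ∉ U := fun e' => by
    have h' := hU1 StI e'
    rw [show (StI : G → ℂ) 1 = (h : ℂ) from hSt1] at h'
    have : h = h + 1 := by exact_mod_cast h'
    omega
  have hne4 : one ∉ insert StI U := by simp [hne1, hne2]
  refine ⟨insert one (insert StI U), U.card, hm, ?_, fun φ hφ => ?_, ⟨?_, fun x hx hx1 => ⟨?_, ?_⟩⟩, ?_, ?_⟩
  · rw [Finset.card_insert_of_notMem hne4, Finset.card_insert_of_notMem hne3]; omega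
  · rcases Finset.mem_insert.1 hφ with rfl | hφ
    · exact ⟨1, fun x _ _ => trivIrr_apply _⟩
    rcases Finset.mem_insert.1 hφ with rfl | hφ
    · exact ⟨0, hStx⟩
    · exact ⟨1, hUx φ hφ⟩
  · rw [Finset.sum_insert hne4, Finset.sum_insert hne3,
      Finset.sum_congr rfl (fun φ hφ => by rw [hU1 φ hφ]), Finset.sum_const, nsmul_eq_mul,
      hone, trivIrr_apply, show (StI : G → ℂ) 1 = (h : ℂ) from hSt1]
    push_cast; ring
  · rw [Finset.sum_insert hne4, Finset.sum_insert hne3,
      Finset.sum_congr rfl (fun φ hφ => by rw [hU1 φ hφ, hUx φ hφ x hx hx1]), Finset.sum_const, nsmul_eq_mul,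
      hone, trivIrr_apply, trivIrr_apply, hStx x hx hx1]
    simp only [map_one, map_zero, mul_one, mul_zero, zero_add]
    push_cast; ring
  · rw [Finset.sum_insert hne4, Finset.sum_insert hne3,
      Finset.sum_congr rfl (fun φ hφ => by rw [hUx φ hφ x hx hx1]), Finset.sum_const, nsmul_eq_mul,
      hone, trivIrr_apply, hStx x hx hx1]
    simp only [map_one, map_zero, mul_one, mul_zero, zero_add]
  · intro φ hφ ψ hψ
    simp only [Finset.mem_insert, not_or] at hφ
    obtain ⟨hφ1, hφS, hφU⟩ := hφ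
    have hmem : ψ ∈ R := Finset.mem_filter.2 ⟨Finset.mem_univ _, hψ⟩
    rw [hRcard] at hmem
    obtain ⟨f, hf, rfl⟩ := Finset.mem_image.1 hmem
    show classInner (fun y : stabilizer G a => (φ : G → ℂ) y) (fun y => (f y : ℂ)) = 0
    rw [← CfsgLib.Frobenius.classInner_indFun_right _ _ _ (IsIrrCharacter.isClassFunction φ.2)]
    by_cases hf1 : f = 1
    · subst hf1
      rw [show (fun y : stabilizer G a => (((1 : stabilizer G a →* ℂˣ) y : ℂˣ) : ℂ)) = fun _ => (1 : ℂ)
          from funext fun y => by simp, hInd, classInner_add_right,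
        classInner_eq_zero_of_ne φ.2 hSt (fun e' => hφS (Subtype.ext e')),
        classInner_eq_zero_of_ne φ.2 isIrrCharacter_one (fun e' => hφ1 (Subtype.ext e')), add_zero]
    · exact classInner_eq_zero_of_ne φ.2 (hθlin f (Finset.mem_erase.2 ⟨hf1, hf⟩)).1 fun e' => hφU
        (Finset.mem_image.2 ⟨⟨f, Finset.mem_erase.2 ⟨hf1, hf⟩⟩, Finset.mem_univ _, Subtype.ext e'.symm⟩)
  · intro T hT
    have h1 := Frob.sum_irr_split (H := K) (fun _ => (1 : ℂ)) T hT
    simp only [Finset.sum_const, nsmul_eq_mul, mul_one, Finset.card_univ, ← Nat.cast_add, Nat.cast_inj] at h1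
    rw [Nat.card_eq_fintype_card (α := IrrCharacter (stabilizer G a)), h1, ← hR, hRcard,
      Finset.card_image_of_injective _ hlin, hLcard]

end CfsgLib.SharplyEven.SuzukiY
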