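import Cfsg.Agent.Lib.SharplyEven.SuzukiT
import Cfsg.Agent.Lib.SharplyEven.SuzukiY
import Cfsg.Agent.Lib.SharplyEven.FeitCoherent

/-!
The irreducible characters of a simple Zassenhaus group with Suzuki kernel other than the principal, Steinberg
and induced linear ones: their multiplicities on the point stabiliser and the three column sums they satisfy.
-/

set_option autoImplicit false
set_option linter.unusedSectionVars false

open MulAction Cfsg CfsgLib.CharTheory CfsgLib.CyclicTI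
open scoped ComplexConjugate

namespace CfsgLib.SharplyEven.SuzukiOrder

open CfsgLib.RealChar.Zassenhaus

variable {G Ω : Type*} [Group G] [Fintype G] [MulAction G Ω] [Fintype Ω] [IsSimpleGroup G]

theorem exists_others (hZ : Cfsg.IsZassenhausGroup G Ω) {a b : Ω} (hab : a ≠ b) (h e q k : ℕ)
    (hh : Fintype.card Ω = h + 1) (he : Nat.card (stabilizer G a ⊓ stabilizer G b : Subgroup G) = e)
    (hodd : Odd e) (hq : e + 1 = q) (H : Subgroup G) (hHa : H ≤ stabilizer G a)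
    (hHcard : Nat.card H + 1 = Fintype.card Ω) (hHfix : ∀ u ∈ H, u ≠ 1 → ∀ c : Ω, u • c = c → c = a)
    [Fintype (stabilizer G a)] (T₀ T₁ : Finset (stabilizer G a → ℂ))
    (hT : (↑(T₀ ∪ T₁) : Set (stabilizer G a → ℂ)) = Frob.charSet (H.subgroupOf (stabilizer G a)))
    (hdisj : Disjoint T₀ T₁)
    (h₀ : ∀ χ ∈ T₀, Frob.deg χ = e ∧ ∀ z ∈ SuzukiT.centreIn a H, χ z = (e : ℂ))
    (h₁ : ∀ χ ∈ T₁, Frob.deg χ = e * k ∧ ∀ z ∈ SuzukiT.centreIn a H, z ≠ 1 → χ z = -(k : ℂ))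
    (hcen : ∃ x : stabilizer G a, x ∈ SuzukiT.centreIn a H ∧ x ≠ 1) :
    ∃ (O : Finset (IrrCharacter G)) (A : IrrCharacter G → (stabilizer G a → ℂ) → ℕ) (m : ℕ)
      (x₀ : stabilizer G a),
      2 * m + 1 = e ∧ (x₀ : G) ∈ H ∧ x₀ ≠ 1 ∧ x₀ ∈ SuzukiT.centreIn a H ∧
      (∀ φ : IrrCharacter G, φ ∉ O →
        ∃ c : ℂ, ∀ x : stabilizer G a, (x : G) ∈ H → x ≠ 1 → (φ : G → ℂ) x = c) ∧
      1 + T₀.card + T₁.card + e ≤ O.card + 2 + m ∧
      (∀ φ ∈ O, ∀ χ ∈ T₀ ∪ T₁, classInner (fun y : stabilizer G a => (φ : G → ℂ) y) χ = (A φ χ : ℂ)) ∧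
      (∀ φ ∈ O,
        (φ : G → ℂ) 1 = (e : ℂ) * (((∑ χ ∈ T₀, A φ χ) + k * ∑ χ ∈ T₁, A φ χ : ℕ) : ℂ) ∧
        (φ : G → ℂ) x₀ = (e : ℂ) * ((∑ χ ∈ T₀, A φ χ : ℕ) : ℂ) - ((k * ∑ χ ∈ T₁, A φ χ : ℕ) : ℂ) ∧
        0 < (∑ χ ∈ T₀, A φ χ) + k * ∑ χ ∈ T₁, A φ χ ∧
        (∑ χ ∈ T₀, A φ χ) + k * ∑ χ ∈ T₁, A φ χ ∣ (h + 1) * h) ∧
      (∑ φ ∈ O, ((e : ℤ) * (((∑ χ ∈ T₀, A φ χ : ℕ) : ℤ) + ((k * ∑ χ ∈ T₁, A φ χ : ℕ) : ℤ))) ^ 2
        = ((h : ℤ) + 1) * h * e - 1 - (h : ℤ) ^ 2 - (m : ℤ) * ((h : ℤ) + 1) ^ 2) ∧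
      (∑ φ ∈ O, ((e : ℤ) * (((∑ χ ∈ T₀, A φ χ : ℕ) : ℤ) + ((k * ∑ χ ∈ T₁, A φ χ : ℕ) : ℤ))) *
          ((e : ℤ) * ((∑ χ ∈ T₀, A φ χ : ℕ) : ℤ) - ((k * ∑ χ ∈ T₁, A φ χ : ℕ) : ℤ))
        = -1 - (m : ℤ) * ((h : ℤ) + 1)) ∧
      (∑ φ ∈ O, ((e : ℤ) * ((∑ χ ∈ T₀, A φ χ : ℕ) : ℤ) - ((k * ∑ χ ∈ T₁, A φ χ : ℕ) : ℤ)) ^ 2
        = (h : ℤ) - 1 - (m : ℤ)) := by
  classical
  haveI := Fintype.ofFinite (IrrCharacter (stabilizer G a))
  haveI := Fintype.ofFinite (IrrCharacter G)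
  have hn := Feit.subgroupOf_normal hZ H hHa hHcard hHfix
  set K := H.subgroupOf (stabilizer G a) with hK
  have hKC : Frob.KernelCond K := Feit.kernelCond hZ H hHa hHcard hHfix
  obtain ⟨Y, m, hm, hYcard, hYconst, ⟨hY11, hYx⟩, hYorth, hNcard⟩ :=
    SuzukiY.exists_Y hZ hab h e hh he hodd H hHa hHcard hHfix
  obtain ⟨x₀, hx₀c, hx₀1⟩ := hcen
  obtain ⟨hx₀H, hx₀cen⟩ := SuzukiT.mem_centreIn.1 hx₀c
  have hTm : ∀ χ, χ ∈ T₀ ∪ T₁ ↔ χ ∈ Frob.charSet K := fun χ => by rw [← hT]; rfl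
  have hirr : ∀ χ ∈ T₀ ∪ T₁, IsIrrCharacter (stabilizer G a) χ := fun χ hχ => ((hTm χ).1 hχ).1
  let res : IrrCharacter G → (stabilizer G a → ℂ) := fun φ y => (φ : G → ℂ) y
  have hres : ∀ φ : IrrCharacter G, IsCharacter (stabilizer G a) (res φ) :=
    fun φ => CfsgLib.Coherence.isCharacter_comp (IsIrrCharacter.isCharacter φ.2) (Subgroup.subtype _)
  have hA : ∀ (φ : IrrCharacter G) (χ : stabilizer G a → ℂ), ∃ c : ℕ,
      χ ∈ T₀ ∪ T₁ → classInner (res φ) χ = (c : ℂ) := fun φ χ => by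
    by_cases hc : χ ∈ T₀ ∪ T₁
    · obtain ⟨c, hc'⟩ := IsCharacter.exists_classInner_eq_nat (hres φ) ⟨χ, hirr χ hc⟩
      exact ⟨c, fun _ => hc'⟩
    · exact ⟨0, fun h' => absurd h' hc⟩
  choose A hA using hA
  have hdec : ∀ φ : IrrCharacter G, φ ∉ Y → ∀ y : stabilizer G a,
      (φ : G → ℂ) y = ∑ χ ∈ T₀, (A φ χ : ℂ) * χ y + ∑ χ ∈ T₁, (A φ χ : ℂ) * χ y := by
    intro φ hφ y
    have hd : res φ y = ∑ ψ : IrrCharacter (stabilizer G a),
        classInner (res φ) (ψ : stabilizer G a → ℂ) * (ψ : stabilizer G a → ℂ) y := by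
      conv_lhs => rw [eq_sum_classInner (IsCharacter.isClassFunction (hres φ))]
      simp [Finset.sum_apply]
    rw [Frob.sum_irr_split (H := K) (fun ψ => classInner (res φ) ψ * ψ y) (T₀ ∪ T₁) hT,
      Finset.sum_eq_zero (s := Finset.univ.filter _) (fun ψ hψ => by
        rw [hYorth φ hφ ψ (Finset.mem_filter.1 hψ).2, zero_mul]), add_zero,
      Finset.sum_congr rfl (fun χ hχ => by rw [hA φ χ hχ]), Finset.sum_union hdisj] at hd
    exact hd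
  set O := (Finset.univ : Finset (IrrCharacter G)) \ Y with hO
  have hval : ∀ φ ∈ O,
      (φ : G → ℂ) 1 = (e : ℂ) * (((∑ χ ∈ T₀, A φ χ) + k * ∑ χ ∈ T₁, A φ χ : ℕ) : ℂ) ∧
      (φ : G → ℂ) x₀ = (e : ℂ) * ((∑ χ ∈ T₀, A φ χ : ℕ) : ℂ) - ((k * ∑ χ ∈ T₁, A φ χ : ℕ) : ℂ) := by
    intro φ hφ
    have hφY := (Finset.mem_sdiff.1 hφ).2
    refine ⟨?_, ?_⟩
    · rw [show (φ : G → ℂ) 1 = (φ : G → ℂ) ((1 : stabilizer G a) : G) from rfl, hdec φ hφY,
        Finset.sum_congr rfl (g := fun χ => (e : ℂ) * (A φ χ : ℂ)) (fun χ hχ => by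
          rw [Frob.apply_one (hirr χ (Finset.mem_union_left _ hχ)), (h₀ χ hχ).1, mul_comm]),
        Finset.sum_congr (s₁ := T₁) rfl (g := fun χ => (e : ℂ) * ((k : ℂ) * (A φ χ : ℂ))) (fun χ hχ => by
          rw [Frob.apply_one (hirr χ (Finset.mem_union_right _ hχ)), (h₁ χ hχ).1]; push_cast; ring),
        ← Finset.mul_sum, ← Finset.mul_sum, ← Finset.mul_sum]
      push_cast; ring
    · rw [hdec φ hφY,
        Finset.sum_congr rfl (g := fun χ => (e : ℂ) * (A φ χ : ℂ)) (fun χ hχ => by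
          rw [(h₀ χ hχ).2 x₀ hx₀c, mul_comm]),
        Finset.sum_congr (s₁ := T₁) rfl (g := fun χ => -((k : ℂ) * (A φ χ : ℂ))) (fun χ hχ => by
          rw [(h₁ χ hχ).2 x₀ hx₀c hx₀1]; ring),
        ← Finset.mul_sum, Finset.sum_neg_distrib, ← Finset.mul_sum]
      push_cast; ring
  have hHh : Nat.card H = h := by omega
  have hcent : Nat.card (Subgroup.centralizer ({(x₀ : G)} : Set G)) = h := by
    rw [← hHh]
    have heq : Subgroup.centralizer ({(x₀ : G)} : Set G) = H := le_antisymm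
      (Feit.centralizer_le hZ H hHa hHcard hHfix hx₀H fun e' => hx₀1 (Subtype.ext e')) fun u hu =>
      Subgroup.mem_centralizer_singleton_iff.2 (congrArg Subtype.val (Subgroup.mem_center_iff.1 hx₀cen ⟨u, hu⟩))
    rw [heq]
  have hnconj : ¬ IsConj (1 : G) (x₀ : G) := fun hc => hx₀1 (Subtype.ext (isConj_one_right.1 hc))
  have hG : Nat.card G = (h + 1) * h * e := by
    rw [card_group hZ hab, hh, he, Nat.add_sub_cancel, mul_assoc]
  have hsplit : ∀ F : IrrCharacter G → ℂ,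
      ∑ φ ∈ O, F φ = (∑ φ : IrrCharacter G, F φ) - ∑ φ ∈ Y, F φ := fun F => by
    rw [hO, eq_sub_iff_add_eq]
    exact Finset.sum_sdiff (Finset.subset_univ Y)
  refine ⟨O, A, m, x₀, hm, hx₀H, hx₀1, hx₀c, fun φ hφ => hYconst φ (by simpa [hO] using hφ), ?_,
    fun φ _ χ hχ => hA φ χ hχ, fun φ hφ => ⟨(hval φ hφ).1, (hval φ hφ).2, ?_, ?_⟩, ?_, ?_, ?_⟩
  · have hc := Feit.card_classes hZ hab (he ▸ hodd) (by
      have hd := card_E_dvd hZ hab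
      have h3 := three_le_card hZ
      have hle := Nat.le_of_dvd (by omega) hd
      omega) H hHa hHcard hHfix (T₀ ∪ T₁).card
      (he.symm ▸ hNcard (T₀ ∪ T₁) hT)
    rw [Finset.card_union_of_disjoint hdisj, he, Nat.card_eq_fintype_card, ← Finset.card_univ] at hc
    have hsd := Finset.card_sdiff_add_card_eq_card (Finset.subset_univ Y)
    rw [← hO, hYcard] at hsd
    omega
  · by_contra hle
    have h0 : (∑ χ ∈ T₀, A φ χ) + k * ∑ χ ∈ T₁, A φ χ = 0 := by omega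
    exact apply_one_ne_zero_of_isIrr φ.2 (by rw [(hval φ hφ).1, h0, Nat.cast_zero, mul_zero])
  · obtain ⟨d, -, hdd, hd⟩ := IsIrrCharacter.exists_degree_dvd φ.2
    have h1 : d = e * ((∑ χ ∈ T₀, A φ χ) + k * ∑ χ ∈ T₁, A φ χ) := by
      have := hd.symm.trans (hval φ hφ).1
      exact_mod_cast this
    rw [h1, hG, mul_comm ((h + 1) * h) e] at hdd
    exact Nat.dvd_of_mul_dvd_mul_left (he ▸ Nat.card_pos) hdd
  · have h' := hsplit (fun φ => ((φ : G → ℂ) 1) ^ 2)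
    rw [sum_degree_sq, hY11, hG, Finset.sum_congr rfl (fun φ hφ => by rw [(hval φ hφ).1])] at h'
    apply Int.cast_injective (α := ℂ)
    push_cast at h' ⊢
    linear_combination h'
  · have h' := hsplit (fun φ => (φ : G → ℂ) 1 * conj ((φ : G → ℂ) x₀))
    rw [sum_mul_conj, if_neg hnconj, (hYx x₀ hx₀H hx₀1).1,
      Finset.sum_congr rfl (fun φ hφ => by
        rw [(hval φ hφ).1, (hval φ hφ).2, map_sub, map_mul, Complex.conj_natCast, Complex.conj_natCast,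
          Complex.conj_natCast])] at h'
    apply Int.cast_injective (α := ℂ)
    push_cast at h' ⊢
    linear_combination h'
  · have h' := hsplit (fun φ => (φ : G → ℂ) x₀ * conj ((φ : G → ℂ) x₀))
    rw [sum_mul_conj, if_pos (IsConj.refl _), hcent, (hYx x₀ hx₀H hx₀1).2,
      Finset.sum_congr rfl (fun φ hφ => by
        rw [(hval φ hφ).2, map_sub, map_mul, Complex.conj_natCast, Complex.conj_natCast,
          Complex.conj_natCast, ← sq])] at h'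
    apply Int.cast_injective (α := ℂ)
    push_cast at h' ⊢
    linear_combination h'

end CfsgLib.SharplyEven.SuzukiOrder
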