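import Cfsg.Agent.Lib.SharplyEven.SuzukiKernel
import Cfsg.Agent.Lib.SharplyEven.CentralChar
import Cfsg.Agent.Lib.CharTheory.Linear
import Cfsg.Agent.Lib.CyclicTI.TIExc

/-!
The characters of the point stabiliser that are not constant on a Suzuki kernel: those trivial on the centre
of the kernel have degree `e` and value `e` there, the others have equal degree `e k` and value `-k` there.
-/

set_option autoImplicit false
set_option linter.unusedSectionVars false

open MulAction Cfsg CfsgLib.CharTheory CfsgLib.CyclicTI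
open scoped commutatorElement ComplexConjugate

namespace CfsgLib.SharplyEven.SuzukiT

open CfsgLib.RealChar.Zassenhaus

variable {G Ω : Type*} [Group G] [Fintype G] [MulAction G Ω] [Fintype Ω]

/-- The centre of the kernel inside the stabiliser. -/
def centreIn (a : Ω) (H : Subgroup G) : Subgroup (stabilizer G a) :=
  ((Subgroup.center H).map H.subtype).subgroupOf (stabilizer G a)

theorem mem_centreIn {a : Ω} {H : Subgroup G} {x : stabilizer G a} :
    x ∈ centreIn a H ↔ ∃ hx : (x : G) ∈ H, (⟨x, hx⟩ : H) ∈ Subgroup.center H := by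
  rw [centreIn, Subgroup.mem_subgroupOf, Subgroup.mem_map]
  constructor
  · rintro ⟨z, hz, hzx⟩
    exact ⟨hzx ▸ z.2, (show z = (⟨x, hzx ▸ z.2⟩ : H) from Subtype.ext hzx) ▸ hz⟩
  · rintro ⟨hx, hc⟩
    exact ⟨_, hc, rfl⟩

theorem exists_T (hZ : Cfsg.IsZassenhausGroup G Ω) {a b : Ω} (hab : a ≠ b) (H : Subgroup G)
    (hHa : H ≤ stabilizer G a) (hHcard : Nat.card H + 1 = Fintype.card Ω)
    (hHfix : ∀ u ∈ H, u ≠ 1 → ∀ c : Ω, u • c = c → c = a) (hna : ∃ u v : H, u * v ≠ v * u)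
    (hcomm : ∀ x y : H, ⁅x, y⁆ ∈ Subgroup.center H)
    (htrans : ∀ z ∈ Subgroup.center H, z ≠ 1 → ∀ w ∈ Subgroup.center H, w ≠ 1 →
      ∃ g ∈ (stabilizer G a ⊓ stabilizer G b : Subgroup G), g * (z : G) * g⁻¹ = (w : G))
    (h2 : IsPGroup 2 H) (q : ℕ) (hq : Nat.card (Subgroup.center H) = q)
    (he : Nat.card (stabilizer G a ⊓ stabilizer G b : Subgroup G) + 1 = q) (hq3 : 3 ≤ q)
    [Fintype (stabilizer G a)] :
    ∃ (T₀ T₁ : Finset (stabilizer G a → ℂ)) (k : ℕ),
      (↑(T₀ ∪ T₁) : Set (stabilizer G a → ℂ)) = Frob.charSet (H.subgroupOf (stabilizer G a)) ∧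
      Disjoint T₀ T₁ ∧
      (∀ χ ∈ T₀, Frob.deg χ = q - 1 ∧ ∀ z ∈ centreIn a H, χ z = ((q - 1 : ℕ) : ℂ)) ∧
      (∀ χ ∈ T₁, Frob.deg χ = (q - 1) * k ∧ ∀ z ∈ centreIn a H, z ≠ 1 → χ z = -(k : ℂ)) ∧
      q * (T₀.card * (q - 1) + 1) = Nat.card H ∧ q * (k ^ 2 * T₁.card) = Nat.card H ∧
      2 ≤ k ∧ (∃ s, k = 2 ^ s) ∧ (Nat.card H = q ^ 2 → 2 ≤ T₁.card) := by
  classical
  have hnK := Feit.subgroupOf_normal hZ H hHa hHcard hHfix
  set K := H.subgroupOf (stabilizer G a) with hK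
  set E : Subgroup G := stabilizer G a ⊓ stabilizer G b with hE
  have hKC : Frob.KernelCond K := Feit.kernelCond hZ H hHa hHcard hHfix
  have hidx : K.index = q - 1 := by rw [Feit.index_eq hZ hab H hHa hHcard, ← hE]; omega
  set Z' := centreIn a H with hZ'
  have hZK : Z' ≤ K := fun x hx => (mem_centreIn.1 hx).1
  have hconjH : ∀ g : stabilizer G a, ∀ u : G, u ∈ H → (g : G) * u * (g : G)⁻¹ ∈ H := fun g u hu =>
    kernel_conj_mem hZ a H hHa hHcard hHfix g.2 hu
  haveI hZn : Z'.Normal := by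
    refine ⟨fun x hx g => ?_⟩
    obtain ⟨hxH, hxc⟩ := mem_centreIn.1 hx
    refine mem_centreIn.2 ⟨hconjH g _ hxH, Subgroup.mem_center_iff.2 fun u => Subtype.ext ?_⟩
    have h1 : (g : G)⁻¹ * u * (g : G) ∈ H := by simpa using hconjH g⁻¹ _ u.2
    have h3 : ((g : G)⁻¹ * u * g) * x = (x : G) * ((g : G)⁻¹ * u * g) :=
      congrArg Subtype.val (Subgroup.mem_center_iff.1 hxc ⟨_, h1⟩)
    show (u : G) * ((g : G) * x * (g : G)⁻¹) = (g : G) * x * (g : G)⁻¹ * u
    calc (u : G) * ((g : G) * x * (g : G)⁻¹) = (g : G) * (((g : G)⁻¹ * u * g) * x) * (g : G)⁻¹ := by group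
      _ = (g : G) * x * (g : G)⁻¹ * u := by rw [h3]; group
  set ZK := Z'.subgroupOf K with hZKdef
  have hmemZK : ∀ x : K, x ∈ ZK ↔ (⟨((x : stabilizer G a) : G), x.2⟩ : H) ∈ Subgroup.center H := fun x =>
    ⟨fun hx => (mem_centreIn.1 hx).2, fun hx => mem_centreIn.2 ⟨_, hx⟩⟩
  let ι : K ≃* H := Subgroup.subgroupOfEquivOfLe hHa
  have hZKcard : Nat.card ZK = q := by
    rw [← hq]
    exact Nat.card_congr
      { toFun := fun x => ⟨ι x.1, (hmemZK x.1).1 x.2⟩
        invFun := fun z => ⟨ι.symm z.1, (hmemZK _).2 z.2⟩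
        left_inv := fun _ => rfl
        right_inv := fun _ => rfl }
  have hKcard : Nat.card K = Nat.card H := Nat.card_congr ι.toEquiv
  have hZKc : ZK ≤ Subgroup.center K := fun x hx => Subgroup.mem_center_iff.2 fun y =>
    ι.injective (by rw [map_mul, map_mul]; exact Subgroup.mem_center_iff.1 ((hmemZK x).1 hx) (ι y))
  have hKcomm : ∀ y x : K, ⁅y, x⁆ ∈ ZK := fun y x => (hmemZK _).2 (hcomm (ι y) (ι x))
  have hrel : Z'.relIndex K * q = Nat.card H := by
    rw [← hKcard, ← hZKcard, mul_comm]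
    exact ZK.card_mul_index
  have hKsolv : Group.IsSolvable K := by
    haveI : Fact (Nat.Prime 2) := ⟨Nat.prime_two⟩
    have : IsPGroup 2 K := h2.of_equiv ι.symm
    haveI := this.isNilpotent
    infer_instance
  -- the family
  obtain ⟨T, hT⟩ := Frob.exists_finset (H := K)
  have hTm : ∀ χ, χ ∈ T ↔ χ ∈ Frob.charSet K := fun χ => by rw [← hT]; rfl
  set T₀ := T.filter fun χ => χ ∈ inducedIrrAbove K Z' with hT₀
  set T₁ := T.filter fun χ => χ ∉ inducedIrrAbove K Z' with hT₁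
  have hunion : T₀ ∪ T₁ = T := Finset.filter_union_filter_not_eq _ T
  have hdisj : Disjoint T₀ T₁ := Finset.disjoint_filter_filter_not T T _
  have hT₀c : (↑T₀ : Set (stabilizer G a → ℂ)) = inducedIrrAbove K Z' := by
    ext χ
    rw [hT₀, Finset.coe_filter]
    exact ⟨fun h => h.2, fun h => ⟨(hTm χ).2 (Frob.above_subset hKC Z' h), h⟩⟩
  have hcomle : ⁅K, K⁆ ≤ Z' := Subgroup.commutator_le.2 fun y hy x hx => hKcomm ⟨y, hy⟩ ⟨x, hx⟩
  have hdeg₀ : ∀ χ ∈ T₀, Frob.deg χ = q - 1 := fun χ hχ => by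
    rw [← hidx]
    exact Frob.deg_eq (degree_of_commutator_le hcomle (hT₀c ▸ Finset.mem_coe.2 hχ : χ ∈ inducedIrrAbove K Z'))
  have hq1 : 0 < q - 1 := by omega
  have hR1 : 1 ≤ Z'.relIndex K := Nat.one_le_iff_ne_zero.2 Subgroup.index_ne_zero_of_finite
  have hcard₀ : T₀.card * (q - 1) + 1 = Z'.relIndex K := by
    have h := Frob.sum_sq hKC Z' T₀ hT₀c
    rw [Finset.sum_congr rfl (fun χ hχ => by rw [hdeg₀ χ hχ]), Finset.sum_const, smul_eq_mul, hidx, sq,
      ← mul_assoc, mul_comm (q - 1) (Z'.relIndex K - 1)] at h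
    have := Nat.eq_of_mul_eq_mul_right hq1 h
    omega
  have hval₀ : ∀ χ ∈ T₀, ∀ z ∈ Z', χ z = ((q - 1 : ℕ) : ℂ) := by
    intro χ hχ z hz
    have hχ' : χ ∈ inducedIrrAbove K Z' := hT₀c ▸ Finset.mem_coe.2 hχ
    obtain ⟨θ, hθ, -, hθZ, rfl⟩ := id hχ'
    rw [(indFun_const_iff K Z' hZK hθ).2 hθZ z hz,
      Frob.apply_one (Frob.irr_of_mem hKC hχ'), hdeg₀ _ hχ]
  -- the central characters
  letI : CommGroup ZK := { (inferInstance : Group ZK) with
    mul_comm := fun x y => Subtype.ext (Subgroup.mem_center_iff.1 (hZKc y.2) x) }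
  haveI : HasEnoughRootsOfUnity ℂ (Monoid.exponent ZK) := by
    haveI : NeZero (Monoid.exponent ZK) := ⟨Monoid.exponent_ne_zero_of_finite⟩
    infer_instance
  haveI : Finite (ZK →* ℂˣ) := Nat.finite_of_card_ne_zero (by
    rw [CommGroup.card_monoidHom_of_hasEnoughRootsOfUnity]; exact Nat.card_pos.ne')
  haveI := Fintype.ofFinite (ZK →* ℂˣ)
  have hconjZ : ∀ g : stabilizer G a, ∀ w : ZK,
      (MulAut.conjNormal g (w : K) : K) ∈ ZK := fun g w => by
    show g * ((w : K) : stabilizer G a) * g⁻¹ ∈ Z'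
    exact hZn.conj_mem _ w.2 g
  let cZ : stabilizer G a → (ZK →* ZK) := fun g =>
    MonoidHom.mk' (fun w => ⟨MulAut.conjNormal g (w : K), hconjZ g w⟩) fun v w =>
      Subtype.ext (map_mul (MulAut.conjNormal g) (v : K) (w : K))
  have hEfix : ∀ (d : stabilizer G a) (w : ZK), (d : G) ∈ E → d ≠ 1 → cZ d w = w → w = 1 := by
    intro d w hd hd1 hdw
    by_contra hw1
    have h1 : (d : G) * ((w : K) : stabilizer G a) * (d : G)⁻¹ = (((w : K) : stabilizer G a) : G) :=
      congrArg (fun x : ZK => (((x : K) : stabilizer G a) : G)) hdw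
    have hmem : (d : G) ∈ Subgroup.centralizer ({(((w : K) : stabilizer G a) : G)} : Set G) := by
      rw [Subgroup.mem_centralizer_singleton_iff]
      exact mul_inv_eq_iff_eq_mul.1 h1
    have hdH := Feit.centralizer_le hZ H hHa hHcard hHfix (k := (((w : K) : stabilizer G a) : G)) (w : K).2
      (fun e => hw1 (Subtype.ext (Subtype.ext (Subtype.ext e)))) hmem
    exact hab (hHfix _ hdH (fun e => hd1 (Subtype.ext e)) b hd.2).symm
  have horbit : ∀ ω ω' : ZK →* ℂˣ, ω ≠ 1 → ω' ≠ 1 → ∃ g : stabilizer G a, ω' = ω.comp (cZ g) := by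
    intro ω ω' hω hω'
    let E' := (stabilizer G b).subgroupOf (stabilizer G a)
    let F : E' → {f : ZK →* ℂˣ // f ≠ 1} := fun g => ⟨ω.comp (cZ g.1), fun e => hω (MonoidHom.ext fun w => by
      have h := DFunLike.congr_fun e (cZ g.1⁻¹ w)
      rw [MonoidHom.comp_apply, MonoidHom.one_apply] at h
      rw [MonoidHom.one_apply, ← h]
      congr 1
      refine Subtype.ext ?_
      show (w : K) = MulAut.conjNormal g.1 (MulAut.conjNormal g.1⁻¹ (w : K))
      rw [← MulAut.mul_apply, ← map_mul, mul_inv_cancel, map_one]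
      rfl)⟩
    have hFinj : Function.Injective F := by
      intro g g' hgg
      by_contra hne
      have hd1 : g.1 * g'.1⁻¹ ≠ 1 := fun e => hne (Subtype.ext (mul_inv_eq_one.1 e))
      have hdE : ((g.1 * g'.1⁻¹ : stabilizer G a) : G) ∈ E :=
        ⟨(g.1 * g'.1⁻¹).2, (mul_mem g.2 (inv_mem g'.2) : g.1 * g'.1⁻¹ ∈ E')⟩
      set d := g.1 * g'.1⁻¹ with hd
      have hωd : ∀ w : ZK, ω (cZ d w) = ω w := fun w => by
        have h := DFunLike.congr_fun (congrArg Subtype.val hgg) (cZ g'.1⁻¹ w)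
        simp only [F, MonoidHom.comp_apply] at h
        have e1 : cZ g.1 (cZ g'.1⁻¹ w) = cZ d w := Subtype.ext (by
          show MulAut.conjNormal g.1 (MulAut.conjNormal g'.1⁻¹ (w : K)) = MulAut.conjNormal d (w : K)
          rw [← MulAut.mul_apply, ← map_mul, ← hd])
        have e2 : cZ g'.1 (cZ g'.1⁻¹ w) = w := Subtype.ext (by
          show MulAut.conjNormal g'.1 (MulAut.conjNormal g'.1⁻¹ (w : K)) = (w : K)
          rw [← MulAut.mul_apply, ← map_mul, mul_inv_cancel, map_one]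
          rfl)
        rw [e1, e2] at h
        exact h
      let ψ : ZK → ZK := fun w => cZ d w * w⁻¹
      have hψ : Function.Injective ψ := fun v w hvw => by
        refine mul_inv_eq_one.1 (hEfix d (v * w⁻¹) hdE hd1 ?_)
        rw [map_mul, map_inv]
        simp only [ψ] at hvw
        calc cZ d v * (cZ d w)⁻¹ = (cZ d v * v⁻¹) * v * (cZ d w)⁻¹ := by rw [inv_mul_cancel_right]
          _ = (cZ d w * w⁻¹) * v * (cZ d w)⁻¹ := by rw [hvw]
          _ = v * w⁻¹ := by
              rw [mul_comm (cZ d w * w⁻¹) v, mul_assoc, mul_comm (cZ d w) w⁻¹, mul_assoc, mul_inv_cancel,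
                mul_one]
      refine hω (MonoidHom.ext fun w => ?_)
      obtain ⟨v, rfl⟩ := Finite.surjective_of_injective hψ w
      rw [MonoidHom.one_apply, map_mul, hωd, map_inv, mul_inv_cancel]
    have hcardF : Nat.card E' = Nat.card {f : ZK →* ℂˣ // f ≠ 1} := by
      have hE' : Nat.card E' = Nat.card E := Nat.card_congr
        { toFun := fun x => ⟨x.1.1, x.1.2, x.2⟩
          invFun := fun x => ⟨⟨x.1, x.2.1⟩, x.2.2⟩
          left_inv := fun _ => rfl
          right_inv := fun _ => rfl }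
      rw [hE', Nat.card_eq_fintype_card (α := {f : ZK →* ℂˣ // f ≠ 1}), Fintype.card_subtype_compl,
        Fintype.card_subtype_eq, ← Nat.card_eq_fintype_card, CommGroup.card_monoidHom_of_hasEnoughRootsOfUnity,
        hZKcard]
      have hh : Nat.card E + 1 = q := he
      omega
    obtain ⟨g, hg⟩ := ((Nat.bijective_iff_injective_and_card F).2 ⟨hFinj, hcardF⟩).2 ⟨ω', hω'⟩
    exact ⟨g.1, (congrArg Subtype.val hg).symm⟩
  have hrad : ∀ ω ω' : ZK →* ℂˣ, ω ≠ 1 → ω' ≠ 1 →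
      Nat.card (CentralChar.Radical ZK ω) = Nat.card (CentralChar.Radical ZK ω') := by
    intro ω ω' hω hω'
    obtain ⟨g, rfl⟩ := horbit ω ω' hω hω'
    refine (Nat.card_congr (Equiv.subtypeEquiv (MulAut.conjNormal (H := K) g).toEquiv fun x => ?_)).symm
    simp only [CentralChar.Radical, Set.mem_setOf_eq, MulEquiv.toEquiv_eq_coe, EquivLike.coe_coe]
    have hkey : ∀ y : K, ω ⟨⁅MulAut.conjNormal g y, MulAut.conjNormal g x⁆, hKcomm _ _⟩
        = ω (cZ g ⟨⁅y, x⁆, hKcomm y x⟩) := fun y => by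
      congr 1
      exact Subtype.ext (map_commutatorElement (MulAut.conjNormal (H := K) g) y x).symm
    constructor
    · intro hx y _
      obtain ⟨y', rfl⟩ := (MulAut.conjNormal (H := K) g).surjective y
      rw [hkey]
      exact hx y' (hKcomm _ _)
    · intro hx y _
      rw [MonoidHom.comp_apply, ← hkey]
      exact hx _ (hKcomm _ _)
  -- the characters not trivial on the centre
  have hmem₁ : ∀ χ ∈ T₁, ∃ (θ : K → ℂ) (ω : ZK →* ℂˣ) (k : ℕ), IsIrrCharacter K θ ∧ χ = indFun K θ ∧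
      ω ≠ 1 ∧ θ 1 = (k : ℂ) ∧ (∀ z : ZK, θ z = (ω z : ℂ) * θ 1) ∧ (∃ s, k = 2 ^ s) ∧
      k ^ 2 * Nat.card (CentralChar.Radical ZK ω) = Nat.card H ∧ Frob.deg χ = (q - 1) * k := by
    intro χ hχ
    rw [hT₁, Finset.mem_filter] at hχ
    obtain ⟨hχT, hχn⟩ := hχ
    have hχ' := (hTm χ).1 hχT
    rw [Frob.charSet_eq hKC] at hχ'
    obtain ⟨θ, hθ, hθ1, -, rfl⟩ := hχ'
    obtain ⟨ω, hω1, -, hω3⟩ := CentralChar.exists_central_hom ZK hZKc hKcomm hθ
    obtain ⟨k, -, hkd, hk⟩ := IsIrrCharacter.exists_degree_dvd hθ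
    refine ⟨θ, ω, k, hθ, rfl, fun e => hχn ⟨θ, hθ, hθ1, fun z hz => ?_, rfl⟩, hk, hω1, ?_, ?_, ?_⟩
    · have := hω1 ⟨z, hz⟩
      rw [e, MonoidHom.one_apply, Units.val_one, one_mul] at this
      exact this
    · haveI : Fact (Nat.Prime 2) := ⟨Nat.prime_two⟩
      obtain ⟨j, hj⟩ := IsPGroup.iff_card.1 h2
      rw [hKcard, hj] at hkd
      obtain ⟨s, -, hs⟩ := (Nat.dvd_prime_pow Nat.prime_two).1 hkd
      exact ⟨s, hs⟩
    · rw [← hKcard]; exact hω3 k hk
    · rw [← hidx]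
      exact Frob.deg_eq (by rw [CfsgLib.Frobenius.indFun_one, hk, Nat.cast_mul])
  have hT₁ne : T₁.Nonempty := by
    by_contra hno
    rw [Finset.not_nonempty_iff_eq_empty] at hno
    have h := Frob.sum_sq hKC ⊥ T (hT.trans (Frob.charSet_eq hKC))
    rw [← hunion, hno, Finset.union_empty, Finset.sum_congr rfl (fun χ hχ => by rw [hdeg₀ χ hχ]),
      Finset.sum_const, smul_eq_mul, hidx, Subgroup.relIndex_bot_left, hKcard, sq, ← mul_assoc,
      mul_comm (q - 1) (Nat.card H - 1)] at h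
    have h' := Nat.eq_of_mul_eq_mul_right hq1 h
    have : 0 < Nat.card H := Nat.card_pos
    have h'' : Nat.card H = Z'.relIndex K := by omega
    have : Z'.relIndex K * 3 ≤ Z'.relIndex K * q := Nat.mul_le_mul_left _ hq3
    omega
  obtain ⟨χ₁, hχ₁⟩ := hT₁ne
  obtain ⟨θ₁, ω₁, k, hθ₁, -, hω₁, hk₁, -, hk2, hkR, -⟩ := hmem₁ χ₁ hχ₁
  have hR0 : 0 < Nat.card (CentralChar.Radical ZK ω₁) := by
    rcases Nat.eq_zero_or_pos (Nat.card (CentralChar.Radical ZK ω₁)) with e | e
    · rw [e, mul_zero] at hkR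
      exact absurd hkR.symm Nat.card_pos.ne'
    · exact e
  have hval₁ : ∀ χ ∈ T₁, Frob.deg χ = (q - 1) * k ∧ ∀ z ∈ Z', z ≠ 1 → χ z = -(k : ℂ) := by
    intro χ hχ
    obtain ⟨θ, ω, k', hθ, rfl, hω, hk', hωθ, -, hk'R, hdeg⟩ := hmem₁ χ hχ
    obtain rfl : k' = k := by
      rw [hrad ω ω₁ hω hω₁, ← hkR] at hk'R
      exact Nat.pow_left_injective two_ne_zero (Nat.eq_of_mul_eq_mul_right hR0 hk'R)
    refine ⟨hdeg, fun z hz hz1 => ?_⟩
    have hcl := CfsgLib.Frobenius.indFun_isClassFunction K θ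
    have hconst : ∀ w ∈ Z', w ≠ 1 → indFun K θ w = indFun K θ z := by
      intro w hw hw1
      obtain ⟨hzH, hzc⟩ := mem_centreIn.1 hz
      obtain ⟨hwH, hwc⟩ := mem_centreIn.1 hw
      obtain ⟨g, hg, hgz⟩ := htrans _ hzc (fun e => hz1 (Subtype.ext (congrArg Subtype.val e :))) _ hwc
        (fun e => hw1 (Subtype.ext (congrArg Subtype.val e :)))
      have h := hcl z ⟨g, hg.1⟩
      rwa [show (⟨g, hg.1⟩ : stabilizer G a) * z * ⟨g, hg.1⟩⁻¹ = w from Subtype.ext hgz] at h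
    have hzero : ∑ w : ZK, indFun K θ (w : K) = 0 := by
      simp only [indFun, ← Finset.mul_sum]
      rw [Finset.sum_comm]
      have hx : ∀ x : stabilizer G a, ∑ w : ZK, extendByZero K θ (x⁻¹ * ((w : K) : stabilizer G a) * x) = 0 := by
        intro x
        have hrw : ∀ w : ZK, extendByZero K θ (x⁻¹ * ((w : K) : stabilizer G a) * x)
            = ((ω (cZ x⁻¹ w)) : ℂ) * θ 1 := fun w => by
          rw [← hωθ (cZ x⁻¹ w), show x⁻¹ * ((w : K) : stabilizer G a) * x
            = (((cZ x⁻¹ w : ZK) : K) : stabilizer G a) by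
              show _ = x⁻¹ * ((w : K) : stabilizer G a) * x⁻¹⁻¹
              rw [inv_inv], CfsgLib.Frobenius.extendByZero_coe]
        rw [Finset.sum_congr rfl fun w _ => hrw w, ← Finset.sum_mul]
        let φ : ZK →* ℂ := (Units.coeHom ℂ).comp (ω.comp (cZ x⁻¹))
        rw [show ∑ w : ZK, ((ω (cZ x⁻¹ w)) : ℂ) = ∑ w : ZK, φ w from rfl, sum_hom_units_eq_zero φ (fun e => hω ?_),
          zero_mul]
        refine MonoidHom.ext fun w => ?_
        have h := DFunLike.congr_fun e (cZ x w)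
        have e2 : cZ x⁻¹ (cZ x w) = w := Subtype.ext (by
          show MulAut.conjNormal x⁻¹ (MulAut.conjNormal x (w : K)) = (w : K)
          rw [← MulAut.mul_apply, ← map_mul, inv_mul_cancel, map_one]
          rfl)
        simp only [φ, MonoidHom.comp_apply, e2, Units.coeHom_apply, MonoidHom.one_apply] at h
        exact Units.ext h
      rw [Finset.sum_eq_zero fun x _ => hx x, mul_zero]
    rw [Fintype.sum_eq_add_sum_compl (1 : ZK), Finset.sum_congr rfl (fun w hw => hconst _ w.2 (fun e => by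
        simp only [Finset.mem_compl, Finset.mem_singleton] at hw
        exact hw (Subtype.ext (Subtype.ext e)))), Finset.sum_const, Finset.card_compl, Finset.card_singleton,
      ← Nat.card_eq_fintype_card, hZKcard, nsmul_eq_mul] at hzero
    rw [show ((((1 : ZK) : K) : stabilizer G a)) = 1 from rfl, CfsgLib.Frobenius.indFun_one, hk', hidx] at hzero
    have hne : ((q - 1 : ℕ) : ℂ) ≠ 0 := Nat.cast_ne_zero.2 hq1.ne'
    exact mul_left_cancel₀ hne (by linear_combination hzero)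
  have hsplit : q * (k ^ 2 * T₁.card) = Nat.card H := by
    have h := Frob.sum_sq hKC ⊥ T (hT.trans (Frob.charSet_eq hKC))
    rw [← hunion, Finset.sum_union hdisj, Finset.sum_congr rfl (fun χ hχ => by rw [hdeg₀ χ hχ]),
      Finset.sum_congr (s₁ := T₁) rfl (fun χ hχ => by rw [(hval₁ χ hχ).1]),
      Finset.sum_const, Finset.sum_const, smul_eq_mul, smul_eq_mul, hidx, Subgroup.relIndex_bot_left,
      hKcard] at h
    have h' : (q - 1) * (T₀.card + k ^ 2 * T₁.card) = Nat.card H - 1 :=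
      Nat.eq_of_mul_eq_mul_left hq1 (by rw [← h]; ring)
    obtain ⟨e, rfl⟩ : ∃ e, q = e + 1 := ⟨q - 1, by omega⟩
    rw [Nat.add_sub_cancel] at h' hcard₀ hq1
    have hpos : 0 < Nat.card H := Nat.card_pos
    have h'' : e * ((e + 1) * (k ^ 2 * T₁.card)) = e * Nat.card H := by
      rw [← hrel, ← hcard₀]
      have hH : e * (T₀.card + k ^ 2 * T₁.card) + 1 = (T₀.card * e + 1) * (e + 1) := by
        rw [hcard₀, hrel]; omega
      nlinarith
    exact Nat.eq_of_mul_eq_mul_left hq1 h''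
  refine ⟨T₀, T₁, k, by rw [hunion, hT], hdisj, fun χ hχ => ⟨hdeg₀ χ hχ, hval₀ χ hχ⟩, hval₁,
    by rw [hcard₀, mul_comm, hrel], hsplit, ?_, hk2, fun hH2 => ?_⟩
  · obtain ⟨s, rfl⟩ := hk2
    rcases s with - | s
    · exfalso
      rw [pow_zero, one_pow, one_mul, ← hKcard, Nat.card_eq_fintype_card, Nat.card_eq_fintype_card] at hkR
      obtain ⟨u, v, huv⟩ := hna
      have hall : ∀ ω : ZK →* ℂˣ, ω ⟨⁅ι.symm u, ι.symm v⁆, hKcomm _ _⟩ = 1 := by
        intro ω
        by_cases hω : ω = 1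
        · rw [hω, MonoidHom.one_apply]
        have hR : Nat.card (CentralChar.Radical ZK ω) = Nat.card K := by
          rw [hrad ω ω₁ hω hω₁, Nat.card_eq_fintype_card, Nat.card_eq_fintype_card, hkR]
        have huniv : CentralChar.Radical ZK ω = Set.univ :=
          (Set.eq_univ_iff_ncard _).2 (by rw [← Nat.card_coe_set_eq, hR])
        exact (huniv ▸ Set.mem_univ (ι.symm v) : ι.symm v ∈ CentralChar.Radical ZK ω) (ι.symm u) (hKcomm _ _)
      by_cases hne : (⟨⁅ι.symm u, ι.symm v⁆, hKcomm _ _⟩ : ZK) = 1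
      · refine huv (ι.symm.injective ?_)
        rw [map_mul, map_mul]
        exact commutatorElement_eq_one_iff_mul_comm.1 (congrArg Subtype.val hne)
      · obtain ⟨ω, hω⟩ := CommGroup.exists_apply_ne_one_of_hasEnoughRootsOfUnity ZK ℂ hne
        exact hω (hall ω)
    · calc 2 = 2 ^ 1 := rfl
        _ ≤ _ := Nat.pow_le_pow_right (by norm_num) (by omega)
  · obtain ⟨x, hx⟩ : ∃ x : K, x ∉ ZK := by
      by_contra hno
      push Not at hno
      have h1 : Nat.card ZK = Nat.card K := by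
        rw [(Subgroup.eq_top_iff' ZK).2 hno, Subgroup.card_top]
      rw [hZKcard, hKcard, hH2] at h1
      nlinarith
    let f : K →* ZK := MonoidHom.mk' (fun y => ⟨⁅y, x⁆, hKcomm y x⟩) fun y y' => Subtype.ext (by
      show ⁅y * y', x⁆ = ⁅y, x⁆ * ⁅y', x⁆
      have hc := Subgroup.mem_center_iff.1 (hZKc (hKcomm y' x)) y
      calc ⁅y * y', x⁆ = y * ⁅y', x⁆ * y⁻¹ * ⁅y, x⁆ := by simp [commutatorElement_def, mul_assoc]
        _ = ⁅y', x⁆ * ⁅y, x⁆ := by rw [hc]; group
        _ = ⁅y, x⁆ * ⁅y', x⁆ := (Subgroup.mem_center_iff.1 (hZKc (hKcomm y' x)) _).symm)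
    have hker : q < Nat.card f.ker := by
      have hle : ZK ≤ f.ker := fun z hz => Subtype.ext (commutatorElement_eq_one_iff_mul_comm.2
        (Subgroup.mem_center_iff.1 (hZKc hz) x).symm)
      have hxk : x ∈ f.ker := Subtype.ext (commutatorElement_self x)
      rw [← hZKcard]
      refine lt_of_le_of_ne (Subgroup.card_le_of_le hle) fun e => hx ?_
      rw [Subgroup.eq_of_le_of_card_ge hle e.ge]; exact hxk
    have hrange : f.range ≠ ⊤ := by
      intro e
      have h1 := f.ker.card_mul_index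
      rw [Subgroup.index_ker, e, Subgroup.card_top, hZKcard, hKcard, hH2] at h1
      nlinarith
    obtain ⟨w, hw⟩ : ∃ w : ZK, w ∉ f.range := by
      by_contra hno
      push Not at hno
      exact hrange ((Subgroup.eq_top_iff' _).2 hno)
    haveI : HasEnoughRootsOfUnity ℂ (Monoid.exponent (ZK ⧸ f.range)) := by
      haveI : NeZero (Monoid.exponent (ZK ⧸ f.range)) := ⟨Monoid.exponent_ne_zero_of_finite⟩
      infer_instance
    obtain ⟨ψ, hψ⟩ := CommGroup.exists_apply_ne_one_of_hasEnoughRootsOfUnity (ZK ⧸ f.range) ℂ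
      (a := QuotientGroup.mk' f.range w) (fun e => hw ((QuotientGroup.eq_one_iff w).1 e))
    set ω : ZK →* ℂˣ := ψ.comp (QuotientGroup.mk' f.range) with hω
    have hω1 : ω ≠ 1 := fun e => hψ (DFunLike.congr_fun e w)
    have hxR : x ∈ CentralChar.Radical ZK ω := fun y h => by
      show ψ (QuotientGroup.mk' f.range ⟨⁅y, x⁆, h⟩) = 1
      rw [show QuotientGroup.mk' f.range ⟨⁅y, x⁆, h⟩ = 1 from (QuotientGroup.eq_one_iff _).2 ⟨y, rfl⟩, map_one]
    have hZR : ∀ z ∈ ZK, z ∈ CentralChar.Radical ZK ω := fun z hz y h => by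
      have : (⟨⁅y, z⁆, h⟩ : ZK) = 1 := Subtype.ext (commutatorElement_eq_one_iff_mul_comm.2
        (Subgroup.mem_center_iff.1 (hZKc hz) y))
      rw [this, map_one]
    have hlt : q < Nat.card (CentralChar.Radical ZK ω) := by
      rw [← hZKcard, Nat.card_coe_set_eq, ← SetLike.coe_sort_coe, Nat.card_coe_set_eq]
      exact Set.ncard_lt_ncard (Set.ssubset_iff_of_subset hZR |>.2 ⟨x, hxR, hx⟩)
    rw [hrad ω ω₁ hω1 hω₁] at hlt
    by_contra hlt2
    push Not at hlt2
    rw [hH2] at hsplit hkR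
    have hk2q : k ^ 2 < q := by
      by_contra hge
      push Not at hge
      nlinarith
    have hkT : k ^ 2 * T₁.card = q :=
      Nat.eq_of_mul_eq_mul_left (show 0 < q by omega) (hsplit.trans (sq q))
    rcases (show T₁.card = 0 ∨ T₁.card = 1 by omega) with e | e
    · rw [e, mul_zero] at hkT; omega
    · rw [e, mul_one] at hkT; omega

end CfsgLib.SharplyEven.SuzukiT
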